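import Cfsg.Agent.H13.Induced
import Cfsg.Agent.H13.Linear

/-!
# Artin's induction theorem
-/

set_option autoImplicit false
set_option linter.unusedSectionVars false

open Cfsg
open scoped ComplexConjugate

namespace H13

universe u

open scoped Classical in
/-- `|A|` on the generators of `A`, zero elsewhere. -/
noncomputable def genFun (A : Type u) [Group A] : A → ℂ :=
  fun a => if Subgroup.zpowers a = ⊤ then (Nat.card A : ℂ) else 0

theorem indFun_genFun {G : Type u} [Group G] [Fintype G] (A : Subgroup G) (g : G) :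
    indFun A (genFun A) g = (Nat.card {x : G // Subgroup.zpowers (x⁻¹ * g * x) = A} : ℂ) := by
  classical
  unfold indFun
  have h : ∀ x : G, extendByZero A (genFun A) (x⁻¹ * g * x)
      = if Subgroup.zpowers (x⁻¹ * g * x) = A then (Nat.card A : ℂ) else 0 := by
    intro x
    by_cases hx : x⁻¹ * g * x ∈ A
    · rw [extendByZero_mem _ _ hx]
      unfold genFun
      have hiff : Subgroup.zpowers (⟨_, hx⟩ : A) = ⊤ ↔ Subgroup.zpowers (x⁻¹ * g * x) = A := by
        rw [← (Subgroup.map_injective A.subtype_injective).eq_iff, MonoidHom.map_zpowers,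
          ← MonoidHom.range_eq_map, Subgroup.range_subtype]
        rfl
      simp only [hiff]
    · rw [extendByZero_notMem _ _ hx, if_neg]
      exact fun h => hx (h ▸ Subgroup.mem_zpowers _)
  have h0 : (Nat.card A : ℂ) ≠ 0 := Nat.cast_ne_zero.2 Nat.card_pos.ne'
  rw [Finset.sum_congr rfl fun x _ => h x, ← Finset.sum_filter, Finset.sum_const, nsmul_eq_mul,
    Nat.card_eq_fintype_card (α := {x : G // Subgroup.zpowers (x⁻¹ * g * x) = A}),
    Fintype.card_subtype]
  field_simp

open scoped Classical in
theorem sum_indFun_genFun (G : Type u) [Group G] [Fintype G] (g : G) :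
    ∑ A ∈ Finset.univ.filter (fun A : Subgroup G => IsCyclic A), indFun A (genFun A) g
      = (Nat.card G : ℂ) := by
  simp only [indFun_genFun, Nat.card_eq_fintype_card, Fintype.card_subtype]
  rw [← Nat.cast_sum, ← Finset.card_univ (α := G),
    Finset.card_eq_sum_card_fiberwise (f := fun x : G => Subgroup.zpowers (x⁻¹ * g * x))
      (t := Finset.univ.filter (fun A : Subgroup G => IsCyclic A))
      (fun x _ => by simpa using (inferInstance : IsCyclic (Subgroup.zpowers (x⁻¹ * g * x))))]

theorem isGeneralizedCharacter_natCast (G : Type u) [Group G] (n : ℕ) :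
    IsGeneralizedCharacter G (fun _ => (n : ℂ)) := by
  refine ⟨(n : ℂ) • (fun _ => 1), 0, H12.IsCharacter.natCast_smul H12.isCharacter_one n,
    H12.isCharacter_zero, ?_⟩
  funext g
  simp

theorem isGeneralizedCharacter_genFun : ∀ (n : ℕ) (A : Type u) [Group A] [Fintype A],
    Nat.card A = n → IsCyclic A → IsGeneralizedCharacter A (genFun A) := by
  intro n
  induction n using Nat.strong_induction_on with
  | _ n ih =>
    intro A _ _ hn hcyc
    classical
    let S := Finset.univ.filter (fun B : Subgroup A => IsCyclic B)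
    have hTop : (⊤ : Subgroup A) ∈ S := by
      simp only [S, Finset.mem_filter, Finset.mem_univ, true_and]
      exact isCyclic_of_surjective (Subgroup.topEquiv (G := A)).symm
        (Subgroup.topEquiv (G := A)).symm.surjective
    have hind : indFun (⊤ : Subgroup A) (genFun (⊤ : Subgroup A)) = genFun A := by
      funext a
      rw [indFun_genFun]
      have hiff : ∀ x : A, Subgroup.zpowers (x⁻¹ * a * x) = (⊤ : Subgroup A)
          ↔ Subgroup.zpowers a = ⊤ := fun x => by
        have : x⁻¹ * a * x = a := by
          obtain ⟨g, hg⟩ := hcyc.exists_generator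
          obtain ⟨i, rfl⟩ := hg x
          obtain ⟨j, rfl⟩ := hg a
          group
        rw [this]
      simp only [hiff]
      unfold genFun
      split_ifs with h
      · rw [Nat.cast_inj]; exact Nat.card_congr (Equiv.subtypeUnivEquiv fun _ => h)
      · haveI : IsEmpty {x : A // Subgroup.zpowers a = ⊤} := ⟨fun x => h x.2⟩
        simp
    have hrest : ∀ B ∈ S.erase ⊤, IsGeneralizedCharacter A (indFun B (genFun B)) := by
      intro B hB
      obtain ⟨hne, hBS⟩ := Finset.mem_erase.1 hB
      refine isGeneralizedCharacter_indFun B (ih (Nat.card B) ?_ B rfl (by simpa [S] using hBS))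
      rw [← hn]
      exact lt_of_le_of_ne (Subgroup.card_le_card_group B)
        (fun h => hne (Subgroup.card_eq_iff_eq_top B |>.1 h))
    have key : genFun A
        = (fun _ => (Nat.card A : ℂ)) - ∑ B ∈ S.erase ⊤, indFun B (genFun B) := by
      funext a
      have h := sum_indFun_genFun A a
      rw [← Finset.add_sum_erase S _ hTop, hind] at h
      rw [Pi.sub_apply, Finset.sum_apply, eq_sub_iff_add_eq]
      exact h
    rw [key]
    have hsum : IsGeneralizedCharacter A (∑ B ∈ S.erase ⊤, indFun B (genFun B)) := by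
      refine Finset.sum_induction _ (IsGeneralizedCharacter A) ?_ ?_ hrest
      · rintro _ _ ⟨a, b, ha, hb, rfl⟩ ⟨c, d, hc, hd, rfl⟩
        exact ⟨a + c, b + d, H12.IsCharacter.add ha hc, H12.IsCharacter.add hb hd, by abel⟩
      · exact ⟨0, 0, H12.isCharacter_zero, H12.isCharacter_zero, by simp⟩
    obtain ⟨a, b, ha, hb, e1⟩ := isGeneralizedCharacter_natCast A (Nat.card A)
    obtain ⟨c, d, hc, hd, e2⟩ := hsum
    rw [e1, e2]
    exact ⟨a + d, b + c, H12.IsCharacter.add ha hd, H12.IsCharacter.add hb hc, by abel⟩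

/-- Artin's induction theorem. -/
theorem artin_induction {G : Type u} [Group G] [Fintype G] {χ : G → ℂ} (hχ : IsCharacter G χ) :
    ∃ l : List ((A : Subgroup G) × ((A →* ℂˣ) × ℤ)), (∀ t ∈ l, IsCyclic t.1) ∧
      (Nat.card G : ℂ) • χ
        = (l.map fun t => (t.2.2 : ℂ) • indFun t.1 (fun a => (t.2.1 a : ℂ))).sum := by
  classical
  let S := Finset.univ.filter (fun A : Subgroup G => IsCyclic A)
  have hcl := H12.IsCharacter.isClassFunction hχ
  have hdecomp : (Nat.card G : ℂ) • χ
      = ∑ A ∈ S, indFun A (fun a : A => genFun A a * χ a) := by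
    funext g
    rw [Pi.smul_apply, smul_eq_mul, ← sum_indFun_genFun G g, Finset.sum_apply, Finset.sum_mul]
    refine Finset.sum_congr rfl fun A _ => ?_
    unfold indFun
    rw [mul_assoc, Finset.sum_mul]
    congr 1
    refine Finset.sum_congr rfl fun x _ => ?_
    by_cases hx : x⁻¹ * g * x ∈ A
    · rw [extendByZero_mem _ _ hx, extendByZero_mem _ _ hx]
      congr 1
      rw [← hcl g x⁻¹, inv_inv]
    · rw [extendByZero_notMem _ _ hx, extendByZero_notMem _ _ hx, zero_mul]
  let hlist : ∀ A : Subgroup G, A ∈ S → ∃ l : List ((A : Subgroup G) × ((A →* ℂˣ) × ℤ)),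
      (∀ t ∈ l, IsCyclic t.1) ∧ indFun A (fun a : A => genFun A a * χ a)
        = (l.map fun t => (t.2.2 : ℂ) • indFun t.1 (fun a => (t.2.1 a : ℂ))).sum := by
    intro A hA
    have hcyc : IsCyclic A := (Finset.mem_filter.1 hA).2
    haveI : Fintype A := Fintype.ofFinite A
    obtain ⟨p, q, hp, hq, hpq⟩ := isGeneralizedCharacter_genFun (Nat.card A) A rfl hcyc
    have hgen : IsGeneralizedCharacter A (fun a : A => genFun A a * χ a) := by
      refine ⟨_, _, H12.IsCharacter.mul hp (H12.IsCharacter.res hχ A),
        H12.IsCharacter.mul hq (H12.IsCharacter.res hχ A), ?_⟩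
      funext a
      simp [hpq, sub_mul]
    obtain ⟨hcf, hint⟩ := H12.isGeneralizedCharacter_iff.1 hgen
    choose z hz using hint
    have hlin : ∀ lam : IrrCharacter A, (lam : A → ℂ) 1 = 1 := by
      refine degree_one_of_commutative fun a b => ?_
      obtain ⟨g, hg⟩ := hcyc.exists_generator
      obtain ⟨i, rfl⟩ := hg a
      obtain ⟨j, rfl⟩ := hg b
      exact ((Commute.refl g).zpow_zpow i j).eq
    refine ⟨(Finset.univ : Finset (IrrCharacter A)).toList.map
      (fun lam => ⟨A, linHom (H12.isCharacter_irr lam) (hlin lam), z lam⟩), ?_, ?_⟩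
    · intro t ht
      obtain ⟨lam, -, rfl⟩ := List.mem_map.1 ht
      exact hcyc
    · rw [List.map_map, Finset.sum_map_toList]
      conv_lhs => rw [H12.classFunction_eq_sum hcf]
      rw [indFun_sum]
      refine Finset.sum_congr rfl fun lam _ => ?_
      rw [indFun_smul, hz lam]
      rfl
  choose L hL using hlist
  refine ⟨S.attach.toList.flatMap fun A => L A.1 A.2, ?_, ?_⟩
  · intro t ht
    obtain ⟨A, -, hA⟩ := List.mem_flatMap.1 ht
    exact (hL A.1 A.2).1 t hA
  · rw [hdecomp, List.map_flatMap, List.flatMap_def, List.sum_flatten, List.map_map,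
      ← Finset.sum_attach, ← Finset.sum_map_toList]
    exact congrArg List.sum (List.map_congr_left fun A _ => (hL A.1 A.2).2)

end H13
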