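import Cfsg.Agent.H13.CNOdd
import Cfsg.Prelude.Def_OddOrder

set_option autoImplicit false

open Cfsg

namespace H13.CN

/-- There is no minimal simple CN-group of odd order. -/
theorem false_of_minSimpleOdd {G : Type*} [Group G] [Finite G] (hG : Cfsg.IsMinSimpleOddOrder G)
    (hCN : Cfsg.IsCNGroup G) : False := by
  obtain ⟨hodd, hs, hnc, -⟩ := hG
  haveI := hs
  haveI := H13.CN.solvable_of_odd hodd hCN
  exact hnc ⟨⟨fun a b => (IsSimpleGroup.comm_iff_isSolvable.2 inferInstance) a b⟩⟩

end H13.CN
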