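import Mathlib.GroupTheory.CommutingProbability
import Mathlib.GroupTheory.Subgroup.Centralizer
import Mathlib.GroupTheory.Complement
import Mathlib.Tactic

/-!
# Counting conjugacy classes of a Frobenius group
-/

namespace H13

variable {G : Type*} [Group G] [Fintype G]

open Classical in
theorem sum_centralizer_card (G : Type*) [Group G] [Fintype G] :
    ∑ g : G, Nat.card {x : G // x * g = g * x} = Nat.card (ConjClasses G) * Nat.card G := by
  rw [← card_comm_eq_card_conjClasses_mul_card]
  rw [← Nat.card_sigma]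
  refine Nat.card_congr
    { toFun := fun s => ⟨(s.1, s.2.1), s.2.2.symm⟩
      invFun := fun p => ⟨p.1.1, ⟨p.1.2, p.2.eq.symm⟩⟩
      left_inv := fun s => rfl
      right_inv := fun p => rfl }

section Frobenius

variable {K H : Subgroup G}

theorem frob_mul_bijective [K.Normal] (hKH : K ⊓ H = ⊥) (hKH' : K ⊔ H = ⊤) :
    Function.Bijective (fun p : K × H => (p.1 : G) * p.2) := by
  have hc : Subgroup.IsComplement' K H :=
    Subgroup.isComplement'_of_disjoint_and_mul_eq_univ (disjoint_iff.2 hKH)
      (by rw [← Subgroup.normal_mul, hKH']; rfl)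
  exact hc

theorem frob_eq_of_mul_eq (hKH : K ⊓ H = ⊥) {a b : G} (ha : a ∈ H) (hb : b ∈ H)
    (h : a * b⁻¹ ∈ K) : a = b := by
  have : a * b⁻¹ ∈ K ⊓ H := ⟨h, H.mul_mem ha (H.inv_mem hb)⟩
  rw [hKH, Subgroup.mem_bot] at this
  exact mul_inv_eq_one.1 this

variable (K H) in
/-- Every element outside the kernel is conjugate, by a unique kernel element, into `H`. -/
theorem frob_conj_bijective [hK : K.Normal] (hKH : K ⊓ H = ⊥) (hKH' : K ⊔ H = ⊤)
    (hfpf : ∀ h ∈ H, h ≠ 1 → ∀ k ∈ K, h * k = k * h → k = 1) :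
    Function.Bijective (fun p : K × {h : H // h ≠ 1} =>
      (⟨(p.1 : G) * (p.2.1 : G) * (p.1 : G)⁻¹, by
        intro hmem
        have := hK.conj_mem _ hmem (p.1 : G)⁻¹
        simp only [inv_inv, mul_assoc, inv_mul_cancel, mul_one, inv_mul_cancel_left] at this
        have h1 : ((p.2.1 : G)) ∈ K ⊓ H := ⟨this, p.2.1.2⟩
        rw [hKH, Subgroup.mem_bot] at h1
        exact p.2.2 (Subtype.ext h1)⟩ : {g : G // g ∉ K})) := by
  classical
  set f := fun p : K × {h : H // h ≠ 1} => ((p.1 : G) * (p.2.1 : G) * (p.1 : G)⁻¹)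
  have hinj : Function.Injective f := by
    rintro ⟨m, h⟩ ⟨m', h'⟩ e
    simp only [f] at e
    have hhh : (h.1 : G) = (h'.1 : G) := by
      apply frob_eq_of_mul_eq hKH h.1.2 h'.1.2
      have hm : ((m : G)⁻¹ * (m' : G)) ∈ K := K.mul_mem (K.inv_mem m.2) m'.2
      have e' : (h.1 : G) = ((m : G)⁻¹ * m') * h'.1 * ((m : G)⁻¹ * m')⁻¹ := by
        calc (h.1 : G) = (m : G)⁻¹ * ((m : G) * h.1 * (m : G)⁻¹) * m := by group
          _ = (m : G)⁻¹ * ((m' : G) * h'.1 * (m' : G)⁻¹) * m := by rw [e]
          _ = _ := by group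
      rw [e', mul_assoc ((m : G)⁻¹ * m' * h'.1)]
      have : ((m : G)⁻¹ * m') * ((h'.1 : G) * ((m : G)⁻¹ * m')⁻¹ * (h'.1 : G)⁻¹) ∈ K :=
        K.mul_mem hm (hK.conj_mem _ (K.inv_mem hm) _)
      simpa [mul_assoc] using this
    have hh : h = h' := Subtype.ext (Subtype.ext hhh)
    subst hh
    have hc : ((m : G)⁻¹ * m') = 1 := by
      apply hfpf h.1 h.1.2 (fun hh1 => h.2 (Subtype.ext hh1)) _
        (K.mul_mem (K.inv_mem m.2) m'.2)
      calc (h.1 : G) * ((m : G)⁻¹ * m')
          = (m : G)⁻¹ * ((m : G) * h.1 * (m : G)⁻¹) * m' := by group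
        _ = (m : G)⁻¹ * ((m' : G) * h.1 * (m' : G)⁻¹) * m' := by rw [e]
        _ = _ := by group
    have : m = m' := Subtype.ext (inv_mul_eq_one.1 hc)
    rw [this]
  refine (Fintype.bijective_iff_injective_and_card _).2
    ⟨fun p q e => hinj (congrArg Subtype.val e), ?_⟩
  have hb := frob_mul_bijective (K := K) (H := H) hKH hKH'
  have hc : Fintype.card G = Fintype.card K * Fintype.card H := by
    rw [← Fintype.card_prod]
    exact (Fintype.card_of_bijective hb).symm
  rw [Fintype.card_prod, Fintype.card_subtype_compl, Fintype.card_subtype_compl,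
    Fintype.card_subtype_eq, hc, Nat.mul_sub, mul_one]

theorem card_centralizer_conj (g m : G) :
    Nat.card {x : G // x * (m * g * m⁻¹) = (m * g * m⁻¹) * x} =
      Nat.card {x : G // x * g = g * x} := by
  refine Nat.card_congr
    { toFun := fun x => ⟨m⁻¹ * x.1 * m, ?_⟩
      invFun := fun x => ⟨m * x.1 * m⁻¹, ?_⟩
      left_inv := fun x => Subtype.ext (by group)
      right_inv := fun x => Subtype.ext (by group) }
  · calc m⁻¹ * x.1 * m * g = m⁻¹ * (x.1 * (m * g * m⁻¹)) * m := by group
      _ = _ := by rw [x.2]; group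
  · calc m * x.1 * m⁻¹ * (m * g * m⁻¹) = m * (x.1 * g) * m⁻¹ := by group
      _ = _ := by rw [x.2]; group

theorem frobenius_class_count_aux [hK : K.Normal] (hKH : K ⊓ H = ⊥) (hKH' : K ⊔ H = ⊤)
    (hfpf : ∀ h ∈ H, h ≠ 1 → ∀ k ∈ K, h * k = k * h → k = 1) :
    Nat.card H * Nat.card (ConjClasses G) + 1
      = Nat.card H * Nat.card (ConjClasses H) + Nat.card (ConjClasses K) := by
  classical
  let c : G → ℕ := fun g => Nat.card {x : G // x * g = g * x}
  have hb := frob_mul_bijective (K := K) (H := H) hKH hKH'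
  -- centralizers of nontrivial kernel elements lie in the kernel
  have hKc : ∀ k : K, k ≠ 1 → c k = Nat.card {x : K // x * k = k * x} := by
    intro k hk
    refine (Nat.card_congr (α := {x : K // x * k = k * x}) (β := {x : G // x * (k : G) = k * x})
      { toFun := fun x => ⟨(x.1 : G), ?_⟩
        invFun := fun x => ⟨⟨x.1, ?_⟩, Subtype.ext x.2⟩
        left_inv := fun _ => rfl
        right_inv := fun _ => rfl }).symm
    · exact congrArg Subtype.val x.2
    · by_contra hx
      obtain ⟨⟨m, h⟩, e⟩ := (frob_conj_bijective K H hKH hKH' hfpf).2 ⟨x.1, hx⟩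
      have e : (m : G) * (h.1 : G) * (m : G)⁻¹ = x.1 := congrArg Subtype.val e
      apply hk
      have h1 : (m : G)⁻¹ * k * m = 1 := by
        apply hfpf h.1 h.1.2 (fun hh1 => h.2 (Subtype.ext hh1)) _
        · have := hK.conj_mem _ k.2 (m : G)⁻¹
          simpa using this
        · calc (h.1 : G) * ((m : G)⁻¹ * k * m)
              = (m : G)⁻¹ * (((m : G) * h.1 * (m : G)⁻¹) * k) * m := by group
            _ = (m : G)⁻¹ * (k * ((m : G) * h.1 * (m : G)⁻¹)) * m := by rw [e, x.2]
            _ = _ := by group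
      apply Subtype.ext
      calc (k : G) = (m : G) * ((m : G)⁻¹ * k * m) * (m : G)⁻¹ := by group
        _ = 1 := by rw [h1]; group
  -- centralizers of nontrivial complement elements lie in the complement
  have hHc : ∀ h : H, h ≠ 1 → c h = Nat.card {x : H // x * h = h * x} := by
    intro h hh
    refine (Nat.card_congr (α := {x : H // x * h = h * x}) (β := {x : G // x * (h : G) = h * x})
      { toFun := fun x => ⟨(x.1 : G), ?_⟩
        invFun := fun x => ⟨⟨x.1, ?_⟩, Subtype.ext x.2⟩
        left_inv := fun _ => rfl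
        right_inv := fun _ => rfl }).symm
    · exact congrArg Subtype.val x.2
    · obtain ⟨⟨m, h'⟩, e⟩ := hb.2 x.1
      have e : (m : G) * h' = x.1 := e
      have hcomm : (h' : G) * h = h * h' := by
        apply frob_eq_of_mul_eq hKH (H.mul_mem h'.2 h.2) (H.mul_mem h.2 h'.2)
        have e1 : (m : G) * h' * h = h * ((m : G) * h') := by rw [e]; exact x.2
        have e2 : (h' : G) * h * ((h : G) * h')⁻¹ = (m : G)⁻¹ * ((h : G) * m * (h : G)⁻¹) := by
          calc (h' : G) * h * ((h : G) * h')⁻¹
              = (m : G)⁻¹ * ((m : G) * h' * h) * ((h : G) * h')⁻¹ := by group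
            _ = _ := by rw [e1]; group
        rw [e2]
        exact K.mul_mem (K.inv_mem m.2) (hK.conj_mem _ m.2 _)
      have hm : (m : G) = 1 := by
        apply hfpf h h.2 (fun hh1 => hh (Subtype.ext hh1)) _ m.2
        have e1 : (m : G) * h' * h = h * ((m : G) * h') := by rw [e]; exact x.2
        rw [mul_assoc, hcomm] at e1
        simpa [← mul_assoc] using e1.symm
      rw [← e, hm, one_mul]
      exact h'.2
  have hsplit : ∑ g : G, c g = (∑ k : K, c k) + ∑ g : {g : G // g ∉ K}, c g :=
    (Fintype.sum_subtype_add_sum_subtype (fun g => g ∈ K) c).symm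
  have hone : c 1 = Nat.card G := Nat.card_congr (Equiv.subtypeUnivEquiv fun x => by simp)
  have hsum1 : ∀ (L : Subgroup G),
      (Nat.card {x : L // x * 1 = 1 * x}) = Nat.card L := fun L =>
    Nat.card_congr (Equiv.subtypeUnivEquiv fun x => by simp)
  have hK1 : (∑ k : K, c k) + Nat.card K
      = Nat.card (ConjClasses K) * Nat.card K + Nat.card G := by
    rw [← sum_centralizer_card K, ← Finset.add_sum_erase _ _ (Finset.mem_univ (1 : K)),
      ← Finset.add_sum_erase _ (fun k : K => Nat.card {x : K // x * k = k * x})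
        (Finset.mem_univ (1 : K))]
    rw [Finset.sum_congr rfl (fun k hk => hKc k (Finset.ne_of_mem_erase hk))]
    simp only [OneMemClass.coe_one, hone, hsum1]
    ring
  have hH1 : (∑ h : {h : H // h ≠ 1}, c h.1) + Nat.card H
      = Nat.card (ConjClasses H) * Nat.card H := by
    rw [← sum_centralizer_card H,
      ← Fintype.sum_subtype_add_sum_subtype (fun h : H => h ≠ 1)
        (fun h : H => Nat.card {x : H // x * h = h * x})]
    congr 1
    · exact Fintype.sum_congr _ _ (fun h => hHc h.1 h.2)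
    · rw [Fintype.sum_eq_single (⟨1, by simp⟩ : {h : H // ¬ h ≠ 1})]
      · exact (hsum1 H).symm
      · intro x hx
        exact absurd (Subtype.ext (not_not.1 x.2)) hx
  have hout : ∑ g : {g : G // g ∉ K}, c g = Nat.card K * ∑ h : {h : H // h ≠ 1}, c h.1 := by
    have e := (frob_conj_bijective K H hKH hKH' hfpf).sum_comp (fun g => c g.1)
    rw [← e, Fintype.sum_prod_type]
    simp only [c, card_centralizer_conj]
    rw [Finset.sum_const, Finset.card_univ, smul_eq_mul, Nat.card_eq_fintype_card]
  have hG : Nat.card G = Nat.card K * Nat.card H := by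
    rw [← Nat.card_prod]
    exact (Nat.card_congr (Equiv.ofBijective _ hb)).symm
  have htot := sum_centralizer_card G
  have key : Nat.card K * (Nat.card H * Nat.card (ConjClasses G) + 1)
      = Nat.card K * (Nat.card H * Nat.card (ConjClasses H) + Nat.card (ConjClasses K)) := by
    have h2 := congrArg (fun n => Nat.card K * n) hH1
    simp only [mul_add] at h2
    rw [hsplit, hout, hG] at htot
    rw [hG] at hK1
    simp only [mul_add, mul_one]
    linarith
  exact Nat.eq_of_mul_eq_mul_left Nat.card_pos key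

end Frobenius

end H13
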