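import Cfsg.Agent.H15.Extension
import Cfsg.Agent.H12.InvConstituents
import Cfsg.Agent.H12.Transport
import Cfsg.Agent.H13.Clifford
import Mathlib.GroupTheory.SchurZassenhaus
import Mathlib.GroupTheory.Transfer
import Mathlib.FieldTheory.Finite.Basic

/-!
# Invariant constituents of induced characters

`exists_inv_over_central`: for `Z ≤ H ⊴ Q` with `Z` central in `Q`, `[H : Z]` prime to `[Q : H]`
and one of `Q/H`, `H/Z` solvable, every linear character of `Z` lies under a `Q`-invariant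
irreducible character of `H`.  `exists_inv_over`: the same with `Z` replaced by a normal
subgroup and an invariant irreducible character, by passing to a central cover.
-/

set_option autoImplicit false
set_option linter.unusedSectionVars false

open Cfsg
open scoped ComplexConjugate

namespace H13.InvOver

universe u

/-- An exponent that kills the part of a central subgroup prime to `n` and fixes the rest. -/
theorem exists_weight (n l z : ℕ) (hz : 0 < z) (hcop : l.Coprime n) :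
    ∃ a w : ℕ, a ∣ z ∧ 0 < a ∧ l ∣ w ∧ w ≡ 1 [MOD a] ∧ l * z ∣ w * a ∧
      (∀ r : ℕ, r.Prime → r ∣ a → r ∣ n) ∧ (∀ r : ℕ, r.Prime → r ∣ n → r ∣ z → r ∣ a) := by
  let a := Nat.gcd (n ^ z) z
  have haz : a ∣ z := Nat.gcd_dvd_right _ _
  obtain ⟨b, hb⟩ := haz
  have ha0 : 0 < a := Nat.gcd_pos_of_pos_right _ hz
  have hb0 : b ≠ 0 := fun h => by rw [h, mul_zero] at hb; omega
  have hprime : ∀ r : ℕ, r.Prime → r ∣ a → r ∣ n := fun r hr h =>
    hr.dvd_of_dvd_pow (h.trans (Nat.gcd_dvd_left _ _))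
  have hbn : ∀ r : ℕ, r.Prime → r ∣ n → ¬ r ∣ b := by
    intro r hr hrn hrb
    have hv : r ^ z.factorization r ∣ a :=
      Nat.dvd_gcd ((pow_dvd_pow_of_dvd hrn _).trans
        (pow_dvd_pow n (Nat.factorization_lt r hz.ne').le)) (Nat.ordProj_dvd z r)
    have : r ^ (z.factorization r + 1) ∣ z := by
      rw [pow_succ]
      exact (mul_dvd_mul hv hrb).trans hb.symm.dvd
    exact Nat.pow_succ_factorization_not_dvd hz.ne' hr this
  refine ⟨a, (l * b) ^ a.totient, ⟨b, hb⟩, ha0, ?_, ?_, ?_, hprime, ?_⟩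
  · exact (Dvd.intro b rfl).trans (dvd_pow_self _ (Nat.totient_pos.2 ha0).ne')
  · refine Nat.ModEq.pow_totient ?_
    refine Nat.Coprime.mul_left ?_ ?_
    · refine Nat.coprime_of_dvd fun r hr h1 h2 => ?_
      exact Nat.Prime.not_coprime_iff_dvd.2 ⟨r, hr, h1, hprime r hr h2⟩ hcop
    · refine Nat.coprime_of_dvd fun r hr h1 h2 => ?_
      exact hbn r hr (hprime r hr h2) h1
  · rw [hb, mul_left_comm, mul_comm _ a]
    exact mul_dvd_mul_left a (dvd_pow_self _ (Nat.totient_pos.2 ha0).ne')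
  · intro r hr hrn hrz
    rw [hb] at hrz
    exact ((Nat.Prime.dvd_mul hr).1 hrz).resolve_right (hbn r hr hrn)

/-- A linear character of a central subgroup lies under an invariant irreducible character. -/
theorem exists_inv_over_central {Q : Type u} [Group Q] [Finite Q] (H Z : Subgroup Q) [H.Normal]
    [Fintype H] (hZH : Z ≤ H) (hZc : Z ≤ Subgroup.center Q)
    (hcop : (Z.relIndex H).Coprime H.index)
    (hsolv : Group.IsSolvable (Q ⧸ H) ∨
      ∃ k, ∀ x : H, x ∈ derivedSeries H k → (x : Q) ∈ Z)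
    (μ : Z →* ℂˣ) :
    ∃ α : IrrCharacter H, (∀ z : Z, (α : H → ℂ) ⟨z, hZH z.2⟩ = (μ z : ℂ) * (α : H → ℂ) 1) ∧
      ∀ (q : Q) (h : H), (α : H → ℂ) (MulAut.conjNormal q h) = (α : H → ℂ) h := by
  classical
  obtain ⟨a, w, haz, ha0, hlw, hwa, hzwa, hap, hpa⟩ :=
    exists_weight H.index (Z.relIndex H) (Nat.card Z) Nat.card_pos hcop
  haveI hZn : (Z.subgroupOf H).Normal := ⟨fun x hx g => by
    rw [Subgroup.mem_subgroupOf] at hx ⊢
    show (g : Q) * ((x : H) : Q) * (g : Q)⁻¹ ∈ Z
    rw [Subgroup.mem_center_iff.1 (hZc hx) (g : Q), mul_inv_cancel_right]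
    exact hx⟩
  have hpowl : ∀ h : H, h ^ (Z.relIndex H) ∈ Z.subgroupOf H := fun h =>
    Subgroup.pow_index_mem _ h
  -- the projection onto the part of `Z` with primes dividing the index
  have hZH' : Z.subgroupOf H ≤ Subgroup.center H := fun x hx => Subgroup.mem_center_iff.2 fun g =>
    Subtype.ext (Subgroup.mem_center_iff.1 (hZc hx) (g : Q))
  obtain ⟨t, ht⟩ : (Subgroup.center H).index ∣ w :=
    (Subgroup.index_dvd_of_le hZH').trans hlw
  let f : H →* H := MonoidHom.mk' (fun h => h ^ w) fun x y => by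
    show (x * y) ^ w = x ^ w * y ^ w
    have e := congrArg Subtype.val (map_mul (MonoidHom.transferCenterPow H) x y)
    simp only [MonoidHom.transferCenterPow_apply, Subgroup.coe_mul] at e
    have hc : Commute (x ^ (Subgroup.center H).index) (y ^ (Subgroup.center H).index) :=
      (Subgroup.mem_center_iff.1 ((Subgroup.center H).pow_index_mem y) _)
    rw [ht, pow_mul, pow_mul, pow_mul, e, hc.mul_pow]
  have hf : ∀ h : H, f h = h ^ w := fun h => rfl
  have hfZ : ∀ h : H, ((f h : H) : Q) ∈ Z := fun h => by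
    obtain ⟨c, hc⟩ := hlw
    rw [hf, hc, pow_mul]
    exact Subgroup.mem_subgroupOf.1 (pow_mem (hpowl h) c)
  have hkill : ∀ h : H, (f h) ^ a = 1 := fun h => by
    obtain ⟨d, hd⟩ := hzwa
    have hzz : (⟨((h ^ (Z.relIndex H) : H) : Q), hpowl h⟩ : Z) ^ Nat.card Z = 1 := pow_card_eq_one'
    rw [hf, ← pow_mul, hd, pow_mul, pow_mul]
    have h2 : (h ^ Z.relIndex H) ^ Nat.card Z = 1 := by
      refine Subtype.ext ?_
      rw [SubmonoidClass.coe_pow]
      have := congrArg Subtype.val hzz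
      rw [SubmonoidClass.coe_pow] at this
      exact this
    rw [h2, one_pow]
  have hfix : ∀ h : H, f (f h) = f h := fun h => by
    rw [hf (f h)]
    conv_rhs => rw [← pow_one (f h)]
    exact pow_eq_pow_iff_modEq.2 (hwa.of_dvd (orderOf_dvd_of_pow_eq_one (hkill h)))
  have hfcomm : ∀ (h : H) (x : Q), x * (f h : H) = (f h : H) * x := fun h x =>
    Subgroup.mem_center_iff.1 (hZc (hfZ h)) x
  have hfnat : ∀ (q : Q) (h : H), f (MulAut.conjNormal q h) = f h := fun q h => by
    rw [hf, ← map_pow, ← hf]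
    apply Subtype.ext
    rw [MulAut.conjNormal_apply, hfcomm h q, mul_inv_cancel_right]
  -- the complementary normal subgroup
  let H0 : Subgroup Q :=
    { carrier := {x | ∃ hx : x ∈ H, f ⟨x, hx⟩ = 1}
      one_mem' := ⟨one_mem H, map_one f⟩
      mul_mem' := fun {x y} ⟨hx, hx'⟩ ⟨hy, hy'⟩ => ⟨mul_mem hx hy, by
        rw [show (⟨x * y, mul_mem hx hy⟩ : H) = ⟨x, hx⟩ * ⟨y, hy⟩ from rfl, map_mul, hx', hy',
          one_mul]⟩
      inv_mem' := fun {x} ⟨hx, hx'⟩ => ⟨inv_mem hx, by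
        rw [show (⟨x⁻¹, inv_mem hx⟩ : H) = ⟨x, hx⟩⁻¹ from rfl, map_inv, hx', inv_one]⟩ }
  have hH0H : H0 ≤ H := fun x ⟨hx, _⟩ => hx
  have hH0 : ∀ h : H, (h : Q) ∈ H0 ↔ f h = 1 := fun h => ⟨fun ⟨_, e⟩ => e, fun e => ⟨h.2, e⟩⟩
  haveI hH0n : H0.Normal := ⟨fun x hx q => by
    have e : q * x * q⁻¹ = ((MulAut.conjNormal q ⟨x, hH0H hx⟩ : H) : Q) := by simp
    rw [e, hH0, hfnat, ← hH0]
    exact hx⟩
  haveI : Fintype H0 := Fintype.ofFinite _
  have hker : ∀ (h : H), (h : Q) * ((f h : H) : Q)⁻¹ ∈ H0 := fun h => by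
    have := (hH0 (h * (f h)⁻¹)).2 (by rw [map_mul, map_inv, hfix, mul_inv_cancel])
    simpa using this
  -- `|H0|` is prime to its index
  have hcop0 : (Nat.card H0).Coprime H0.index := by
    refine Nat.coprime_of_dvd fun r hr hr1 hr2 => ?_
    haveI := Fact.mk hr
    have hrn : r ∣ H.index := by
      rw [← Subgroup.relIndex_mul_index hH0H, Nat.Prime.dvd_mul hr] at hr2
      refine hr2.elim (fun h2 => ?_) id
      have e : H0.subgroupOf H = f.ker := by
        ext h; rw [Subgroup.mem_subgroupOf, hH0]; rfl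
      rw [Subgroup.relIndex, e, Subgroup.index_ker] at h2
      obtain ⟨⟨y, hy⟩, hord⟩ := exists_prime_orderOf_dvd_card' r h2
      obtain ⟨h, rfl⟩ := hy
      rw [← Subgroup.orderOf_coe] at hord
      have hra : r ∣ a := hord ▸ orderOf_dvd_of_pow_eq_one (hkill h)
      exact hap r hr hra
    obtain ⟨⟨x, hx⟩, hord⟩ := exists_prime_orderOf_dvd_card' r hr1
    obtain ⟨hxH, hx'⟩ := hx
    rw [← Subgroup.orderOf_coe] at hord
    let xh : H := ⟨x, hxH⟩
    have hordh : orderOf xh = r := by rw [← Subgroup.orderOf_coe]; exact hord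
    have hrl : ¬ r ∣ Z.relIndex H := fun h =>
      Nat.Prime.not_coprime_iff_dvd.2 ⟨r, hr, h, hrn⟩ hcop
    have hxZ : x ∈ Z := by
      obtain ⟨v, hv⟩ : ∃ v, (xh ^ Z.relIndex H) ^ v = xh :=
        exists_pow_eq_self_of_coprime (by rw [hordh]; exact ((hr.coprime_iff_not_dvd).2 hrl).symm)
      have : (xh : H) ∈ Z.subgroupOf H := hv ▸ pow_mem (hpowl xh) v
      exact this
    have hrz : r ∣ Nat.card Z := by
      have h4 := orderOf_dvd_natCard (⟨x, hxZ⟩ : Z)
      rwa [← Subgroup.orderOf_coe, hord] at h4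
    have h5 : f xh = xh := by
      rw [hf]
      conv_rhs => rw [← pow_one xh]
      exact pow_eq_pow_iff_modEq.2 (hwa.of_dvd (hordh.dvd.trans (hpa r hr hrn hrz)))
    rw [hx'] at h5
    rw [← h5, orderOf_one] at hordh
    exact hr.one_lt.ne hordh
  -- a complement
  obtain ⟨S, hS⟩ := Subgroup.exists_right_complement'_of_coprime hcop0
  let Z0 : Subgroup H0 := Z.subgroupOf H0
  haveI : Z0.Normal := ⟨fun x hx g => by
    rw [Subgroup.mem_subgroupOf] at hx ⊢
    show (g : Q) * ((x : H0) : Q) * (g : Q)⁻¹ ∈ Z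
    rw [Subgroup.mem_center_iff.1 (hZc hx) (g : Q), mul_inv_cancel_right]
    exact hx⟩
  haveI : Fintype Z0 := Fintype.ofFinite _
  let φ : S →* MulAut H0 := (MulAut.conjNormal (H := H0)).comp S.subtype
  have hφZ : ∀ (s : S) (x : H0), x ∈ Z0 → φ s x = x := fun s x hx => by
    apply Subtype.ext
    show ((MulAut.conjNormal (s : Q) x : H0) : Q) = x
    have hx' : (x : Q) ∈ Z := hx
    rw [MulAut.conjNormal_apply, Subgroup.mem_center_iff.1 (hZc hx') (s : Q), mul_inv_cancel_right]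
  have hNS : ∀ s, ∀ x ∈ Z0, φ s x ∈ Z0 := fun s x hx => by rw [hφZ s x hx]; exact hx
  let μ0 : Z0 →* ℂˣ := μ.comp
    { toFun := fun x => ⟨((x : H0) : Q), x.2⟩
      map_one' := rfl
      map_mul' := fun _ _ => rfl }
  have hθ : H12.Glauberman.Inv (H12.InvConst.resHom φ Z0 hNS)
      ((H12.linIrr μ0 : IrrCharacter Z0) : Z0 → ℂ) := fun s x => by
    rw [show H12.InvConst.resHom φ Z0 hNS s x = x from Subtype.ext (hφZ s (x : H0) x.2)]
  have hcardS : Nat.card S = H0.index := hS.symm.index_eq_card.symm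
  obtain ⟨α0, hα0, hinv0⟩ : ∃ χ : IrrCharacter H0,
      H12.Glauberman.mult Z0 χ (H12.linIrr μ0) ≠ 0 ∧ H12.Glauberman.Inv φ (χ : H0 → ℂ) := by
    rcases hsolv with hs | ⟨k, hk⟩
    · -- the complement is solvable
      let p : S →* Q ⧸ H := (QuotientGroup.mk' H).comp S.subtype
      haveI : Group.IsSolvable (Q ⧸ H) := hs
      let v : p.ker →* H :=
        f.comp { toFun := fun x => ⟨((x : S) : Q), (QuotientGroup.eq_one_iff _).1 x.2⟩
                 map_one' := rfl
                 map_mul' := fun _ _ => rfl }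
      have hv : Function.Injective v := by
        rw [injective_iff_map_eq_one]
        intro x hx
        have h1 : ((x : S) : Q) ∈ H0 := ⟨(QuotientGroup.eq_one_iff _).1 x.2, hx⟩
        have h2 := Subgroup.mem_bot.1
          (hS.disjoint.le_bot (Subgroup.mem_inf.2 ⟨h1, (x : S).2⟩))
        exact Subtype.ext (Subtype.ext h2)
      have hvc : ∀ x y : p.ker, x * y = y * x := fun x y => hv (by
        rw [map_mul, map_mul]
        exact Subtype.ext (hfcomm _ _).symm)
      letI : CommGroup p.ker := { (inferInstance : Group p.ker) with mul_comm := hvc }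
      have hSs : Group.IsSolvable S :=
        Group.isSolvable_of_ker_le_range p.ker.subtype p (by rw [Subgroup.range_subtype])
      exact H12.InvConst.exists_inv_over_coprime_aux _ φ Z0 hNS rfl hSs
        (by rw [hcardS]; exact hcop0) _ hθ
    · -- the quotient is solvable
      have hsq : Group.IsSolvable (H0 ⧸ Z0) := by
        rw [Group.isSolvable_def]
        refine ⟨k, eq_bot_iff.2 ?_⟩
        rw [← map_derivedSeries_eq (QuotientGroup.mk'_surjective Z0)]
        rintro _ ⟨x, hx, rfl⟩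
        rw [Subgroup.mem_bot]
        refine (QuotientGroup.eq_one_iff x).2 ?_
        exact hk (Subgroup.inclusion hH0H x)
          (map_derivedSeries_le_derivedSeries (Subgroup.inclusion hH0H) k ⟨x, hx, rfl⟩)
      refine H12.InvConst.exists_inv_over_solvable φ Z0 hNS ⊥ (fun r hr => ⟨1, one_mem _, by
        rw [Subgroup.mem_bot.1 hr, map_one, map_one]⟩) ?_ hsq _ hθ
      rw [Subgroup.index_bot, hcardS]
      exact hcop0.coprime_dvd_left (Subgroup.index_dvd_card _)
  have hα0Z : ∀ z : Z0, (α0 : H0 → ℂ) z = (μ0 z : ℂ) * (α0 : H0 → ℂ) 1 := by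
    have hne := (H12.InvConst.mult_ne_zero_iff Z0 α0 (H12.linIrr μ0)).1 hα0
    have htw : ∀ x : H0, H13.twist Z0 x ((H12.linIrr μ0 : IrrCharacter Z0) : Z0 → ℂ)
        = (H12.linIrr μ0 : IrrCharacter Z0) := fun x => by
      funext n
      rw [H13.twist_apply]
      refine congrArg _ (Subtype.ext (Subtype.ext ?_))
      show (x : Q) * ((n : H0) : Q) * ((x : Q))⁻¹ = ((n : H0) : Q)
      rw [Subgroup.mem_center_iff.1 (hZc (show ((n : H0) : Q) ∈ Z from n.2)) (x : Q),
        mul_inv_cancel_right]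
    have hres := H13.clifford_res Z0 α0.2 (H12.linIrr μ0).2 hne {H12.linIrr μ0} (fun ψ => by
      rw [Finset.mem_singleton]
      exact ⟨fun h => ⟨1, by rw [htw, h]⟩, fun ⟨x, hx⟩ => Subtype.ext (by rw [← hx, htw])⟩)
    intro z
    have h1 := congrFun hres z
    have h2 := congrFun hres 1
    simp only [Finset.sum_singleton, Pi.smul_apply, smul_eq_mul, H12.linIrr_apply, map_one,
      Units.val_one, mul_one, OneMemClass.coe_one] at h1 h2
    rw [h1, h2, mul_comm]
  -- glue
  let r : H →* H0 :=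
    { toFun := fun h => ⟨_, hker h⟩
      map_one' := Subtype.ext (by simp)
      map_mul' := fun x y => Subtype.ext (by
        show ((x * y : H) : Q) * ((f (x * y) : H) : Q)⁻¹
          = (x : Q) * ((f x : H) : Q)⁻¹ * ((y : Q) * ((f y : H) : Q)⁻¹)
        rw [map_mul, Subgroup.coe_mul, Subgroup.coe_mul, mul_inv_rev]
        have e := hfcomm x ((y : Q) * ((f y : H) : Q)⁻¹)
        have e' : ((f x : H) : Q)⁻¹ * ((y : Q) * ((f y : H) : Q)⁻¹)
            = (y : Q) * ((f y : H) : Q)⁻¹ * ((f x : H) : Q)⁻¹ := by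
          rw [inv_mul_eq_iff_eq_mul, ← mul_assoc _ _ ((f x : H) : Q)⁻¹, ← e, mul_inv_cancel_right]
        calc (x : Q) * y * (((f y : H) : Q)⁻¹ * ((f x : H) : Q)⁻¹)
            = (x : Q) * ((y : Q) * ((f y : H) : Q)⁻¹ * ((f x : H) : Q)⁻¹) := by group
          _ = (x : Q) * (((f x : H) : Q)⁻¹ * ((y : Q) * ((f y : H) : Q)⁻¹)) := by rw [e']
          _ = _ := by group) }
  have hr : Function.Surjective r := fun x => ⟨⟨x, hH0H x.2⟩, Subtype.ext (by
    show (x : Q) * ((f ⟨x, hH0H x.2⟩ : H) : Q)⁻¹ = x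
    rw [(hH0 ⟨x, hH0H x.2⟩).1 x.2]; simp)⟩
  let g : H →* ℂˣ := μ.comp
    { toFun := fun h => ⟨_, hfZ h⟩
      map_one' := Subtype.ext (by simp)
      map_mul' := fun x y => Subtype.ext (by simp) }
  let α : IrrCharacter H := H12.InvConst.mulHom g
    ⟨(α0 : H0 → ℂ) ∘ r, H12.IsIrrCharacter.comp_surjective α0.2 hr⟩
  have hαv : ∀ h : H, (α : H → ℂ) h = (g h : ℂ) * (α0 : H0 → ℂ) (r h) := fun h => rfl
  refine ⟨α, fun z => ?_, fun q h => ?_⟩
  · set zh : H := ⟨z, hZH z.2⟩ with hzh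
    have hrz : r zh ∈ Z0 := by
      rw [Subgroup.mem_subgroupOf]
      exact mul_mem z.2 (inv_mem (hfZ zh))
    rw [hαv, hαv, map_one, map_one, Units.val_one, one_mul, hα0Z ⟨r zh, hrz⟩, ← mul_assoc,
      ← Units.val_mul]
    congr 2
    show μ ⟨_, hfZ zh⟩ * μ ⟨_, hrz⟩ = μ z
    rw [← map_mul]
    congr 1
    apply Subtype.ext
    show ((f zh : H) : Q) * ((zh : Q) * ((f zh : H) : Q)⁻¹) = z
    rw [← mul_assoc, ← hfcomm, mul_inv_cancel_right]
  · -- invariance
    have hinvQ : ∀ (q : Q) (x : H0), (α0 : H0 → ℂ) (MulAut.conjNormal q x) = (α0 : H0 → ℂ) x := by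
      intro q x
      obtain ⟨⟨⟨n, hn⟩, ⟨s, hs⟩⟩, e⟩ := hS.2 q
      have e' : n * s = q := e
      rw [← e', map_mul, MulAut.mul_apply]
      have : MulAut.conjNormal n (MulAut.conjNormal s x : H0)
          = (⟨n, hn⟩ : H0) * MulAut.conjNormal s x * (⟨n, hn⟩ : H0)⁻¹ := Subtype.ext (by simp)
      rw [this, H12.irr_isClassFunction α0]
      exact hinv0 ⟨s, hs⟩ x
    rw [hαv, hαv]
    have e1 : g (MulAut.conjNormal q h) = g h := by
      show μ ⟨_, hfZ _⟩ = μ ⟨_, hfZ _⟩
      congr 1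
      exact Subtype.ext (congrArg (fun y : H => (y : Q)) (hfnat q h))
    have e2 : r (MulAut.conjNormal q h) = MulAut.conjNormal q (r h) := by
      apply Subtype.ext
      show ((MulAut.conjNormal q h : H) : Q) * ((f (MulAut.conjNormal q h) : H) : Q)⁻¹
        = ((MulAut.conjNormal q (r h) : H0) : Q)
      rw [hfnat, MulAut.conjNormal_apply, MulAut.conjNormal_apply]
      show q * (h : Q) * q⁻¹ * ((f h : H) : Q)⁻¹ = q * ((h : Q) * ((f h : H) : Q)⁻¹) * q⁻¹
      have e3 : q⁻¹ * ((f h : H) : Q)⁻¹ = ((f h : H) : Q)⁻¹ * q⁻¹ := by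
        rw [← mul_inv_rev, ← mul_inv_rev, hfcomm h q]
      rw [mul_assoc _ q⁻¹, e3]; group
    rw [e1, e2, hinvQ]

/-- An invariant irreducible character of a normal subgroup lies under an invariant one. -/
theorem exists_inv_over {Γ : Type u} [Group Γ] [Finite Γ] (G N : Subgroup Γ) [hG : G.Normal]
    [hN : N.Normal] [Fintype G] [Fintype N] (hNG : N ≤ G)
    (hcop : (G.index).Coprime (N.relIndex G))
    (hsolv : Group.IsSolvable (Γ ⧸ G) ∨ Group.IsSolvable (G ⧸ N.subgroupOf G))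
    (θ : IrrCharacter N)
    (hinv : ∀ (x : Γ) (n : N), (θ : N → ℂ) ⟨x * n * x⁻¹, hN.conj_mem n n.2 x⟩ = (θ : N → ℂ) n) :
    ∃ χ : IrrCharacter G, classInner (fun n : N => (χ : G → ℂ) ⟨n, hNG n.2⟩) (θ : N → ℂ) ≠ 0 ∧
      ∀ (x : Γ) (g : G), (χ : G → ℂ) ⟨x * g * x⁻¹, hG.conj_mem g g.2 x⟩ = (χ : G → ℂ) g := by
  classical
  obtain ⟨d, ρ, hρ, hρθ⟩ := θ.2
  haveI := hρ
  obtain ⟨E, _, _, π, ι, η, hπ, hπι, hnorm, hcent, hη⟩ :=
    H15.exists_cover (ρ := ρ) (R := N) (fun g r => by
      rw [hρθ]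
      exact (congrArg _ (Subtype.ext (by simp))).trans (hinv g r))
  haveI := hnorm
  haveI : Fintype E := Fintype.ofFinite E
  let Gh : Subgroup E := G.comap π
  haveI : Fintype Gh := Fintype.ofFinite _
  let Nt : Subgroup Gh := ι.range.subgroupOf Gh
  haveI : Nt.Normal := Subgroup.normal_subgroupOf
  have hιG : ι.range ≤ Gh := by
    rintro _ ⟨r, rfl⟩
    show π (ι r) ∈ G
    rw [hπι]; exact hNG r.2
  let Q := E ⧸ ι.range
  let q : E →* Q := QuotientGroup.mk' ι.range
  have hq : Function.Surjective q := QuotientGroup.mk'_surjective _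
  let H : Subgroup Q := Gh.map q
  haveI : H.Normal := Subgroup.Normal.map (hG.comap π) q hq
  haveI : Fintype H := Fintype.ofFinite _
  let Z : Subgroup Q := π.ker.map q
  have hZH : Z ≤ H := Subgroup.map_mono fun x hx => by
    show π x ∈ G
    rw [MonoidHom.mem_ker.1 hx]; exact one_mem G
  have hZc : Z ≤ Subgroup.center Q := by
    rintro _ ⟨x, hx, rfl⟩
    rw [Subgroup.mem_center_iff]
    intro y
    obtain ⟨y, rfl⟩ := hq y
    rw [← map_mul, ← map_mul, Subgroup.mem_center_iff.1 (hcent x (MonoidHom.mem_ker.1 hx)) y]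
  have hkerq : ∀ x, q x = 1 ↔ x ∈ ι.range := fun x => QuotientGroup.eq_one_iff x
  have hHi : H.index = G.index := by
    show (Gh.map q).index = _
    rw [Subgroup.index_map_eq _ hq (by rw [QuotientGroup.ker_mk']; exact hιG),
      Subgroup.index_comap_of_surjective G hπ]
  have hkersup : π.ker ⊔ ι.range = N.comap π := by
    rw [sup_comm, ← Subgroup.comap_map_eq]
    congr 1
    ext x
    constructor
    · rintro ⟨_, ⟨r, rfl⟩, rfl⟩; rw [hπι]; exact r.2
    · intro hx; exact ⟨ι ⟨x, hx⟩, ⟨_, rfl⟩, hπι _⟩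
  have hZi : Z.index = N.index := by
    show (π.ker.map q).index = _
    rw [Subgroup.index_map, QuotientGroup.ker_mk', QuotientGroup.range_mk', Subgroup.index_top,
      mul_one, hkersup, Subgroup.index_comap_of_surjective N hπ]
  have hrel : Z.relIndex H = N.relIndex G := by
    have h1 := Subgroup.relIndex_mul_index hZH
    have h2 := Subgroup.relIndex_mul_index hNG
    rw [hZi, hHi, ← h2] at h1
    exact Nat.eq_of_mul_eq_mul_right (Nat.pos_of_ne_zero G.index_ne_zero_of_finite) h1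
  have hsolv' : Group.IsSolvable (Q ⧸ H) ∨
      ∃ k, ∀ x : H, x ∈ derivedSeries H k → (x : Q) ∈ Z := by
    rcases hsolv with h | h
    · left
      haveI := h
      let a : E →* Γ ⧸ G := (QuotientGroup.mk' G).comp π
      let b : E →* Q ⧸ H := (QuotientGroup.mk' H).comp q
      have hle : a.ker ≤ b.ker := fun x hx => by
        rw [MonoidHom.mem_ker] at hx ⊢
        exact (QuotientGroup.eq_one_iff _).2 ⟨x, (QuotientGroup.eq_one_iff (N := G) (π x)).1 hx, rfl⟩
      let c : Γ ⧸ G →* Q ⧸ H := a.liftOfSurjective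
        ((QuotientGroup.mk'_surjective G).comp hπ) ⟨b, hle⟩
      refine Group.isSolvable_of_surjective (f := c) fun y => ?_
      obtain ⟨x, rfl⟩ := ((QuotientGroup.mk'_surjective H).comp hq) y
      exact ⟨a x, a.liftOfRightInverse_comp_apply _ (Function.rightInverse_surjInv _) ⟨b, hle⟩ x⟩
    · right
      obtain ⟨k, hk⟩ := (Group.isSolvable_def _).1 h
      refine ⟨k, fun x hx => ?_⟩
      let v : Gh →* H := q.subgroupMap Gh
      let u : Gh →* G ⧸ N.subgroupOf G := (QuotientGroup.mk' _).comp (π.subgroupComap G)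
      rw [← map_derivedSeries_eq (show Function.Surjective v from q.subgroupMap_surjective Gh)] at hx
      obtain ⟨y, hy, rfl⟩ := hx
      have h1 : u y ∈ derivedSeries (G ⧸ N.subgroupOf G) k :=
        map_derivedSeries_le_derivedSeries u k ⟨y, hy, rfl⟩
      rw [hk, Subgroup.mem_bot] at h1
      have h2 : (y : E) ∈ N.comap π := (QuotientGroup.eq_one_iff (N := N.subgroupOf G) (π.subgroupComap G y)).1 h1
      rw [← hkersup] at h2
      have h3 := Subgroup.mem_map_of_mem q h2
      rw [Subgroup.map_sup, show ι.range.map q = ⊥ by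
        rw [eq_bot_iff]; rintro _ ⟨z, hz, rfl⟩; exact Subgroup.mem_bot.2 ((hkerq z).2 hz),
        sup_bot_eq] at h3
      exact h3
  -- the scalar on the kernel
  have hdisj : ∀ x, π x = 1 → q x = 1 → x = 1 := fun x h1 h2 => by
    obtain ⟨r, rfl⟩ := (hkerq x).1 h2
    rw [hπι] at h1
    rw [show r = 1 from Subtype.ext h1, map_one]
  have hirrη : η.IsIrreducible := H15.isIrreducible_of_res ι η hη
  have hscal : ∀ x : π.ker, ∃ c : ℂˣ, η (x : E) = (c : ℂ) • (1 : Module.End ℂ (Fin d → ℂ)) := by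
    intro x
    obtain ⟨c, hc⟩ := H12.exists_scalar_of_commute η (η (x : E)) (fun y => by
      rw [← map_mul, ← map_mul,
        Subgroup.mem_center_iff.1 (hcent x (MonoidHom.mem_ker.1 x.2)) y])
    haveI : Nontrivial (Fin d → ℂ) := H12.nontrivial_of_isIrreducible ρ
    have hc0 : c ≠ 0 := by
      rintro rfl
      rw [zero_smul] at hc
      have : η (x : E) * η (x : E)⁻¹ = 1 := by rw [← map_mul, mul_inv_cancel, map_one]
      rw [hc, zero_mul] at this
      exact zero_ne_one this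
    exact ⟨Units.mk0 c hc0, hc⟩
  choose c hc using hscal
  haveI : Nontrivial (Fin d → ℂ) := H12.nontrivial_of_isIrreducible ρ
  have huniq : ∀ a b : ℂ, a • (1 : Module.End ℂ (Fin d → ℂ)) = b • 1 → a = b := fun a b h =>
    smul_left_injective ℂ (one_ne_zero : (1 : Module.End ℂ (Fin d → ℂ)) ≠ 0) h
  let cH : π.ker →* ℂˣ :=
    { toFun := c
      map_one' := Units.ext (huniq _ _ (by rw [← hc, OneMemClass.coe_one, map_one, Units.val_one, one_smul]))
      map_mul' := fun a b => Units.ext (huniq _ _ (by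
        rw [← hc, Subgroup.coe_mul, map_mul, hc, hc, Units.val_mul, smul_mul_smul_comm, one_mul])) }
  let qZ : π.ker →* Z := q.subgroupMap π.ker
  have hqZ : Function.Bijective qZ := ⟨by
    rw [injective_iff_map_eq_one]
    intro x hx
    exact Subtype.ext (hdisj x (MonoidHom.mem_ker.1 x.2) (congrArg Subtype.val hx)),
    q.subgroupMap_surjective π.ker⟩
  let μ : Z →* ℂˣ := (cH.comp (MulEquiv.ofBijective qZ hqZ).symm.toMonoidHom)⁻¹
  obtain ⟨α, hαZ, hαinv⟩ := exists_inv_over_central H Z hZH hZc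
    (by rw [hHi, hrel]; exact hcop.symm) hsolv' μ
  -- the product with the extension
  haveI : Fintype (Gh ⧸ Nt) := Fintype.ofFinite _
  haveI : Fintype Nt := Fintype.ofFinite _
  let eN : N ≃* Nt :=
    MulEquiv.ofBijective ({ toFun := fun r => ⟨⟨ι r, hιG ⟨r, rfl⟩⟩, ⟨r, rfl⟩⟩
                            map_one' := Subtype.ext (Subtype.ext (map_one ι))
                            map_mul' := fun a b => Subtype.ext (Subtype.ext (map_mul ι a b)) } :
        N →* Nt)
      ⟨fun a b h => by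
          have h' : ι a = ι b := congrArg (fun z : Nt => ((z : Gh) : E)) h
          exact Subtype.ext (by rw [← hπι a, ← hπι b, h']),
        fun z => by
          obtain ⟨r, hr⟩ := z.2
          exact ⟨r, Subtype.ext (Subtype.ext hr)⟩⟩
  let ηG : Gh → ℂ := fun x => η.character x
  have hηG : IsCharacter Gh ηG := H12.IsCharacter.res (H12.isCharacter_character η) Gh
  have hres : IsIrrCharacter Nt (fun n : Nt => ηG n) := by
    have h : (fun n : Nt => ηG n) = ρ.character ∘ eN.symm := by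
      funext n
      obtain ⟨r, rfl⟩ := eN.surjective n
      show η.character (ι r) = ρ.character (eN.symm (eN r))
      rw [MulEquiv.symm_apply_apply]
      simp only [Representation.character, hη]
    rw [h]
    exact H13.isIrrCharacter_comp_equiv eN.symm (H12.isIrrCharacter_character ρ)
  let qH : Gh →* H := q.subgroupMap Gh
  have hqH : Function.Surjective qH := q.subgroupMap_surjective Gh
  let αh : IrrCharacter Gh := ⟨(α : H → ℂ) ∘ qH, H12.IsIrrCharacter.comp_surjective α.2 hqH⟩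
  obtain ⟨β, hβ⟩ := H12.exists_inflate_eq Nt αh (fun n hn => by
    show (α : H → ℂ) (qH n) = (α : H → ℂ) (qH 1)
    rw [map_one, show qH n = 1 from Subtype.ext ((hkerq _).2 hn)])
  have hψ := H13.gallagher_isIrr Nt hηG hres β
  let ψ : IrrCharacter Gh := ⟨_, hψ⟩
  have hψv : ∀ x : Gh, (ψ : Gh → ℂ) x = (α : H → ℂ) (qH x) * η.character x := by
    intro x
    have := congrFun (congrArg Subtype.val hβ) x
    show (β : Gh ⧸ Nt → ℂ) (x : Gh ⧸ Nt) * ηG x = _
    rw [show (β : Gh ⧸ Nt → ℂ) (x : Gh ⧸ Nt) = (α : H → ℂ) (qH x) from this]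
  -- descend
  let πG : Gh →* G := π.subgroupComap G
  have hπG : Function.Surjective πG := fun g => by
    obtain ⟨x, hx⟩ := hπ g
    exact ⟨⟨x, show π x ∈ G by rw [hx]; exact g.2⟩, Subtype.ext hx⟩
  obtain ⟨χb, hχb⟩ := H12.exists_inflate_eq πG.ker ψ (fun x hx => by
    have hx' : π (x : E) = 1 := congrArg Subtype.val (MonoidHom.mem_ker.1 hx)
    set k : π.ker := ⟨(x : E), MonoidHom.mem_ker.2 hx'⟩ with hk
    have hqk : qH x = ⟨(qZ k : Q), hZH (qZ k).2⟩ := Subtype.ext rfl
    have hμ : (μ (qZ k) : ℂ) = ((c k : ℂˣ) : ℂ)⁻¹ := by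
      show (((cH ((MulEquiv.ofBijective qZ hqZ).symm (qZ k))))⁻¹ : ℂˣ).val = _
      rw [show (MulEquiv.ofBijective qZ hqZ).symm (qZ k) = k from
        (MulEquiv.ofBijective qZ hqZ).symm_apply_apply k, Units.val_inv_eq_inv_val]
      rfl
    rw [hψv, hψv, hqk, hαZ, hμ, map_one, show (((1 : Gh)) : E) = 1 from rfl, Representation.char_one]
    have : η.character (x : E) = ((c k : ℂˣ) : ℂ) * (d : ℂ) := by
      have := hc k
      simp only [Representation.character]
      rw [show η (x : E) = ((c k : ℂˣ) : ℂ) • (1 : Module.End ℂ (Fin d → ℂ)) from this, map_smul,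
        LinearMap.trace_one, Module.finrank_fin_fun, smul_eq_mul]
    rw [this, Module.finrank_fin_fun]
    field_simp)
  let χ : IrrCharacter G := H12.irrCongr (QuotientGroup.quotientKerEquivOfSurjective πG hπG).symm χb
  have hχv : ∀ x : Gh, (χ : G → ℂ) (πG x) = (α : H → ℂ) (qH x) * η.character x := by
    intro x
    rw [← hψv, ← hχb]
    show (χb : Gh ⧸ πG.ker → ℂ) ((QuotientGroup.quotientKerEquivOfSurjective πG hπG).symm (πG x))
      = (χb : Gh ⧸ πG.ker → ℂ) (x : Gh ⧸ πG.ker)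
    refine congrArg (χb : Gh ⧸ πG.ker → ℂ) ?_
    exact (QuotientGroup.quotientKerEquivOfSurjective πG hπG).symm_apply_eq.2 rfl
  refine ⟨χ, ?_, fun x g => ?_⟩
  · have h : (fun n : N => (χ : G → ℂ) ⟨n, hNG n.2⟩) = (α : H → ℂ) 1 • (θ : N → ℂ) := by
      funext r
      have e : (⟨r, hNG r.2⟩ : G) = πG ⟨ι r, hιG ⟨r, rfl⟩⟩ := Subtype.ext (hπι r).symm
      rw [e, hχv, show qH ⟨ι r, hιG ⟨r, rfl⟩⟩ = 1 from Subtype.ext ((hkerq _).2 ⟨r, rfl⟩),
        Pi.smul_apply, smul_eq_mul, ← hρθ]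
      simp only [Representation.character, hη]
    rw [h, H12.classInner_smul_left, H12.classInner_irr_self, mul_one]
    exact H12.irr_apply_one_ne_zero α
  · obtain ⟨y, rfl⟩ := hπ x
    obtain ⟨z, rfl⟩ := hπG g
    have hmem : y * (z : E) * y⁻¹ ∈ Gh := (hG.comap π).conj_mem _ z.2 y
    have e : (⟨π y * ((πG z : G) : Γ) * (π y)⁻¹, hG.conj_mem _ (πG z).2 (π y)⟩ : G)
        = πG ⟨_, hmem⟩ := Subtype.ext (by
      show π y * π (z : E) * (π y)⁻¹ = π (y * (z : E) * y⁻¹)
      rw [map_mul, map_mul, map_inv])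
    rw [e, hχv, hχv]
    congr 1
    · have : qH ⟨_, hmem⟩ = MulAut.conjNormal (q y) (qH z) := Subtype.ext (by
        rw [MulAut.conjNormal_apply]
        show q (y * (z : E) * y⁻¹) = q y * q (z : E) * (q y)⁻¹
        rw [map_mul, map_mul, map_inv])
      rw [this, hαinv]
    · exact H12.IsCharacter.isClassFunction (H12.isCharacter_character η) (z : E) y

end H13.InvOver
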