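import Cfsg.Agent.H13.Correspondence
import Cfsg.Agent.H13.Kernel
import Cfsg.Agent.H13.Linear
import Cfsg.Agent.H12.Induction
import Cfsg.Agent.H14.Basic
import Mathlib.GroupTheory.Nilpotent

/-!
# Monomial groups: Taketa's theorem and nilpotent groups
-/

set_option autoImplicit false
set_option linter.unusedSectionVars false

open Cfsg
open scoped ComplexConjugate

namespace H13

universe u

variable {G : Type u} [Group G] [Fintype G]

theorem indFun_congr_subgroup {K K' : Subgroup G} (h : K = K') (f : K → ℂ) (f' : K' → ℂ)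
    (hf : ∀ (x : G) (hx : x ∈ K) (hx' : x ∈ K'), f ⟨x, hx⟩ = f' ⟨x, hx'⟩) :
    indFun K f = indFun K' f' := by
  subst h
  have : f = f' := funext fun x => hf x.1 x.2 x.2
  rw [this]

theorem indFun_top_of_isClassFunction {f : G → ℂ} (hf : IsClassFunction G f) :
    indFun (⊤ : Subgroup G) (fun x => f x) = f := by
  funext g
  unfold indFun
  have h : ∀ x : G, extendByZero (⊤ : Subgroup G) (fun x => f x) (x⁻¹ * g * x) = f g := fun x => by
    rw [extendByZero_mem _ _ (Subgroup.mem_top _)]
    simpa using hf g x⁻¹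
  simp only [h, Finset.sum_const, Finset.card_univ, nsmul_eq_mul, ← Nat.card_eq_fintype_card,
    Subgroup.card_top]
  rw [← mul_assoc, inv_mul_cancel₀ H12.card_ne_zero', one_mul]

theorem indFun_inflate (N : Subgroup G) [N.Normal] [Fintype (G ⧸ N)] (K : Subgroup (G ⧸ N))
    (f : K → ℂ) (g : G) :
    indFun (K.comap (QuotientGroup.mk' N)) (fun x => f ⟨_, x.2⟩) g = indFun K f (g : G ⧸ N) := by
  classical
  have hN : (Nat.card N : ℂ) ≠ 0 := Nat.cast_ne_zero.2 Nat.card_pos.ne'
  unfold indFun
  have hval : ∀ x : G, extendByZero (K.comap (QuotientGroup.mk' N)) (fun x => f ⟨_, x.2⟩)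
      (x⁻¹ * g * x) = extendByZero K f ((x : G ⧸ N)⁻¹ * (g : G ⧸ N) * (x : G ⧸ N)) := by
    intro x
    by_cases hx : x⁻¹ * g * x ∈ K.comap (QuotientGroup.mk' N)
    · rw [extendByZero_mem _ _ hx]
      have hx' : ((x : G ⧸ N)⁻¹ * (g : G ⧸ N) * (x : G ⧸ N)) ∈ K := hx
      rw [extendByZero_mem _ _ hx']
      rfl
    · have hx' : ((x : G ⧸ N)⁻¹ * (g : G ⧸ N) * (x : G ⧸ N)) ∉ K := hx
      rw [extendByZero_notMem _ _ hx, extendByZero_notMem _ _ hx']
  rw [Finset.sum_congr rfl fun x _ => hval x,
    ← Finset.sum_fiberwise Finset.univ (fun x : G => (x : G ⧸ N))]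
  have hfib : ∀ q : G ⧸ N,
      (Finset.univ.filter fun x : G => (x : G ⧸ N) = q).card = Nat.card N := by
    intro q
    obtain ⟨a, rfl⟩ := QuotientGroup.mk_surjective q
    rw [← Fintype.card_subtype, ← Nat.card_eq_fintype_card]
    exact Nat.card_congr
      { toFun := fun x => ⟨a⁻¹ * x.1, QuotientGroup.eq.1 x.2.symm⟩
        invFun := fun n => ⟨a * n.1, (QuotientGroup.eq.2 (by simp)).symm⟩
        left_inv := fun x => by simp
        right_inv := fun n => by simp }
  have hsum : ∀ q : G ⧸ N, ∑ x ∈ Finset.univ.filter (fun x : G => (x : G ⧸ N) = q),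
      extendByZero K f ((x : G ⧸ N)⁻¹ * (g : G ⧸ N) * (x : G ⧸ N))
      = (Nat.card N : ℂ) * extendByZero K f (q⁻¹ * (g : G ⧸ N) * q) := by
    intro q
    rw [Finset.sum_congr rfl (g := fun _ => extendByZero K f (q⁻¹ * (g : G ⧸ N) * q))
      (fun x hx => by rw [(Finset.mem_filter.1 hx).2]), Finset.sum_const, hfib, nsmul_eq_mul]
  have hc : Nat.card (K.comap (QuotientGroup.mk' N)) = Nat.card N * Nat.card K := by
    have hle : N ≤ K.comap (QuotientGroup.mk' N) := fun x hx => by
      rw [Subgroup.mem_comap, QuotientGroup.mk'_apply, (QuotientGroup.eq_one_iff x).2 hx]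
      exact K.one_mem
    have h1 := (K.comap (QuotientGroup.mk' N)).card_mul_index
    rw [Subgroup.index_comap_of_surjective K (QuotientGroup.mk'_surjective N),
      ← N.card_mul_index] at h1
    have h2 := K.card_mul_index
    rw [Subgroup.index] at h1
    change _ = Nat.card N * Nat.card (G ⧸ N) at h1
    rw [← h2, ← mul_assoc] at h1
    exact Nat.eq_of_mul_eq_mul_right (Nat.pos_of_ne_zero Subgroup.index_ne_zero_of_finite) h1
  rw [Finset.sum_congr rfl fun q _ => hsum q, ← Finset.mul_sum, hc, Nat.cast_mul, mul_inv]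
  field_simp

/-- Taketa: every derived term of index at least the degree lies in the kernel. -/
theorem taketa_aux
    (hM : ∀ χ : G → ℂ, IsIrrCharacter G χ →
      ∃ (H : Subgroup G) (lam : H →* ℂˣ), χ = indFun H (fun h => (lam h : ℂ))) :
    ∀ (d : ℕ) (χ : IrrCharacter G), H12.degree (χ : G → ℂ) = d →
      ∀ g ∈ derivedSeries G d, (χ : G → ℂ) g = (χ : G → ℂ) 1 := by
  intro d
  induction d using Nat.strong_induction_on with
  | _ d ih =>
    intro χ hd g hg
    classical
    haveI hfin : ∀ L : Subgroup G, Fintype L := fun L => Fintype.ofFinite _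
    obtain ⟨H, lam, hχ⟩ := hM χ χ.2
    have hdeg : (χ : G → ℂ) 1 = (H.index : ℂ) := by
      rw [hχ, indFun_apply_one, map_one, Units.val_one, mul_one]
    have hdH : d = H.index := by
      have h1 := H12.irr_apply_one χ
      rw [hd, hdeg] at h1
      exact_mod_cast h1.symm
    obtain ⟨e, rfl⟩ : ∃ e, d = e + 1 := ⟨d - 1, by have := H12.irr_degree_pos χ; omega⟩
    have hle : derivedSeries G e ≤ H := by
      intro y hy
      let π := indFun H (fun _ => (1 : ℂ))
      have hπ : IsCharacter G π := isCharacter_indFun H H12.isCharacter_one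
      have hπ1 : π 1 = (H.index : ℂ) := by
        show indFun H (fun _ => (1 : ℂ)) 1 = _
        rw [indFun_apply_one, mul_one]
      have hone : classInner π (H12.oneIrr G : G → ℂ) ≠ 0 := by
        rw [classInner_indFun_left H _ (H12.irr_isClassFunction _)]
        have := H12.classInner_irr_self (H12.oneIrr H)
        exact this.symm ▸ one_ne_zero
      have hsub := isCharacter_sub_irr hπ (H12.oneIrr G).2 hone
      obtain ⟨m, hm⟩ := H12.IsCharacter.exists_mult hsub
      have hfix : π y = π 1 := by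
        have hy' : ∀ φ : IrrCharacter G, (m φ : ℂ) * (φ : G → ℂ) y = (m φ : ℂ) * (φ : G → ℂ) 1 := by
          intro φ
          rcases Nat.eq_zero_or_pos (m φ) with h0 | h0
          · simp [h0]
          congr 1
          have hsum : (∑ ψ : IrrCharacter G, m ψ * H12.degree (ψ : G → ℂ)) + 1 = H.index := by
            have h1 := congrFun hm 1
            rw [Finset.sum_apply, Pi.sub_apply, hπ1, H12.oneIrr_apply, sub_eq_iff_eq_add] at h1
            simp only [Pi.smul_apply, smul_eq_mul, H12.irr_apply_one] at h1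
            exact_mod_cast h1.symm
          have hlt : H12.degree (φ : G → ℂ) ≤ e := by
            have h2 : H12.degree (φ : G → ℂ) ≤ ∑ ψ : IrrCharacter G, m ψ * H12.degree (ψ : G → ℂ) :=
              le_trans (Nat.le_mul_of_pos_left _ h0)
                (Finset.single_le_sum (f := fun ψ => m ψ * H12.degree (ψ : G → ℂ))
                  (fun _ _ => Nat.zero_le _) (Finset.mem_univ φ))
            omega
          exact ih _ (by omega) φ rfl y (derivedSeries_antitone G hlt hy)
        have h1 := congrFun hm y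
        have h2 := congrFun hm 1
        simp only [Pi.sub_apply, Finset.sum_apply, Pi.smul_apply, smul_eq_mul,
          H12.oneIrr_apply] at h1 h2
        rw [Finset.sum_congr rfl (fun φ _ => hy' φ), ← h2] at h1
        exact sub_left_inj.1 h1
      rw [hπ1] at hfix
      rw [show π y = _ from H14.indFun_one_eq_fixed H y, Nat.cast_inj, Subgroup.index] at hfix
      haveI := Fintype.ofFinite (G ⧸ H)
      rw [Nat.card_eq_fintype_card, Nat.card_eq_fintype_card, Fintype.card_subtype,
        ← Finset.card_univ, Finset.card_filter_eq_iff] at hfix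
      have h3 : (y : G) • ((1 : G) : G ⧸ H) = ((1 : G) : G ⧸ H) :=
        hfix ((1 : G) : G ⧸ H) (Finset.mem_univ _)
      rw [MulAction.Quotient.smul_coe, smul_eq_mul, mul_one, QuotientGroup.eq, mul_one] at h3
      simpa using H.inv_mem h3
    rw [derivedSeries_succ] at hg
    haveI : (derivedSeries G e).Normal := derivedSeries_normal G e
    have hker : ∀ x : G, extendByZero H (fun h => (lam h : ℂ)) (x⁻¹ * g * x) = 1 := by
      intro x
      have hx : x⁻¹ * g * x ∈ ⁅derivedSeries G e, derivedSeries G e⁆ := by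
        simpa using Subgroup.Normal.conj_mem inferInstance g hg x⁻¹
      have hx' : x⁻¹ * g * x ∈ Subgroup.map H.subtype ⁅(⊤ : Subgroup H), (⊤ : Subgroup H)⁆ := by
        rw [Subgroup.map_commutator, ← MonoidHom.range_eq_map, Subgroup.range_subtype]
        exact Subgroup.commutator_mono hle hle hx
      obtain ⟨z, hz, hzx⟩ := hx'
      rw [← hzx, Subgroup.coe_subtype, extendByZero_coe]
      have : lam z = 1 := Abelianization.commutator_subset_ker lam hz
      rw [this, Units.val_one]
    have hone : ∀ x : G, extendByZero H (fun h => (lam h : ℂ)) (x⁻¹ * 1 * x) = 1 := fun x => by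
      rw [mul_one, inv_mul_cancel, show (1 : G) = ((1 : H) : G) from rfl, extendByZero_coe,
        map_one, Units.val_one]
    rw [hχ]
    simp only [indFun, hker, hone]

theorem solvable_of_monomial
    (hM : ∀ χ : G → ℂ, IsIrrCharacter G χ →
      ∃ (H : Subgroup G) (lam : H →* ℂˣ), χ = indFun H (fun h => (lam h : ℂ))) :
    Group.IsSolvable G := by
  classical
  refine ⟨⟨Nat.card G, ?_⟩⟩
  rw [Subgroup.eq_bot_iff_forall]
  intro g hg
  refine isConj_one_left.1 ((H12.isConj_iff_irr g 1).2 fun χ => ?_)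
  refine taketa_aux hM _ χ rfl g (derivedSeries_antitone G ?_ hg)
  have h1 := Finset.single_le_sum (f := fun ψ : IrrCharacter G => H12.degree (ψ : G → ℂ) ^ 2)
    (fun _ _ => Nat.zero_le _) (Finset.mem_univ χ)
  rw [H12.sum_degree_sq_nat] at h1
  exact le_trans (Nat.le_self_pow (by norm_num) _) h1

omit [Fintype G] in
theorem exists_normal_abelian_not_central [Group.IsNilpotent G]
    (hG : ¬ ∀ a b : G, a * b = b * a) :
    ∃ A : Subgroup G, A.Normal ∧ (∀ a ∈ A, ∀ b ∈ A, a * b = b * a) ∧ ¬ A ≤ Subgroup.center G := by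
  haveI : Nontrivial (G ⧸ Subgroup.center G) := by
    refine QuotientGroup.nontrivial_iff.2 fun h => hG fun a b => ?_
    exact Subgroup.mem_center_iff.1 (h ▸ Subgroup.mem_top b) a
  haveI : Nontrivial (Subgroup.center (G ⧸ Subgroup.center G)) := by
    rw [Subgroup.nontrivial_iff_ne_bot]
    exact Group.IsNilpotent.center_ne_bot _
  obtain ⟨⟨q, hq⟩, hq1⟩ := exists_ne (1 : Subgroup.center (G ⧸ Subgroup.center G))
  obtain ⟨x, rfl⟩ := QuotientGroup.mk_surjective q
  let A := Subgroup.center G ⊔ Subgroup.zpowers x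
  have hc : ∀ g : G, g * x * g⁻¹ * x⁻¹ ∈ Subgroup.center G := by
    intro g
    apply (QuotientGroup.eq_one_iff (N := Subgroup.center G) _).1
    have h := Subgroup.mem_center_iff.1 hq (g : G ⧸ Subgroup.center G)
    simp only [QuotientGroup.mk_mul, QuotientGroup.mk_inv]
    rw [h]
    group
  refine ⟨A, ⟨fun a ha g => ?_⟩, ?_, ?_⟩
  · replace ha : a ∈ Subgroup.center G ⊔ Subgroup.zpowers x := ha
    rw [← SetLike.mem_coe, Subgroup.normal_mul] at ha
    obtain ⟨z, hz, w, ⟨i, rfl⟩, rfl⟩ := ha
    have e : g * (z * x ^ i) * g⁻¹ = z * ((g * x * g⁻¹ * x⁻¹) * x) ^ i := by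
      rw [show g * x * g⁻¹ * x⁻¹ * x = g * x * g⁻¹ by group, conj_zpow, ← mul_assoc g z,
        Subgroup.mem_center_iff.1 hz g]
      group
    rw [e]
    exact Subgroup.mul_mem _ (Subgroup.mem_sup_left hz) (Subgroup.zpow_mem _
      (Subgroup.mul_mem _ (Subgroup.mem_sup_left (hc g))
        (Subgroup.mem_sup_right (Subgroup.mem_zpowers x))) i)
  · intro a ha b hb
    replace ha : a ∈ Subgroup.center G ⊔ Subgroup.zpowers x := ha
    replace hb : b ∈ Subgroup.center G ⊔ Subgroup.zpowers x := hb
    rw [← SetLike.mem_coe, Subgroup.normal_mul] at ha hb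
    obtain ⟨z, hz, w, ⟨i, rfl⟩, rfl⟩ := ha
    obtain ⟨z', hz', w', ⟨j, rfl⟩, rfl⟩ := hb
    have h1 : Commute z (z' * x ^ j) := (Subgroup.mem_center_iff.1 hz _).symm
    have h2 : Commute (x ^ i) (z' * x ^ j) :=
      (show Commute (x ^ i) z' from Subgroup.mem_center_iff.1 hz' _).mul_right
        ((Commute.refl x).zpow_zpow i j)
    exact (h1.mul_left h2).eq
  · intro h
    apply hq1
    apply Subtype.ext
    exact (QuotientGroup.eq_one_iff x).2 (h (Subgroup.mem_sup_right (Subgroup.mem_zpowers x)))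

theorem monomial_of_nilpotent : ∀ (n : ℕ) (G : Type u) [Group G] [Fintype G] [Group.IsNilpotent G],
    Nat.card G = n → ∀ χ : G → ℂ, IsIrrCharacter G χ →
      ∃ (H : Subgroup G) (lam : H →* ℂˣ), χ = indFun H (fun h => (lam h : ℂ)) := by
  intro n
  induction n using Nat.strong_induction_on with
  | _ n ih =>
    intro G _ _ _ hn χ hχ
    classical
    haveI hfin : ∀ L : Subgroup G, Fintype L := fun L => Fintype.ofFinite _
    have hχc := H12.isCharacter_of_isIrrCharacter hχ
    by_cases hfaith : ∃ g : G, g ≠ 1 ∧ χ g = χ 1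
    · obtain ⟨m, ρ, hρ, hρχ⟩ := hχ
      obtain ⟨g, hg1, hg⟩ := hfaith
      let N : Subgroup G := MonoidHom.ker ρ
      haveI : Fintype (G ⧸ N) := Fintype.ofFinite _
      have hgN : g ∈ N := by
        rw [← hρχ, Representation.char_one] at hg
        show ρ g = 1
        rw [(H12.character_eq_finrank_iff ρ g).1 hg]
        rfl
      have hlt : Nat.card (G ⧸ N) < n := by
        rw [← hn, ← Subgroup.index, ← N.card_mul_index]
        have h2 : 1 < Nat.card N := by
          rw [Finite.one_lt_card_iff_nontrivial, Subgroup.nontrivial_iff_ne_bot]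
          intro h
          rw [h, Subgroup.mem_bot] at hgN
          exact hg1 hgN
        exact lt_mul_of_one_lt_left (Nat.pos_of_ne_zero Subgroup.index_ne_zero_of_finite) h2
      obtain ⟨ψ, hψ⟩ := exists_irr_of_le_kernel N (χ := χ) ⟨m, ρ, hρ, hρχ⟩ (fun x hx => by
        rw [← hρχ]
        show LinearMap.trace ℂ _ (ρ x) = LinearMap.trace ℂ _ (ρ 1)
        exact congrArg _ ((MonoidHom.mem_ker.1 hx).trans (map_one ρ).symm))
      obtain ⟨K, lam, hlam⟩ := ih _ hlt (G ⧸ N) rfl ψ ψ.2
      refine ⟨K.comap (QuotientGroup.mk' N), lam.comp ((QuotientGroup.mk' N).subgroupComap K), ?_⟩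
      funext x
      rw [hψ x, hlam]
      exact (indFun_inflate N K (fun k => (lam k : ℂ)) x).symm
    simp only [not_exists, not_and] at hfaith
    by_cases hab : ∀ a b : G, a * b = b * a
    · have h1 := degree_one_of_commutative hab ⟨χ, hχ⟩
      refine ⟨⊤, (linHom hχc h1).comp (⊤ : Subgroup G).subtype, ?_⟩
      exact (indFun_top_of_isClassFunction (H12.IsCharacter.isClassFunction hχc)).symm
    obtain ⟨A, hA, hAab, hAnc⟩ := exists_normal_abelian_not_central hab
    haveI := hA
    obtain ⟨θ, hθ⟩ := exists_constituent A hχc (H12.irr_ne_zero (⟨χ, hχ⟩ : IrrCharacter G))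
    have hθ1 : (θ : A → ℂ) 1 = 1 :=
      degree_one_of_commutative (fun a b => Subtype.ext (hAab a a.2 b b.2)) θ
    have hAT : A ≤ inertia A (θ : A → ℂ) := le_inertia A (H12.irr_isClassFunction θ)
    by_cases hT : inertia A (θ : A → ℂ) = ⊤
    · exfalso
      apply hAnc
      intro a ha
      rw [Subgroup.mem_center_iff]
      intro g
      have hres := clifford_res A hχ θ.2 hθ {θ} (fun ψ => by
        rw [Finset.mem_singleton]
        constructor
        · rintro rfl; exact ⟨1, twist_one A _⟩
        · rintro ⟨y, hy⟩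
          exact Subtype.ext (hy.symm.trans ((mem_inertia A).1 (hT ▸ Subgroup.mem_top y))))
      rw [Finset.sum_singleton] at hres
      have hcomm : g * a * g⁻¹ * a⁻¹ ∈ A := A.mul_mem (hA.conj_mem a ha g) (A.inv_mem ha)
      have h1 := congrFun hres ⟨_, hcomm⟩
      have h2 := congrFun hres 1
      have h3 : (θ : A → ℂ) ⟨_, hcomm⟩ = (θ : A → ℂ) 1 := by
        have hinv := congrFun ((mem_inertia A).1
          (hT ▸ Subgroup.mem_top g : g ∈ inertia A (θ : A → ℂ))) ⟨a, ha⟩
        rw [twist_apply] at hinv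
        rw [show (⟨_, hcomm⟩ : A) = ⟨g * a * g⁻¹, hA.conj_mem a ha g⟩ * (⟨a, ha⟩ : A)⁻¹
          from rfl, H14.linear_char_mul (H12.isCharacter_irr θ) hθ1, hinv,
          ← H14.linear_char_mul (H12.isCharacter_irr θ) hθ1, mul_inv_cancel]
      simp only [Pi.smul_apply, smul_eq_mul] at h1 h2
      rw [h3, ← h2] at h1
      have h4 : χ (g * a * g⁻¹ * a⁻¹) = χ 1 := h1
      have h5 : g * a * g⁻¹ * a⁻¹ = 1 := by
        by_contra h
        exact hfaith _ h h4
      calc g * a = (g * a * g⁻¹ * a⁻¹) * (a * g) := by group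
        _ = a * g := by rw [h5, one_mul]
    · set T := inertia A (θ : A → ℂ) with hTdef
      obtain ⟨ψ, hψ, -, hind⟩ := clifford_correspondence_exists A θ.2 hTdef hAT hχ hθ
      have hlt : Nat.card T < n := by
        rw [← hn]
        exact lt_of_le_of_ne (Subgroup.card_le_card_group T)
          (fun h => hT ((Subgroup.card_eq_iff_eq_top T).1 h))
      obtain ⟨K, lam, hlam⟩ := ih _ hlt T rfl ψ hψ
      let e := K.equivMapOfInjective T.subtype T.subtype_injective
      refine ⟨K.map T.subtype, lam.comp e.symm.toMonoidHom, ?_⟩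
      rw [← hind, hlam, ← H12.indFun_trans (K.map T.subtype) T (Subgroup.map_subtype_le K)]
      congr 1
      refine indFun_congr_subgroup
        (Subgroup.comap_map_eq_self_of_injective T.subtype_injective K).symm _ _ ?_
      intro x hx hx'
      have : e.symm ⟨(x : G), Subgroup.mem_map_of_mem T.subtype hx⟩ = ⟨x, hx⟩ := by
        rw [MulEquiv.symm_apply_eq]
        exact Subtype.ext rfl
      exact (congrArg (fun z => (lam z : ℂ)) this).symm

end H13
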