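/-
The Galois property needed by the final step of PF 11.
-/
import Cfsg.Agent.H13.PF11Struct
import Cfsg.Agent.H14.PF11Final

set_option autoImplicit false

open Cfsg

namespace H13.PF11

universe u

/-- PF 11.9: the chief section of Types III and IV is of Galois type. -/
theorem galFacts (G : Type u) [Group G] [Fintype G] : H14.PF11.GalFacts G :=
  fun _ _ _ _ _ _ _ _ _ _ _ _ _ _ _ hS => hS.galois

end H13.PF11
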