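/-
PF 11: the structure of the maximal subgroups of Types III and IV.
-/
import Cfsg.Agent.H13.PF11Galois
import Cfsg.Agent.H15.PFElevenCount
import Cfsg.Agent.H16.FTChain

set_option autoImplicit false

open Cfsg

namespace H13.PF11

universe u

/-- PF 11.8: `C = 1` and `p < q`. -/
theorem structFacts (G : Type u) [Group G] [Fintype G] : StructFacts G :=
  fun _ _ _ _ _ _ _ _ _ _ _ _ _ _ _ hS =>
    ⟨H15.C_eq_bot hS hS.p_lt_q hS.count, hS.p_lt_q⟩

variable {G : Type u} [Group G] [Fintype G] (hG : IsMinSimpleOddOrder G)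
include hG

/-- PF 11.9. -/
theorem typeThreeFour_holds : H16.FT.TypeThreeFour G :=
  H14.PF11.typeThreeFour hG (H16.FT.bg_holds hG) (H16.FT.noTypeFive_holds hG)
    (H16.FT.coreCoherence_holds hG) (H16.FT.nonCoherence345_holds hG) (structFacts G) (galFacts G)

/-- PF 11.6 and 11.9 (c). -/
theorem typeThreeCyclic_holds : H14.PF12.TypeThreeCyclic G :=
  H14.PF11.typeThreeCyclic hG (H16.FT.bg_holds hG) (H16.FT.noTypeFive_holds hG)
    (H16.FT.coreCoherence_holds hG) (H16.FT.nonCoherence345_holds hG) (structFacts G) (galFacts G)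

end H13.PF11
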