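import Cfsg.Agent.H12.Linear
import Cfsg.Agent.H12.Integral
import Cfsg.Agent.H16.Inner
import Cfsg.Agent.H25.Indicator
import Cfsg.Agent.H2.UniqueSubgroup
import Cfsg.Agent.H4.MinimalNonNilpotent
import Mathlib.GroupTheory.Frattini

/-!
# Twisting by linear characters; the involution count of a 2-group modulo 4
-/

set_option autoImplicit false
set_option linter.unusedSectionVars false

open Cfsg
open scoped ComplexConjugate

namespace H13.Twist

universe u

variable {G : Type u} [Group G] [Fintype G]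

theorem linChar (l : G →* ℂˣ) : IsCharacter G (fun g => (l g : ℂ)) :=
  H12.isCharacter_of_isIrrCharacter (H12.isIrrCharacter_monoidHom l)

theorem conj_lin (l : G →* ℂˣ) (g : G) : conj (l g : ℂ) = (l g⁻¹ : ℂ) :=
  (H12.IsCharacter.inv (linChar l) g).symm

theorem lin_mul_conj (l : G →* ℂˣ) (g : G) : (l g : ℂ) * conj (l g : ℂ) = 1 := by
  rw [conj_lin, ← Units.val_mul, ← map_mul, mul_inv_cancel, map_one, Units.val_one]

theorem isIrr_twist (χ : IrrCharacter G) (l : G →* ℂˣ) :
    IsIrrCharacter G ((χ : G → ℂ) * fun g => (l g : ℂ)) := by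
  refine H12.isIrrCharacter_of_classInner_self_eq_one
    (H12.IsCharacter.mul (H12.isCharacter_irr χ) (linChar l)) ?_
  rw [← H12.classInner_irr_self χ, H12.classInner_def, H12.classInner_def]
  refine congrArg _ (Finset.sum_congr rfl fun g _ => ?_)
  simp only [Pi.mul_apply, map_mul]
  rw [mul_mul_mul_comm, lin_mul_conj, mul_one]

/-- The twist of an irreducible character by a linear character. -/
noncomputable def twi (χ : IrrCharacter G) (l : G →* ℂˣ) : IrrCharacter G := ⟨_, isIrr_twist χ l⟩

theorem twi_apply (χ : IrrCharacter G) (l : G →* ℂˣ) (g : G) :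
    (twi χ l : G → ℂ) g = (χ : G → ℂ) g * (l g : ℂ) := rfl

theorem twi_one (χ : IrrCharacter G) : twi χ 1 = χ :=
  Subtype.ext (funext fun g => by rw [twi_apply]; simp)

theorem twi_mul (χ : IrrCharacter G) (l m : G →* ℂˣ) : twi (twi χ l) m = twi χ (l * m) :=
  Subtype.ext (funext fun g => by simp [twi_apply, mul_assoc])

theorem twi_inv_cancel (χ : IrrCharacter G) (l : G →* ℂˣ) : twi (twi χ l) l⁻¹ = χ := by
  rw [twi_mul, show l * l⁻¹ = 1 from MonoidHom.ext fun g => mul_inv_cancel (l g), twi_one]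

theorem twi_degree (χ : IrrCharacter G) (l : G →* ℂˣ) : (twi χ l : G → ℂ) 1 = (χ : G → ℂ) 1 := by
  simp [twi_apply]

theorem inv_mul_self' (l : G →* ℂˣ) : l⁻¹ * l = 1 := MonoidHom.ext fun g => inv_mul_cancel (l g)

theorem twi_eq_iff (χ : IrrCharacter G) (l m : G →* ℂˣ) :
    twi χ l = twi χ m ↔ twi χ (m⁻¹ * l) = χ := by
  constructor
  · intro h
    rw [show m⁻¹ * l = l * m⁻¹ from MonoidHom.ext fun g => mul_comm _ _, ← twi_mul, h,
      twi_inv_cancel]
  · intro h
    conv_rhs => rw [← h]
    rw [twi_mul]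
    congr 1
    exact MonoidHom.ext fun g => by simp

theorem conjIrr_twi (χ : IrrCharacter G) (l : G →* ℂˣ) :
    H12.conjIrr (twi χ l) = twi (H12.conjIrr χ) l⁻¹ :=
  Subtype.ext (funext fun g => by
    simp only [H12.conjIrr_apply, twi_apply, map_mul]
    rw [conj_lin, MonoidHom.inv_apply, map_inv])

/-- The stabiliser under twisting has at most `χ(1)²` elements. -/
theorem card_stab_le (χ : IrrCharacter G) :
    (Nat.card {l : G →* ℂˣ // twi χ l = χ} : ℝ) ≤ ((χ : G → ℂ) 1).re ^ 2 := by
  classical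
  haveI : Finite (G →* ℂˣ) := Nat.finite_of_card_ne_zero (by
    rw [H12.card_monoidHom_units]; exact Subgroup.index_ne_zero_of_finite)
  haveI := Fintype.ofFinite (G →* ℂˣ)
  let S : Finset (G →* ℂˣ) := Finset.univ.filter fun l => twi χ l = χ
  let u : (G →* ℂˣ) → G → ℂ := fun l g => (l g : ℂ)
  let y : G → ℂ := fun g => (χ : G → ℂ) g * conj ((χ : G → ℂ) g)
  have hu : ∀ l, classInner (u l) (u l) = 1 := fun l => H12.classInner_irr_self (H12.linIrr l)
  have hyu : ∀ l ∈ S, classInner y (u l) = 1 := by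
    intro l hl
    have hl' : twi χ l = χ := (Finset.mem_filter.1 hl).2
    rw [← H12.classInner_irr_self χ, H12.classInner_def, H12.classInner_def]
    refine congrArg _ (Finset.sum_congr rfl fun g _ => ?_)
    have e := congrFun (congrArg Subtype.val hl') g
    simp only [twi_apply] at e
    show (χ : G → ℂ) g * conj ((χ : G → ℂ) g) * conj (l g : ℂ) = _
    conv_rhs => arg 2; rw [← e]
    rw [map_mul]
    ring
  have horth : ∀ a ∈ S, ∀ b ∈ S, a ≠ b → classInner (u a) (u b) = 0 := fun a _ b _ hab =>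
    H12.classInner_irr_ne (fun e => hab (H12.linIrr_injective e))
  have hb := H16.bessel S u y horth
  rw [Finset.sum_congr rfl (fun l hl => by rw [hyu l hl, hu l])] at hb
  simp only [Complex.normSq_one, Complex.one_re, div_one, Finset.sum_const, nsmul_eq_mul,
    mul_one] at hb
  have hS : S.card = Nat.card {l : G →* ℂˣ // twi χ l = χ} := by
    rw [Nat.card_eq_fintype_card, Fintype.card_subtype]
  rw [← hS]
  refine hb.trans ?_
  have hself := H12.classInner_irr_self χ
  rw [H16.ci_self_eq] at hself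
  have hself' : (Nat.card G : ℝ)⁻¹ * ∑ g : G, Complex.normSq ((χ : G → ℂ) g) = 1 := by
    exact_mod_cast hself
  rw [H16.ci_self_eq, Complex.ofReal_re]
  have hpt : ∀ g, Complex.normSq (y g)
      ≤ ((χ : G → ℂ) 1).re ^ 2 * Complex.normSq ((χ : G → ℂ) g) := by
    intro g
    simp only [y, Complex.normSq_mul, Complex.normSq_conj]
    refine mul_le_mul_of_nonneg_right ?_ (Complex.normSq_nonneg _)
    have h1 := H12.IsCharacter.norm_le (H12.isCharacter_irr χ) g
    rw [H12.irr_apply_one, Complex.natCast_re, Complex.normSq_eq_norm_sq]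
    exact pow_le_pow_left₀ (norm_nonneg _) h1 2
  calc (Nat.card G : ℝ)⁻¹ * ∑ g : G, Complex.normSq (y g)
      ≤ (Nat.card G : ℝ)⁻¹ * ∑ g : G, ((χ : G → ℂ) 1).re ^ 2 * Complex.normSq ((χ : G → ℂ) g) :=
        mul_le_mul_of_nonneg_left (Finset.sum_le_sum fun g _ => hpt g) (by positivity)
    _ = ((χ : G → ℂ) 1).re ^ 2 := by rw [← Finset.mul_sum, mul_left_comm, hself', mul_one]

theorem isPGroup_lin {p : ℕ} [Fact p.Prime] (hG : IsPGroup p G) : IsPGroup p (G →* ℂˣ) := by
  obtain ⟨k, hk⟩ := IsPGroup.iff_card.1 hG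
  obtain ⟨i, -, hi⟩ := (Nat.dvd_prime_pow Fact.out).1 (hk ▸ (commutator G).index_dvd_card)
  exact IsPGroup.of_card (n := i) (by rw [H12.card_monoidHom_units, hi])

theorem sq_mul (a b : G →* ℂˣ) : a * b * (a * b) = a * a * (b * b) :=
  MonoidHom.ext fun g => mul_mul_mul_comm (a g) (b g) (a g) (b g)

/-- The linear characters of square one. -/
noncomputable def sqKer (G : Type u) [Group G] : Subgroup (G →* ℂˣ) where
  carrier := {l | l * l = 1}
  one_mem' := MonoidHom.ext fun g => one_mul _
  mul_mem' := fun {a b} (ha : a * a = 1) (hb : b * b = 1) =>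
    MonoidHom.ext fun g => by
    have h1 := DFunLike.congr_fun ha g
    have h2 := DFunLike.congr_fun hb g
    simp only [MonoidHom.mul_apply, MonoidHom.one_apply] at h1 h2 ⊢
    rw [mul_mul_mul_comm, h1, h2, one_mul]
  inv_mem' := fun {a} (ha : a * a = 1) => show a⁻¹ * a⁻¹ = 1 from MonoidHom.ext fun g => by
    have h := DFunLike.congr_fun ha g
    simp only [MonoidHom.mul_apply, MonoidHom.one_apply] at h
    simp only [MonoidHom.mul_apply, MonoidHom.inv_apply, MonoidHom.one_apply]
    rw [← mul_inv, h, inv_one]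

/-- A noncyclic 2-group has at least four linear characters of square one. -/
theorem four_le_sq_one (hG : IsPGroup 2 G) (hnc : ¬ IsCyclic G) :
    4 ≤ Nat.card (sqKer G) := by
  haveI : Finite (G →* ℂˣ) := Nat.finite_of_card_ne_zero (by
    rw [H12.card_monoidHom_units]; exact Subgroup.index_ne_zero_of_finite)
  obtain ⟨m, hm⟩ := IsPGroup.iff_card.1 ((isPGroup_lin hG).to_subgroup (sqKer G))
  by_contra hlt
  have hm1 : m ≤ 1 := by
    by_contra hh
    have : 2 ^ 2 ≤ 2 ^ m := Nat.pow_le_pow_right (by norm_num) (by omega)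
    omega
  have hle : Nat.card (sqKer G) ≤ 2 := by
    rw [hm]
    calc 2 ^ m ≤ 2 ^ 1 := Nat.pow_le_pow_right (by norm_num) hm1
      _ = 2 := by norm_num
  haveI : IsCyclic (G →* ℂˣ) := H2.isCyclic_of_pow_ker_le (isPGroup_lin hG) (le_of_eq_of_le (Nat.card_congr (Equiv.subtypeEquivRight fun l => by
    show l ^ 2 = 1 ↔ l * l = 1
    rw [pow_two])) hle)
  apply hnc
  have e : (G →* ℂˣ) ≃* (Abelianization G →* ℂˣ) :=
    { (Abelianization.lift : (G →* ℂˣ) ≃ (Abelianization G →* ℂˣ)) with
      map_mul' := fun a b => by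
        refine MonoidHom.ext fun q => ?_
        obtain ⟨g, rfl⟩ := QuotientGroup.mk_surjective q
        rfl }
  haveI : NeZero (Monoid.exponent (Abelianization G) : ℕ) := ⟨Monoid.exponent_ne_zero_of_finite⟩
  obtain ⟨e2⟩ := CommGroup.monoidHom_mulEquiv_of_hasEnoughRootsOfUnity (Abelianization G) ℂ
  haveI : IsCyclic (Abelianization G) :=
    isCyclic_of_surjective (e.trans e2) (e.trans e2).surjective
  obtain ⟨q, hq⟩ := IsCyclic.exists_generator (α := Abelianization G)
  obtain ⟨y, rfl⟩ := QuotientGroup.mk_surjective q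
  have hnil : Group.IsNilpotent G := hG.isNilpotent
  have htop : Subgroup.zpowers y = ⊤ := by
    refine frattini_nongenerating (eq_top_iff.2 fun a _ => ?_)
    obtain ⟨k, hk⟩ := Subgroup.mem_zpowers_iff.1 (hq (QuotientGroup.mk a))
    have hk' : QuotientGroup.mk (s := commutator G) (y ^ k) = QuotientGroup.mk a := hk
    rw [QuotientGroup.eq] at hk'
    rw [show a = y ^ k * ((y ^ k)⁻¹ * a) by group]
    exact mul_mem (Subgroup.mem_sup_left (zpow_mem (Subgroup.mem_zpowers y) k))
      (Subgroup.mem_sup_right (H4.commutator_le_frattini_of_nilpotent hnil hk'))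
  exact isCyclic_iff_exists_zpowers_eq_top.2 ⟨y, htop⟩

theorem card_sq_eq_one_sum [DecidableEq G] :
    ∑ χ : IrrCharacter G, H17.fsInd (χ : G → ℂ) * (χ : G → ℂ) 1
      = ((Finset.univ.filter fun g : G => g * g = 1).card : ℂ) := by
  classical
  simp only [H17.fsInd, mul_assoc, ← Finset.mul_sum, Finset.sum_mul]
  rw [Finset.sum_comm]
  have h : ∀ g : G, ∑ χ : IrrCharacter G, (χ : G → ℂ) (g * g) * (χ : G → ℂ) 1
      = if g * g = 1 then (Nat.card G : ℂ) else 0 := by
    intro g
    refine Eq.trans (Finset.sum_congr rfl fun χ _ => mul_comm _ _) ?_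
    exact (H12.regular_eq_sum (g * g)).trans (by congr)
  rw [Finset.sum_congr rfl fun g _ => h g, ← Finset.sum_filter, Finset.sum_const, nsmul_eq_mul]
  field_simp [H12.card_ne_zero']

/-- The real irreducible characters of degree two are even in number. -/
theorem even_real_two (hG : IsPGroup 2 G) (hnc : ¬ IsCyclic G)
    (hv : (commutator G).index ≠ 4) [DecidableEq (IrrCharacter G)] (R : Finset (IrrCharacter G))
    (hR : ∀ χ, χ ∈ R ↔ (χ : G → ℂ) 1 = 2 ∧ H12.conjIrr χ = χ) : Even R.card := by
  classical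
  haveI : Finite (G →* ℂˣ) := Nat.finite_of_card_ne_zero (by
    rw [H12.card_monoidHom_units]; exact Subgroup.index_ne_zero_of_finite)
  haveI := Fintype.ofFinite (G →* ℂˣ)
  let cls : IrrCharacter G → Finset (IrrCharacter G) := fun χ =>
    R.filter fun ψ => ∃ l, twi χ l = ψ
  have hcls : ∀ χ ∈ R, Even (cls χ).card := by
    intro χ hχ
    obtain ⟨hd, hreal⟩ := (hR χ).1 hχ
    let S : Subgroup (G →* ℂˣ) :=
      { carrier := {l | twi χ l = χ}
        one_mem' := twi_one χ
        mul_mem' := fun {a b} (ha : twi χ a = χ) (hb : twi χ b = χ) =>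
          show twi χ (a * b) = χ by rw [← twi_mul, ha, hb]
        inv_mem' := fun {a} (ha : twi χ a = χ) =>
          show twi χ a⁻¹ = χ by conv_lhs => rw [← ha, twi_inv_cancel] }
    let T : Subgroup (G →* ℂˣ) :=
      { carrier := {l | l * l ∈ S}
        one_mem' := by
          show (1 : G →* ℂˣ) * 1 ∈ S
          rw [show (1 : G →* ℂˣ) * 1 = 1 from MonoidHom.ext fun g => one_mul _]
          exact S.one_mem
        mul_mem' := fun {a b} (ha : a * a ∈ S) (hb : b * b ∈ S) =>
          show a * b * (a * b) ∈ S by rw [sq_mul]; exact S.mul_mem ha hb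
        inv_mem' := fun {a} (ha : a * a ∈ S) =>
          show a⁻¹ * a⁻¹ ∈ S by
            rw [show a⁻¹ * a⁻¹ = (a * a)⁻¹ from MonoidHom.ext fun g => by simp]
            exact S.inv_mem ha }
    have hT : ∀ l, l ∈ T ↔ twi χ l ∈ R := by
      intro l
      show twi χ (l * l) = χ ↔ _
      rw [hR, conjIrr_twi, hreal, twi_degree]
      constructor
      · intro h
        refine ⟨hd, ?_⟩
        conv_lhs => rw [← h]
        rw [twi_mul]
        congr 1
        exact MonoidHom.ext fun g => by simp
      · rintro ⟨-, h⟩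
        rw [← twi_mul, ← h, twi_mul, inv_mul_self', twi_one]
    have hcount : (cls χ).card * Nat.card S = Nat.card T := by
      have e1 : Nat.card T = (Finset.univ.filter fun l : G →* ℂˣ => twi χ l ∈ R).card := by
        rw [Nat.card_congr (Equiv.subtypeEquivRight hT), Nat.card_eq_fintype_card,
          Fintype.card_subtype]
      rw [e1, Finset.card_eq_sum_card_fiberwise (f := fun l => twi χ l) (t := cls χ)
        (fun l hl => Finset.mem_filter.2 ⟨(Finset.mem_filter.1 hl).2, l, rfl⟩),
        Finset.sum_const_nat fun ψ hψ => ?_]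
      obtain ⟨hψR, l₀, rfl⟩ := Finset.mem_filter.1 hψ
      rw [Finset.filter_filter, Nat.card_eq_fintype_card, ← Fintype.card_subtype]
      refine Fintype.card_congr
        { toFun := fun l => ⟨l₀⁻¹ * l.1, (twi_eq_iff χ _ _).1 l.2.2⟩
          invFun := fun s =>
            have he : twi χ (l₀ * s.1) = twi χ l₀ := (twi_eq_iff χ (l₀ * s.1) l₀).2 (by
              rw [show l₀⁻¹ * (l₀ * s.1) = s.1 from
                MonoidHom.ext fun g => inv_mul_cancel_left (l₀ g) (s.1 g)]
              exact s.2)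
            ⟨l₀ * s.1, (show twi χ (l₀ * s.1) ∈ R from he ▸ hψR), he⟩
          left_inv := fun l => Subtype.ext (MonoidHom.ext fun g => mul_inv_cancel_left (l₀ g) (l.1 g))
          right_inv := fun s => Subtype.ext
            (MonoidHom.ext fun g => inv_mul_cancel_left (l₀ g) (s.1 g)) }
    obtain ⟨a, ha⟩ := IsPGroup.iff_card.1 ((isPGroup_lin hG).to_subgroup S)
    obtain ⟨b, hb⟩ := IsPGroup.iff_card.1 ((isPGroup_lin hG).to_subgroup T)
    rw [ha, hb] at hcount
    have hST : S ≤ T := fun l hl => S.mul_mem hl hl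
    have hKT : sqKer G ≤ T := fun l (hl : l * l = 1) => by
      show l * l ∈ S
      rw [hl]
      exact S.one_mem
    by_contra hodd
    rw [Nat.not_even_iff_odd] at hodd
    have hab : a ≤ b := (Nat.pow_dvd_pow_iff_le_right (x := 2) one_lt_two).1 ⟨(cls χ).card, by
      rw [mul_comm]; exact hcount.symm⟩
    have hab' : a = b := by
      by_contra hne
      have h1 : (cls χ).card = 2 ^ (b - a) := by
        rw [← Nat.pow_div hab (by norm_num), ← hcount, Nat.mul_div_cancel _ (pow_pos (by norm_num) a)]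
      rw [h1, Nat.odd_pow_iff (by omega)] at hodd
      exact absurd hodd (by decide)
    have hTS : S = T := Subgroup.eq_of_le_of_card_ge hST (by rw [ha, hb, hab'])
    have hSle : Nat.card S ≤ 4 := by
      have h := card_stab_le χ
      rw [hd] at h
      have h' : (Nat.card S : ℝ) ≤ (2 : ℂ).re ^ 2 := h
      exact (Nat.cast_le (α := ℝ)).1 (h'.trans (by norm_num))
    have hKS : sqKer G = S :=
      Subgroup.eq_of_le_of_card_ge (hKT.trans hTS.ge) (hSle.trans (four_le_sq_one hG hnc))
    apply hv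
    rw [← H12.card_monoidHom_units]
    have hall : ∀ l : G →* ℂˣ, l ∈ S := by
      have hexp : ∀ n : ℕ, ∀ l : G →* ℂˣ, l ^ 2 ^ n = 1 → l ∈ S := by
        intro n
        induction n with
        | zero => intro l hl; rw [pow_zero, pow_one] at hl; rw [hl]; exact S.one_mem
        | succ n ih =>
          intro l hl
          rw [pow_succ', pow_mul, pow_two] at hl
          have h1 : l ∈ T := ih (l * l) hl
          rwa [← hTS] at h1
      intro l
      obtain ⟨n, hn⟩ := isPGroup_lin hG l
      exact hexp n l hn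
    have htop : S = ⊤ := eq_top_iff.2 fun l _ => hall l
    rw [htop, Subgroup.card_top] at hSle
    have h4 := (four_le_sq_one hG hnc).trans
      (Nat.card_le_card_of_injective _ Subtype.val_injective)
    omega
  -- sum over classes
  have hsum : R.card = ∑ c ∈ R.image cls, c.card := by
    rw [Finset.card_eq_sum_card_fiberwise (f := cls) (t := R.image cls)
      (fun χ hχ => Finset.mem_image_of_mem _ hχ)]
    refine Finset.sum_congr rfl fun c hc => ?_
    obtain ⟨χ, hχ, rfl⟩ := Finset.mem_image.1 hc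
    congr 1
    ext ψ
    simp only [Finset.mem_filter, cls]
    constructor
    · rintro ⟨hψ, he⟩
      have : ψ ∈ R.filter fun φ => ∃ l, twi ψ l = φ := Finset.mem_filter.2 ⟨hψ, 1, twi_one ψ⟩
      rw [he] at this
      exact Finset.mem_filter.1 this
    · rintro ⟨hψ, l, rfl⟩
      refine ⟨hψ, Finset.filter_congr fun φ _ => ?_⟩
      constructor
      · rintro ⟨m, rfl⟩
        exact ⟨l * m, (twi_mul χ l m).symm⟩
      · rintro ⟨m, rfl⟩
        exact ⟨l⁻¹ * m, by rw [← twi_mul, twi_inv_cancel]⟩
  rw [hsum]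
  refine Finset.even_sum _ fun c hc => ?_
  obtain ⟨χ, hχ, rfl⟩ := Finset.mem_image.1 hc
  exact hcls χ hχ

end H13.Twist
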