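import Cfsg.Agent.H12.Glauberman
import Cfsg.Agent.H12.InvConstituents
import Cfsg.Agent.H12.CliffordCorr
import Cfsg.Agent.H12.CoprimeCount
import Cfsg.Agent.H12.CyclicCorr
import Cfsg.Agent.H13.Gallagher
import Cfsg.Agent.H13.Correspondence
import Cfsg.Agent.H14.GallagherExt

/-!
# A Glauberman correspondence modulo a normal Sylow subgroup

A `p`-group `S` acts on `K`, `Q` is an invariant normal Sylow `p`-subgroup and `C/Q` is the fixed
point subgroup on `K/Q`.  The invariant irreducible characters of `K` correspond to the invariant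
ones of `C`, through canonical extensions, Gallagher and the Glauberman correspondence in each
inertia group.
-/

set_option autoImplicit false
set_option linter.unusedSectionVars false

open Cfsg
open scoped ComplexConjugate

namespace H13.RelGl

open scoped Classical

universe u v

/-! ### General facts -/

/-- The `θ`-component along a homomorphism. -/
noncomputable def ov {X N : Type u} [Group X] [Group N] [Fintype N] (j : N →* X) (f : X → ℂ)
    (θ : N → ℂ) : ℂ := classInner (fun n => f (j n)) θ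

theorem ov_ne_zero_of_constituent {X N : Type u} [Group X] [Fintype X] [Group N] [Fintype N]
    (j : N →* X) {f : X → ℂ} (hf : IsCharacter X f) (ξ : IrrCharacter X) (θ : IrrCharacter N)
    (h1 : classInner f (ξ : X → ℂ) ≠ 0) (h2 : ov j (ξ : X → ℂ) θ ≠ 0) :
    ov j f θ ≠ 0 := by
  obtain ⟨m, hm⟩ := H12.IsCharacter.exists_mult hf
  have hcoef : classInner f (ξ : X → ℂ) = (m ξ : ℂ) := by
    rw [hm, H12.classInner_sum_smul_irr (fun χ => (m χ : ℂ))]
  choose k hk using fun η : IrrCharacter X => H12.IsCharacter.classInner_nat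
    (H12.IsCharacter.comp (H12.isCharacter_irr η) j) (H12.isCharacter_irr θ)
  have hsum : ov j f θ = ((∑ η, m η * k η : ℕ) : ℂ) := by
    have e : (fun n => f (j n))
        = ∑ η : IrrCharacter X, (m η : ℂ) • ((η : X → ℂ) ∘ j) := by
      funext n; rw [hm]; simp
    rw [ov, e, H12.classInner_sum_left]
    push_cast
    exact Finset.sum_congr rfl fun η _ => by rw [H12.classInner_smul_left, hk]
  rw [hsum, Nat.cast_ne_zero]
  intro h0
  have h3 := (Finset.sum_eq_zero_iff.1 h0) ξ (Finset.mem_univ ξ)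
  rcases Nat.mul_eq_zero.1 h3 with h | h
  · exact h1 (by rw [hcoef, h, Nat.cast_zero])
  · apply h2
    show classInner ((ξ : X → ℂ) ∘ j) θ = 0
    rw [hk, h, Nat.cast_zero]

theorem indFun_comp_aut {G : Type u} [Group G] [Fintype G] (T : Subgroup G) (ψ : T → ℂ)
    (e : G ≃* G) (eT : T ≃* T) (he : ∀ t : T, (eT t : G) = e t) (x : G) :
    indFun T ψ (e x) = indFun T (fun t => ψ (eT t)) x := by
  rw [H12.indFun_apply, H12.indFun_apply]
  congr 1
  symm
  refine Fintype.sum_equiv e.toEquiv _ _ fun y => ?_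
  show extendByZero T (fun t => ψ (eT t)) (y⁻¹ * x * y) = extendByZero T ψ ((e y)⁻¹ * e x * e y)
  rw [← map_inv, ← map_mul, ← map_mul]
  generalize y⁻¹ * x * y = z
  by_cases hz : z ∈ T
  · rw [H12.extendByZero_mk T _ hz,
      show e z = ((eT ⟨z, hz⟩ : T) : G) from (he ⟨z, hz⟩).symm, H12.extendByZero_coe]
  · rw [H12.extendByZero_of_notMem T _ hz, H12.extendByZero_of_notMem T _ fun h => hz ?_]
    obtain ⟨t, ht⟩ := eT.surjective ⟨e z, h⟩
    have : e (t : G) = e z := by rw [← he, ht]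
    exact e.injective this ▸ t.2

theorem detOrder_comp_equiv {G : Type u} [Group G] [Finite G] {χ : G → ℂ}
    (hχ : IsIrrCharacter G χ) (e : G ≃* G) : detOrder (χ ∘ e) = detOrder χ := by
  obtain ⟨m, τ, hτ, hτc⟩ := H12.IsIrrCharacter.comp_surjective hχ (f := e.toMonoidHom) e.surjective
  obtain ⟨n, ρ, hρ, rfl⟩ := hχ
  haveI := hτ
  haveI := hρ
  have h1 : detChar (ρ.character ∘ e) = fun g => detChar ρ.character (e g) := by
    funext g
    show detChar (ρ.character ∘ e.toMonoidHom) g = _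
    rw [H14.detChar_eq τ hτc, H14.detChar_eq ρ rfl,
      ← H14.det_eq_of_char_eq τ (ρ.comp e.toMonoidHom) hτc.symm g]
    rfl
  rw [detOrder, detOrder, h1]
  let F : (G → ℂ) →* (G → ℂ) :=
    { toFun := fun f g => f (e g), map_one' := rfl, map_mul' := fun _ _ => rfl }
  have hF : Function.Injective F := fun a b h => funext fun g => by
    have := congrFun h (e.symm g)
    simpa [F] using this
  exact orderOf_injective F hF _

theorem hyp_of_ne_zero {X : Type u} [Group X] [Fintype X] (A T : Subgroup X) (hAT : A ≤ T)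
    (ϑ : A → ℂ) (ψ : IrrCharacter T)
    (h : classInner (fun n : A => (ψ : T → ℂ) ⟨n, hAT n.2⟩) ϑ ≠ 0) :
    classInner (indFun (A.subgroupOf T) (H12.onSubgroupOf (T := T) ϑ)) ψ ≠ 0 := by
  rw [H12.classInner_indFun _ _ (H12.irr_isClassFunction ψ)]
  intro h0
  apply h
  rw [← H12.conj_classInner, ← H12.classInner_comp_equiv (Subgroup.subgroupOfEquivOfLe hAT)]
  rw [show classInner (ϑ ∘ Subgroup.subgroupOfEquivOfLe hAT)
    ((fun n : A => (ψ : T → ℂ) ⟨n, hAT n.2⟩) ∘ Subgroup.subgroupOfEquivOfLe hAT)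
    = classInner (H12.onSubgroupOf (T := T) ϑ) (fun x : A.subgroupOf T => (ψ : T → ℂ) x) from rfl,
    h0, map_zero]

theorem exists_fixed_of_not_dvd {P : Type v} [Group P] {p : ℕ} [Fact p.Prime] (hP : IsPGroup p P)
    {X : Type u} [Finite X] [MulAction P X] (h : ¬ p ∣ Nat.card X) : ∃ x : X, ∀ s : P, s • x = x :=
  hP.nonempty_fixed_point_of_prime_not_dvd_card X h

/-! ### The set-up -/

variable {K : Type u} [Group K] [Fintype K] {S : Type v} [Group S]

/-- The hypotheses of the correspondence. -/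
structure Data (φ : S →* MulAut K) (p : ℕ) (Q C : Subgroup K) : Prop where
  pS : IsPGroup p S
  pQ : IsPGroup p Q
  stab : ∀ s, ∀ q ∈ Q, φ s q ∈ Q
  cop : ¬ p ∣ Q.index
  mem_C : ∀ k, k ∈ C ↔ ∀ s, φ s k * k⁻¹ ∈ Q

variable {φ : S →* MulAut K} {p : ℕ} [Fact p.Prime] {Q C : Subgroup K} [Q.Normal]

theorem Data.le_C (hD : Data φ p Q C) : Q ≤ C := fun q hq =>
  (hD.mem_C q).2 fun s => mul_mem (hD.stab s q hq) (inv_mem hq)

/-- Invariance of a function on `C`. -/
def InvC (φ : S →* MulAut K) {C : Subgroup K} (ξ : C → ℂ) : Prop :=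
  ∀ (s : S) (c c' : C), (c' : K) = φ s c → ξ c' = ξ c

theorem mk_fix_iff {q k : K} : (q : K ⧸ Q) = (k : K ⧸ Q) ↔ q * k⁻¹ ∈ Q := by
  rw [QuotientGroup.eq_iff_div_mem, div_eq_mul_inv]

/-- The action of `S` on `K ⧸ Q`. -/
noncomputable def quotAct (hD : Data φ p Q C) (s : S) : K ⧸ Q → K ⧸ Q :=
  QuotientGroup.map Q Q (φ s).toMonoidHom fun q hq => hD.stab s q hq

theorem quotAct_mk (hD : Data φ p Q C) (s : S) (k : K) :
    quotAct hD s (k : K ⧸ Q) = ((φ s k : K) : K ⧸ Q) := rfl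

/-- Fixed points meet every coset that is setwise fixed. -/
theorem exists_mem_C (hD : Data φ p Q C) (L : Subgroup K) (hQL : Q ≤ L)
    (hL : ∀ s, ∀ x ∈ L, φ s x ∈ L) (k : K) (hk : ∀ s, φ s k * k⁻¹ ∈ L) :
    ∃ l ∈ L, l * k ∈ C := by
  let X := {x : K ⧸ Q // ∃ l ∈ L, ((l * k : K) : K ⧸ Q) = x}
  have hst : ∀ (s : S) (x : K ⧸ Q), (∃ l ∈ L, ((l * k : K) : K ⧸ Q) = x) →
      ∃ l ∈ L, ((l * k : K) : K ⧸ Q) = quotAct hD s x := by
    rintro s x ⟨l, hl, rfl⟩
    refine ⟨φ s l * (φ s k * k⁻¹), mul_mem (hL s l hl) (hk s), ?_⟩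
    rw [quotAct_mk, map_mul]
    congr 1
    group
  letI : MulAction S X :=
    { smul := fun s x => ⟨quotAct hD s x.1, hst s x.1 x.2⟩
      one_smul := fun x => Subtype.ext (by
        obtain ⟨y, hy⟩ := QuotientGroup.mk_surjective x.1
        show quotAct hD 1 x.1 = x.1
        rw [← hy, quotAct_mk, map_one]; rfl)
      mul_smul := fun a b x => Subtype.ext (by
        obtain ⟨y, hy⟩ := QuotientGroup.mk_surjective x.1
        show quotAct hD (a * b) x.1 = quotAct hD a (quotAct hD b x.1)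
        rw [← hy, quotAct_mk, quotAct_mk, quotAct_mk, map_mul]; rfl) }
  have hcard : Nat.card X = Q.relIndex L := by
    rw [Subgroup.relIndex, Subgroup.index, eq_comm]
    refine Nat.card_congr (Equiv.ofBijective
      (fun y : L ⧸ Q.subgroupOf L => (⟨((y.out : K) * k : K), y.out, y.out.2, rfl⟩ : X)) ⟨?_, ?_⟩)
    · intro a b hab
      have h : (((a.out : K) * k : K) : K ⧸ Q) = (((b.out : K) * k : K) : K ⧸ Q) :=
        congrArg Subtype.val hab
      rw [QuotientGroup.mk_mul, QuotientGroup.mk_mul, mul_left_inj, QuotientGroup.eq] at h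
      rw [← a.out_eq', ← b.out_eq', QuotientGroup.eq, Subgroup.mem_subgroupOf]
      exact h
    · rintro ⟨x, l, hl, rfl⟩
      refine ⟨((⟨l, hl⟩ : L) : L ⧸ Q.subgroupOf L), Subtype.ext ?_⟩
      show (((((⟨l, hl⟩ : L) : L ⧸ Q.subgroupOf L).out : L) : K) * k : K) = ((l * k : K) : K ⧸ Q)
      rw [QuotientGroup.mk_mul, QuotientGroup.mk_mul]
      congr 1
      rw [QuotientGroup.eq]
      have := QuotientGroup.eq.1 (((⟨l, hl⟩ : L) : L ⧸ Q.subgroupOf L).out_eq')
      exact Subgroup.mem_subgroupOf.1 this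
  obtain ⟨x, hx⟩ := exists_fixed_of_not_dvd hD.pS (X := X) (by
    rw [hcard]
    exact fun h => hD.cop (h.trans (Subgroup.relIndex_dvd_index_of_le hQL)))
  obtain ⟨l, hl, hlx⟩ := x.2
  refine ⟨l, hl, (hD.mem_C _).2 fun s => mk_fix_iff.1 ?_⟩
  have := congrArg Subtype.val (hx s)
  rw [show ((s • x : X) : K ⧸ Q) = quotAct hD s x.1 from rfl, ← hlx, quotAct_mk] at this
  exact this

/-- Indices over `Q` agree modulo `p` with those in the fixed points. -/
theorem relIndex_congr (hD : Data φ p Q C) (L : Subgroup K) (hQL : Q ≤ L)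
    (hL : ∀ s, ∀ x ∈ L, φ s x ∈ L) :
    (Q.relIndex L : ZMod p) = (Q.relIndex (L ⊓ C) : ZMod p) := by
  let X := {x : K ⧸ Q // x ∈ L.map (QuotientGroup.mk' Q)}
  have hst : ∀ (s : S) (x : K ⧸ Q), x ∈ L.map (QuotientGroup.mk' Q) →
      quotAct hD s x ∈ L.map (QuotientGroup.mk' Q) := by
    rintro s _ ⟨l, hl, rfl⟩
    exact ⟨φ s l, hL s l hl, rfl⟩
  letI : MulAction S X :=
    { smul := fun s x => ⟨quotAct hD s x.1, hst s x.1 x.2⟩
      one_smul := fun x => Subtype.ext (by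
        obtain ⟨y, hy⟩ := QuotientGroup.mk_surjective x.1
        show quotAct hD 1 x.1 = x.1
        rw [← hy, quotAct_mk, map_one]; rfl)
      mul_smul := fun a b x => Subtype.ext (by
        obtain ⟨y, hy⟩ := QuotientGroup.mk_surjective x.1
        show quotAct hD (a * b) x.1 = quotAct hD a (quotAct hD b x.1)
        rw [← hy, quotAct_mk, quotAct_mk, quotAct_mk, map_mul]; rfl) }
  have hmap : ∀ M : Subgroup K, Q ≤ M →
      Nat.card (M.map (QuotientGroup.mk' Q)) = Q.relIndex M := fun M hM => by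
    have h1 := Subgroup.card_mul_index (M.map (QuotientGroup.mk' Q))
    rw [Subgroup.index_map_eq _ (QuotientGroup.mk'_surjective Q)
      (by rw [QuotientGroup.ker_mk']; exact hM), show Nat.card (K ⧸ Q) = Q.index from rfl,
      ← Subgroup.relIndex_mul_index hM] at h1
    exact Nat.eq_of_mul_eq_mul_right (Nat.pos_of_ne_zero M.index_ne_zero_of_finite) h1
  have hfix : Nat.card (MulAction.fixedPoints S X)
      = Nat.card ((L ⊓ C).map (QuotientGroup.mk' Q)) := by
    refine Nat.card_congr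
      { toFun := fun x => ⟨x.1.1, ?_⟩
        invFun := fun y => ⟨⟨y.1, Subgroup.map_mono inf_le_left y.2⟩, ?_⟩
        left_inv := fun x => rfl
        right_inv := fun y => rfl }
    · obtain ⟨l, hl, hlx⟩ := x.1.2
      refine ⟨l, ⟨hl, (hD.mem_C l).2 fun s => mk_fix_iff.1 ?_⟩, hlx⟩
      have h2 := congrArg Subtype.val (x.2 s)
      rw [show ((s • x.1 : X) : K ⧸ Q) = quotAct hD s x.1.1 from rfl, ← hlx] at h2
      exact h2
    · obtain ⟨l, ⟨-, hlC⟩, hly⟩ := y.2
      intro s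
      refine Subtype.ext ?_
      show quotAct hD s y.1 = y.1
      rw [← hly]
      exact mk_fix_iff.2 ((hD.mem_C l).1 hlC s)
  have h := hD.pS.card_modEq_card_fixedPoints X
  rw [hfix, show Nat.card X = Nat.card (L.map (QuotientGroup.mk' Q)) from rfl, hmap L hQL,
    hmap (L ⊓ C) (le_inf hQL hD.le_C)] at h
  exact (ZMod.natCast_eq_natCast_iff _ _ _).2 h

theorem not_dvd_relIndex (hD : Data φ p Q C) (L : Subgroup K) (hQL : Q ≤ L) :
    ¬ p ∣ Q.relIndex L := fun h =>
  hD.cop (h.trans (Subgroup.relIndex_dvd_index_of_le hQL))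

/-! ### One invariant character of `Q` -/

section Local

variable (θ : IrrCharacter Q)

/-- Invariance of `θ` under the operators. -/
def Fixed (φ : S →* MulAut K) : Prop :=
  ∀ (s : S) (q q' : Q), (q' : K) = φ s q → (θ : Q → ℂ) q' = (θ : Q → ℂ) q

local notation "TT" => H13.inertia Q (θ : Q → ℂ)
local notation "DD" => Subgroup.subgroupOf (H13.inertia Q (θ : Q → ℂ)) C

theorem le_T : Q ≤ TT := H13.le_inertia Q (H12.irr_isClassFunction θ)

theorem T_stable (hD : Data φ p Q C) (hθ : Fixed θ φ) : ∀ s, ∀ x ∈ TT, φ s x ∈ TT := by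
  intro s x hx
  show H13.twist Q (φ s x) (θ : Q → ℂ) = θ
  funext q
  set q0 : Q := ⟨φ s⁻¹ q, hD.stab s⁻¹ q q.2⟩ with hq0
  have hq : (q : K) = φ s (q0 : K) := by
    show (q : K) = φ s (φ s⁻¹ q)
    rw [← MulAut.mul_apply, ← map_mul, mul_inv_cancel, map_one, MulAut.one_apply]
  rw [H13.twist_apply, hθ s q0 q hq, ← congrFun hx q0, H13.twist_apply]
  exact hθ s _ _ (by
    show φ s x * (q : K) * (φ s x)⁻¹ = φ s (x * (q0 : K) * x⁻¹)
    rw [hq, map_mul, map_mul, map_inv])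

/-- The operators on the inertia group. -/
noncomputable def actT (hD : Data φ p Q C) (hθ : Fixed θ φ) : S →* MulAut TT :=
  H12.InvConst.resHom φ TT (T_stable θ hD hθ)

theorem actT_map (hD : Data φ p Q C) (hθ : Fixed θ φ) (s : S) :
    (Q.subgroupOf TT).map (actT θ hD hθ s).toMonoidHom = Q.subgroupOf TT := by
  ext x
  constructor
  · rintro ⟨y, hy, rfl⟩
    exact hD.stab s y hy
  · intro hx
    refine ⟨(actT θ hD hθ s).symm x, ?_, (actT θ hD hθ s).apply_symm_apply x⟩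
    show φ s⁻¹ (x : K) ∈ Q
    exact hD.stab s⁻¹ x hx

/-- The operators on the quotient of the inertia group. -/
noncomputable def actQ (hD : Data φ p Q C) (hθ : Fixed θ φ) :
    S →* MulAut (TT ⧸ Q.subgroupOf TT) :=
  MonoidHom.mk' (fun s => QuotientGroup.congr _ _ (actT θ hD hθ s) (actT_map θ hD hθ s))
    fun s t => MulEquiv.ext fun x => by
      obtain ⟨y, rfl⟩ := QuotientGroup.mk_surjective x
      rw [MulAut.mul_apply]
      show ((actT θ hD hθ (s * t) y : TT) : TT ⧸ Q.subgroupOf TT)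
        = ((actT θ hD hθ s (actT θ hD hθ t y) : TT) : TT ⧸ Q.subgroupOf TT)
      rw [map_mul, MulAut.mul_apply]

theorem actQ_mk (hD : Data φ p Q C) (hθ : Fixed θ φ) (s : S) (t : TT) :
    actQ θ hD hθ s (t : TT ⧸ Q.subgroupOf TT) = ((actT θ hD hθ s t : TT) : TT ⧸ Q.subgroupOf TT) :=
  rfl

/-- The fixed points in the quotient of the inertia group. -/
noncomputable def fixQ : Subgroup (TT ⧸ Q.subgroupOf TT) :=
  (C.subgroupOf TT).map (QuotientGroup.mk' (Q.subgroupOf TT))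

theorem mem_fixQ (hD : Data φ p Q C) (hθ : Fixed θ φ) (x : TT ⧸ Q.subgroupOf TT) :
    x ∈ fixQ (C := C) θ ↔ ∀ s, actQ θ hD hθ s x = x := by
  obtain ⟨t, rfl⟩ := QuotientGroup.mk_surjective x
  constructor
  · rintro ⟨c, hc, hct⟩ s
    rw [show (t : TT ⧸ Q.subgroupOf TT) = (c : TT ⧸ Q.subgroupOf TT) from hct.symm, actQ_mk]
    rw [QuotientGroup.eq_iff_div_mem, div_eq_mul_inv]
    exact (hD.mem_C (c : K)).1 hc s
  · intro h
    refine ⟨t, (hD.mem_C (t : K)).2 fun s => ?_, rfl⟩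
    have := h s
    rw [actQ_mk, QuotientGroup.eq_iff_div_mem, div_eq_mul_inv] at this
    exact this

theorem not_dvd_quot (hD : Data φ p Q C) : ¬ p ∣ Nat.card (TT ⧸ Q.subgroupOf TT) :=
  not_dvd_relIndex hD TT (le_T θ)

/-- The inclusion of `Q` in the inertia group in `C`. -/
def jD (hD : Data φ p Q C) : Q →* DD where
  toFun q := ⟨⟨q, hD.le_C q.2⟩, le_T θ q.2⟩
  map_one' := rfl
  map_mul' _ _ := rfl

/-- The map from the inertia group in `C` to that in `K`. -/
def toT : DD →* TT where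
  toFun d := ⟨((d : C) : K), d.2⟩
  map_one' := rfl
  map_mul' _ _ := rfl

/-- The projection of the inertia group in `C` onto the fixed points. -/
def toFix : DD →* fixQ (C := C) θ where
  toFun d := ⟨((toT θ d : TT) : TT ⧸ Q.subgroupOf TT), toT θ d, (d : C).2, rfl⟩
  map_one' := rfl
  map_mul' _ _ := rfl

theorem toFix_surjective : Function.Surjective (toFix (C := C) θ) := by
  rintro ⟨_, t, ht, rfl⟩
  exact ⟨⟨⟨t, ht⟩, t.2⟩, rfl⟩

/-- The normal subgroup `Q` inside the inertia group in `C`. -/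
def QD : Subgroup DD := (Q.subgroupOf C).subgroupOf DD

instance QD_normal : (QD (Q := Q) (C := C) θ).Normal := by
  unfold QD
  infer_instance

theorem toFix_ker : (toFix (C := C) θ).ker = QD θ := by
  ext d
  rw [MonoidHom.mem_ker]
  constructor
  · intro h
    exact (QuotientGroup.eq_one_iff (N := Q.subgroupOf TT) (toT θ d)).1 (congrArg Subtype.val h)
  · intro h
    exact Subtype.ext ((QuotientGroup.eq_one_iff (N := Q.subgroupOf TT) (toT θ d)).2 h)

/-- The inertia group in `C` modulo `Q` is the fixed point subgroup. -/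
noncomputable def eFix : DD ⧸ QD (Q := Q) (C := C) θ ≃* fixQ (C := C) θ :=
  (QuotientGroup.quotientMulEquivOfEq (toFix_ker θ).symm).trans
    (QuotientGroup.quotientKerEquivOfSurjective _ (toFix_surjective θ))

theorem eFix_mk (d : DD) : eFix θ (d : DD ⧸ QD (Q := Q) (C := C) θ) = toFix θ d := rfl

/-- An invariant extension to the inertia group. -/
theorem exists_eta (hD : Data φ p Q C) (hθ : Fixed θ φ) :
    ∃ η : TT → ℂ, IsIrrCharacter TT η ∧
      (∀ q : Q, η ⟨q, le_T θ q.2⟩ = (θ : Q → ℂ) q) ∧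
      ∀ s (t : TT), η (actT θ hD hθ s t) = η t := by
  set θT : Q.subgroupOf TT → ℂ := H12.onSubgroupOf (T := TT) (θ : Q → ℂ) with hθT
  have hθTirr := H12.isIrrCharacter_onSubgroupOf (le_T θ) θ.2
  obtain ⟨j, hj⟩ := hD.pQ.exists_card_eq
  have hcard : Nat.card (Q.subgroupOf TT) = p ^ j := by
    rw [Nat.card_congr (Subgroup.subgroupOfEquivOfLe (le_T θ)).toEquiv, hj]
  have hcopp : ∀ m : ℕ, m ∣ p ^ j → Nat.Coprime (Q.subgroupOf TT).index m := fun m hm =>
    (Nat.Coprime.pow_right j (((Nat.Prime.coprime_iff_not_dvd Fact.out).2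
      (not_dvd_quot θ hD)).symm)).coprime_dvd_right hm
  have hd : θT 1 = (H12.degree θT : ℂ) :=
    H12.irr_apply_one (⟨θT, hθTirr⟩ : IrrCharacter (Q.subgroupOf TT))
  have hdet : detOrder θT ∣ p ^ j := hcard ▸ H12.CoprimeCount.detOrder_dvd_card hθTirr
  have hdeg : H12.degree θT ∣ p ^ j :=
    hcard ▸ H12.irr_degree_dvd_card (⟨θT, hθTirr⟩ : IrrCharacter (Q.subgroupOf TT))
  obtain ⟨η, ⟨hη, hηN, hηdet⟩, huniq⟩ := H14.exists_canonical_extension (Q.subgroupOf TT) θT hθTirr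
    (fun g n => congrFun g.2 ⟨((n : TT) : K), n.2⟩) (H12.degree θT) hd
    (Nat.Coprime.mul_right (hcopp _ hdet) (hcopp _ hdeg))
  refine ⟨η, hη, fun q => hηN ⟨⟨q, le_T θ q.2⟩, q.2⟩, fun s t => ?_⟩
  have h := huniq (η ∘ actT θ hD hθ s)
    (H12.IsIrrCharacter.comp_surjective hη (f := (actT θ hD hθ s).toMonoidHom)
      (actT θ hD hθ s).surjective)
    (fun n => by
      show η (actT θ hD hθ s (n : TT)) = θT n
      rw [show actT θ hD hθ s (n : TT)
        = ((⟨actT θ hD hθ s (n : TT), hD.stab s _ n.2⟩ : Q.subgroupOf TT) : TT) from rfl, hηN]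
      exact hθ s ⟨((n : TT) : K), n.2⟩ ⟨φ s ((n : TT) : K), hD.stab s _ n.2⟩ rfl)
    (by
      rw [detOrder_comp_equiv hη, hηdet]
      exact hcopp _ hdet)
  exact congrFun h t

theorem inertia_C (hD : Data φ p Q C) (g : C) :
    g ∈ DD ↔ ∀ n : Q.subgroupOf C,
      H12.onSubgroupOf (T := C) (θ : Q → ℂ)
        ⟨g * (n : C) * g⁻¹, Subgroup.normal_subgroupOf.conj_mem (n : C) n.2 g⟩
      = H12.onSubgroupOf (T := C) (θ : Q → ℂ) n := by
  constructor
  · intro hg n
    exact congrFun (show H13.twist Q (g : K) (θ : Q → ℂ) = θ from hg) ⟨((n : C) : K), n.2⟩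
  · intro h
    show H13.twist Q (g : K) (θ : Q → ℂ) = θ
    funext q
    exact h ⟨⟨q, hD.le_C q.2⟩, q.2⟩

theorem inertia_K (g : K) :
    g ∈ TT ↔ ∀ n : Q, (θ : Q → ℂ) ⟨g * n * g⁻¹, ‹Q.Normal›.conj_mem n n.2 g⟩ = (θ : Q → ℂ) n :=
  ⟨fun h n => congrFun h n, fun h => funext h⟩

theorem QC_le_D : Q.subgroupOf C ≤ DD := fun _ hq => le_T θ hq

theorem ov_C_eq (hD : Data φ p Q C) (f : C → ℂ) :
    classInner (fun n : Q.subgroupOf C => f n) (H12.onSubgroupOf (T := C) (θ : Q → ℂ))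
      = ov (Subgroup.inclusion hD.le_C) f θ := by
  rw [ov, ← H12.classInner_comp_equiv (Subgroup.subgroupOfEquivOfLe hD.le_C)]
  rfl

theorem ov_D_eq (hD : Data φ p Q C) (f : DD → ℂ) :
    classInner (fun n : Q.subgroupOf C => f ⟨n, QC_le_D θ n.2⟩)
      (H12.onSubgroupOf (T := C) (θ : Q → ℂ)) = ov (jD θ hD) f θ := by
  rw [ov, ← H12.classInner_comp_equiv (Subgroup.subgroupOfEquivOfLe hD.le_C)]
  rfl

/-- The local correspondence: parametrisations of the characters over `θ`. -/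
theorem local_param (hD : Data φ p Q C) (hθ : Fixed θ φ) :
    ∃ (a : {α : IrrCharacter (TT ⧸ Q.subgroupOf TT) //
          H12.Glauberman.Inv (actQ θ hD hθ) (α : TT ⧸ Q.subgroupOf TT → ℂ)} → IrrCharacter K)
      (b : IrrCharacter (fixQ (C := C) θ) → IrrCharacter C),
      (∀ α, H12.Glauberman.Inv φ (a α : K → ℂ)) ∧
      (∀ χ : IrrCharacter K, H12.Glauberman.Inv φ (χ : K → ℂ) →
        ov Q.subtype (χ : K → ℂ) θ ≠ 0 → ∃ α, a α = χ) ∧
      (∀ β, InvC φ (b β : C → ℂ)) ∧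
      (∀ ξ : IrrCharacter C, ov (Subgroup.inclusion hD.le_C) (ξ : C → ℂ) θ ≠ 0 → ∃ β, b β = ξ) ∧
      (∀ α, ov Q.subtype (a α : K → ℂ) θ ≠ 0) ∧
      (∀ α β, H12.Glauberman.mult C (a α) (b β)
        = H12.Glauberman.mult (fixQ (C := C) θ) α.1 β) ∧
      (∀ α β, ((H12.degree (b β : C → ℂ) : ZMod p) * (H12.degree (α.1 : TT ⧸ Q.subgroupOf TT → ℂ)))
        = (H12.degree (a α : K → ℂ) : ZMod p) * (H12.degree (β : fixQ (C := C) θ → ℂ))) := by
  obtain ⟨η, hη, hηq, hηinv⟩ := exists_eta θ hD hθ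
  have hηc := H12.isCharacter_of_isIrrCharacter hη
  have hθQ : IsIrrCharacter Q (θ : Q → ℂ) := θ.2
  -- restriction of `η` is irreducible
  have hresT : IsIrrCharacter (Q.subgroupOf TT) (fun n : Q.subgroupOf TT => η n) := by
    have h := H12.isIrrCharacter_onSubgroupOf (T := TT) (le_T θ) θ.2
    have e : (fun n : Q.subgroupOf TT => η n) = H12.onSubgroupOf (T := TT) (θ : Q → ℂ) :=
      funext fun n => hηq ⟨((n : TT) : K), n.2⟩
    rw [e]; exact h
  let ηD : DD → ℂ := fun d => η (toT θ d)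
  have hηD : IsCharacter DD ηD := H12.IsCharacter.comp hηc (toT θ)
  let eQD : QD (Q := Q) (C := C) θ ≃* Q :=
    (Subgroup.subgroupOfEquivOfLe (QC_le_D θ)).trans (Subgroup.subgroupOfEquivOfLe hD.le_C)
  have hresD : IsIrrCharacter (QD (Q := Q) (C := C) θ)
      (fun n : QD (Q := Q) (C := C) θ => ηD n) := by
    have e : (fun n : QD (Q := Q) (C := C) θ => ηD n) = (θ : Q → ℂ) ∘ eQD :=
      funext fun n => hηq (eQD n)
    rw [e]; exact H13.isIrrCharacter_comp_equiv eQD hθQ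
  let cD : IrrCharacter (fixQ (C := C) θ) → IrrCharacter DD := fun γ =>
    H13.inflateIrr (QD θ) (H12.irrCongr (eFix θ) γ)
  have hcD : ∀ γ d, (cD γ : DD → ℂ) d = (γ : fixQ (C := C) θ → ℂ) (toFix θ d) := fun γ d => rfl
  let ψT : IrrCharacter (TT ⧸ Q.subgroupOf TT) → IrrCharacter TT := fun α =>
    ⟨_, H13.gallagher_isIrr (Q.subgroupOf TT) hηc hresT α⟩
  let ψD : IrrCharacter (fixQ (C := C) θ) → IrrCharacter DD := fun β =>
    ⟨_, H13.gallagher_isIrr (QD θ) hηD hresD (H12.irrCongr (eFix θ) β)⟩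
  have hψTv : ∀ α t, (ψT α : TT → ℂ) t
      = (α : TT ⧸ Q.subgroupOf TT → ℂ) (t : TT ⧸ Q.subgroupOf TT) * η t := fun α t => rfl
  have hψDv : ∀ β d, (ψD β : DD → ℂ) d
      = (β : fixQ (C := C) θ → ℂ) (toFix θ d) * η (toT θ d) := fun β d => rfl
  -- all lie over `θ`
  have hovT : ∀ α, classInner (fun n : Q => (ψT α : TT → ℂ) ⟨n, le_T θ n.2⟩) (θ : Q → ℂ) ≠ 0 := by
    intro α
    have e : (fun n : Q => (ψT α : TT → ℂ) ⟨n, le_T θ n.2⟩)
        = (α : TT ⧸ Q.subgroupOf TT → ℂ) 1 • (θ : Q → ℂ) := by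
      funext n
      rw [hψTv, hηq, Pi.smul_apply, smul_eq_mul]
      rw [show ((⟨n, le_T θ n.2⟩ : TT) : TT ⧸ Q.subgroupOf TT) = 1 from
        (QuotientGroup.eq_one_iff _).2 n.2]
    rw [e, H12.classInner_smul_left, H12.classInner_irr_self, mul_one]
    exact H12.irr_apply_one_ne_zero α
  have hovD : ∀ β, ov (jD θ hD) (ψD β : DD → ℂ) θ ≠ 0 := by
    intro β
    have e : (fun n : Q => (ψD β : DD → ℂ) (jD θ hD n))
        = (β : fixQ (C := C) θ → ℂ) 1 • (θ : Q → ℂ) := by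
      funext n
      rw [hψDv, Pi.smul_apply, smul_eq_mul, show η (toT θ (jD θ hD n)) = (θ : Q → ℂ) n from hηq n]
      rw [show toFix θ (jD θ hD n) = 1 from Subtype.ext
        (show ((toT θ (jD θ hD n) : TT) : TT ⧸ Q.subgroupOf TT) = 1 from
          (QuotientGroup.eq_one_iff _).2 n.2)]
    rw [ov, e, H12.classInner_smul_left, H12.classInner_irr_self, mul_one]
    exact H12.irr_apply_one_ne_zero β
  have hyT : ∀ α, classInner (indFun (Q.subgroupOf TT) (H12.onSubgroupOf (T := TT) (θ : Q → ℂ)))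
      (ψT α) ≠ 0 := fun α => hyp_of_ne_zero Q TT (le_T θ) _ _ (hovT α)
  have hyD : ∀ β, classInner (indFun ((Q.subgroupOf C).subgroupOf DD)
      (H12.onSubgroupOf (T := DD) (H12.onSubgroupOf (T := C) (θ : Q → ℂ)))) (ψD β) ≠ 0 :=
    fun β => hyp_of_ne_zero (Q.subgroupOf C) DD (QC_le_D θ) _ _ (by rw [ov_D_eq θ hD]; exact hovD β)
  have hθC := H12.isIrrCharacter_onSubgroupOf (T := C) hD.le_C θ.2
  haveI : (Q.subgroupOf C).Normal := Subgroup.normal_subgroupOf
  let a : {α : IrrCharacter (TT ⧸ Q.subgroupOf TT) //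
      H12.Glauberman.Inv (actQ θ hD hθ) (α : TT ⧸ Q.subgroupOf TT → ℂ)} → IrrCharacter K :=
    fun α => ⟨_, (H12.clifford_corr Q TT (le_T θ) hθQ (inertia_K θ) (ψT α.1) (hyT α.1)).1⟩
  let b : IrrCharacter (fixQ (C := C) θ) → IrrCharacter C := fun β =>
    ⟨_, (H12.clifford_corr (Q.subgroupOf C) DD (QC_le_D θ) hθC (inertia_C θ hD) (ψD β)
      (hyD β)).1⟩
  have hav : ∀ α, (a α : K → ℂ) = indFun TT (ψT α.1 : TT → ℂ) := fun α => rfl
  have hbv : ∀ β, (b β : C → ℂ) = indFun DD (ψD β : DD → ℂ) := fun β => rfl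
  have hovK : ∀ α, ov Q.subtype (a α : K → ℂ) θ ≠ 0 := by
    intro α
    obtain ⟨ψ, hψ, hψov⟩ := H12.exists_clifford_corr Q TT (le_T θ) hθQ (inertia_K θ) (a α).2 (by
      intro h0
      have h1 : classInner (fun t : TT => (a α : K → ℂ) t) (ψT α.1) ≠ 0 := by
        rw [← H12.classInner_indFun_right TT _ (H12.irr_isClassFunction (a α)), ← hav,
          H12.classInner_irr_self]
        exact one_ne_zero
      exact ov_ne_zero_of_constituent (Subgroup.inclusion (le_T θ))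
        (H12.IsCharacter.res (H12.isCharacter_irr (a α)) TT) (ψT α.1) θ h1 (hovT α.1) h0)
    show classInner (fun n : Q => (a α : K → ℂ) n) θ ≠ 0
    rw [← hψov]
    intro h0
    have h1 : classInner (fun t : TT => (a α : K → ℂ) t) (ψT α.1) ≠ 0 := by
      rw [← H12.classInner_indFun_right TT _ (H12.irr_isClassFunction (a α)), ← hav,
        H12.classInner_irr_self]
      exact one_ne_zero
    rw [hψov] at h0
    exact ov_ne_zero_of_constituent (Subgroup.inclusion (le_T θ))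
      (H12.IsCharacter.res (H12.isCharacter_irr (a α)) TT) (ψT α.1) θ h1 (hovT α.1) h0
  refine ⟨a, b, fun α s x => ?_, ?_, fun β s c c' hc => ?_, ?_, hovK, ?_, ?_⟩
  · rw [hav, indFun_comp_aut TT _ (φ s) (actT θ hD hθ s) (fun t => rfl)]
    congr 1
    funext t
    rw [hψTv, hψTv, hηinv, ← actQ_mk θ hD hθ, α.2]
  · intro χ hχ hov
    obtain ⟨ψ, hψind, hψov⟩ := H12.exists_clifford_corr Q TT (le_T θ) hθQ (inertia_K θ) χ.2 hov
    have hψne : classInner (fun n : Q => (ψ : TT → ℂ) ⟨n, le_T θ n.2⟩) (θ : Q → ℂ) ≠ 0 := by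
      rw [hψov]; exact hov
    obtain ⟨α, hα⟩ := H13.gallagher_exists (Q.subgroupOf TT) hηc hresT ψ.2 (by
      rw [← H12.classInner_comp_equiv (Subgroup.subgroupOfEquivOfLe (le_T θ)).symm]
      show classInner (fun n : Q => (ψ : TT → ℂ) ⟨n, le_T θ n.2⟩)
        (fun n : Q => η ⟨n, le_T θ n.2⟩) ≠ 0
      rw [show (fun n : Q => η ⟨n, le_T θ n.2⟩) = (θ : Q → ℂ) from funext hηq]
      exact hψne)
    have hψα : ψ = ψT α := Subtype.ext hα
    have hinv : H12.Glauberman.Inv (actQ θ hD hθ) (α : TT ⧸ Q.subgroupOf TT → ℂ) := by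
      intro s x
      let α' := H12.irrCongr (actQ θ hD hθ s) α
      have hcomp : (ψT α' : TT → ℂ) = fun t => (ψT α : TT → ℂ) (actT θ hD hθ s t) := by
        funext t
        rw [hψTv, hψTv, hηinv]
        rfl
      have heq : indFun TT (ψT α' : TT → ℂ) = indFun TT (ψT α : TT → ℂ) := by
        funext y
        rw [hcomp, ← indFun_comp_aut TT _ (φ s) (actT θ hD hθ s) (fun t => rfl) y, ← hψα, hψind]
        exact hχ s y
      have h1 := (H12.clifford_corr Q TT (le_T θ) hθQ (inertia_K θ) (ψT α') (hyT α')).2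
        (ψT α) (hyT α) heq
      have h2 := H13.gallagher_injective (Q.subgroupOf TT) hηc hresT (congrArg Subtype.val h1)
      exact congrArg (fun z : IrrCharacter _ => (z : TT ⧸ Q.subgroupOf TT → ℂ) x) h2
    exact ⟨⟨α, hinv⟩, Subtype.ext (by rw [hav]; simp only; rw [← hψα, hψind])⟩
  · -- invariance over `θ`
    rw [hbv]
    have hst : ∀ x : C, φ s (x : K) ∈ C := fun x => (hD.mem_C _).2 fun t => by
      have h1 := (hD.mem_C (x : K)).1 x.2 (t * s)
      have h2 := (hD.mem_C (x : K)).1 x.2 s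
      have e : φ t (φ s (x : K)) * (φ s (x : K))⁻¹
          = (φ (t * s) (x : K) * (x : K)⁻¹) * (φ s (x : K) * (x : K)⁻¹)⁻¹ := by
        rw [map_mul, MulAut.mul_apply]; group
      rw [e]
      exact mul_mem h1 (inv_mem h2)
    let eC : C ≃* C := H12.InvConst.resHom φ C (fun s' k hk => by
      exact (hD.mem_C _).2 fun t => by
        have h1 := (hD.mem_C k).1 hk (t * s')
        have h2 := (hD.mem_C k).1 hk s'
        have e : φ t (φ s' k) * (φ s' k)⁻¹ = (φ (t * s') k * k⁻¹) * (φ s' k * k⁻¹)⁻¹ := by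
          rw [map_mul, MulAut.mul_apply]; group
        rw [e]
        exact mul_mem h1 (inv_mem h2)) s
    have hDst : ∀ d : DD, eC (d : C) ∈ DD := fun d => T_stable θ hD hθ s _ d.2
    let eD : DD ≃* DD := MulEquiv.ofBijective
      ((eC.toMonoidHom.comp (Subgroup.subtype DD)).codRestrict DD hDst)
      (Finite.injective_iff_bijective.1 fun x y h => Subtype.ext (eC.injective (congrArg Subtype.val h)))
    rw [show c' = eC c from Subtype.ext hc, indFun_comp_aut DD _ eC eD (fun d => rfl)]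
    congr 1
    funext d
    rw [hψDv, hψDv]
    congr 1
    · refine congrArg _ (Subtype.ext ?_)
      show ((toT θ (eD d) : TT) : TT ⧸ Q.subgroupOf TT) = (toT θ d : TT ⧸ Q.subgroupOf TT)
      rw [QuotientGroup.eq_iff_div_mem, div_eq_mul_inv]
      exact (hD.mem_C ((d : C) : K)).1 (d : C).2 s
    · rw [show toT θ (eD d) = actT θ hD hθ s (toT θ d) from rfl, hηinv]
  · intro ξ hov
    obtain ⟨ψ, hψind, hψov⟩ := H12.exists_clifford_corr (Q.subgroupOf C) DD (QC_le_D θ) hθC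
      (inertia_C θ hD) ξ.2 (by rw [ov_C_eq θ hD]; exact hov)
    have hψne : ov (jD θ hD) (ψ : DD → ℂ) θ ≠ 0 := by
      rw [← ov_D_eq θ hD, hψov, ov_C_eq θ hD]; exact hov
    obtain ⟨β, hβ⟩ := H13.gallagher_exists (QD θ) hηD hresD ψ.2 (by
      rw [← H12.classInner_comp_equiv eQD.symm]
      show classInner (fun n : Q => (ψ : DD → ℂ) (jD θ hD n))
        (fun n : Q => η ⟨n, le_T θ n.2⟩) ≠ 0
      rw [show (fun n : Q => η ⟨n, le_T θ n.2⟩) = (θ : Q → ℂ) from funext hηq]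
      exact hψne)
    refine ⟨(H12.irrCongr (eFix θ)).symm β, Subtype.ext ?_⟩
    rw [hbv, ← hψind]
    congr 1
    show (H13.inflateIrr (QD θ) (H12.irrCongr (eFix θ) ((H12.irrCongr (eFix θ)).symm β)) : DD → ℂ) * ηD
      = (ψ : DD → ℂ)
    rw [Equiv.apply_symm_apply]
    exact hβ.symm
  · -- multiplicities
    intro α β
    refine H12.Glauberman.mult_eq_of_classInner C ?_
    rw [hbv, H12.classInner_indFun_right DD _
      (H12.isClassFunction_res (H12.irr_isClassFunction (a α)) C)]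
    set fT : TT → ℂ := fun t => (a α : K → ℂ) t with hfT
    have hfTc : IsCharacter TT fT := H12.IsCharacter.res (H12.isCharacter_irr (a α)) TT
    have h1 : classInner fT (ψT α.1) = 1 := by
      rw [hfT, ← H12.classInner_indFun_right TT _ (H12.irr_isClassFunction (a α)), ← hav,
        H12.classInner_irr_self]
    set R : TT → ℂ := fT - (ψT α.1 : TT → ℂ) with hR
    have hRc : IsCharacter TT R :=
      H13.isCharacter_sub_irr hfTc (ψT α.1).2 (by rw [h1]; exact one_ne_zero)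
    have hRov : ov (Subgroup.inclusion (le_T θ)) R θ = 0 := by
      obtain ⟨ψ, hψind, hψov⟩ :=
        H12.exists_clifford_corr Q TT (le_T θ) hθQ (inertia_K θ) (a α).2 (hovK α)
      have hne : classInner (fun n : Q => (ψ : TT → ℂ) ⟨n, le_T θ n.2⟩) (θ : Q → ℂ) ≠ 0 := by
        rw [hψov]; exact hovK α
      have := (H12.clifford_corr Q TT (le_T θ) hθQ (inertia_K θ) (ψT α.1) (hyT α.1)).2 ψ
        (hyp_of_ne_zero Q TT (le_T θ) _ _ hne) (by rw [hψind, hav])
      subst this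
      rw [ov, show (fun n : Q => R (Subgroup.inclusion (le_T θ) n))
        = (fun n : Q => (a α : K → ℂ) n) - fun n : Q => (ψT α.1 : TT → ℂ) ⟨n, le_T θ n.2⟩ from rfl,
        H12.classInner_sub_left, ← hψov, sub_self]
    have hRD : classInner (R ∘ toT (C := C) θ) (ψD β : DD → ℂ) = 0 := by
      by_contra h0
      exact ov_ne_zero_of_constituent (jD θ hD) (H12.IsCharacter.comp hRc (toT θ)) (ψD β) θ h0
        (hovD β) hRov
    have hsplit : (fun d : DD => (fun c : C => (a α : K → ℂ) c) (d : C))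
        = (fun d : DD => (ψT α.1 : TT → ℂ) (toT θ d)) + R ∘ toT (C := C) θ := by
      funext d
      simp [hR, hfT, toT]
    rw [hsplit, H12.classInner_add_left, hRD, add_zero]
    have hexp : (fun d : DD => (ψT α.1 : TT → ℂ) (toT θ d))
        = ∑ γ, (H12.Glauberman.mult (fixQ (C := C) θ) α.1 γ : ℂ) • (ψD γ : DD → ℂ) := by
      funext d
      rw [hψTv, Finset.sum_apply,
        show ((toT θ d : TT) : TT ⧸ Q.subgroupOf TT) = ((toFix θ d : fixQ (C := C) θ) : TT ⧸ Q.subgroupOf TT) from rfl,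
        H12.Glauberman.res_apply_eq_sum (fixQ (C := C) θ) α.1, Finset.sum_mul]
      exact Finset.sum_congr rfl fun γ _ => by
        rw [Pi.smul_apply, hψDv, smul_eq_mul, mul_assoc]
    rw [hexp, H12.classInner_sum_left, Finset.sum_eq_single β]
    · rw [H12.classInner_smul_left, H12.classInner_irr_self, mul_one]
    · intro γ _ hne
      rw [H12.classInner_smul_left, H12.classInner_irr_ne, mul_zero]
      intro heq
      have h := H13.gallagher_injective (QD θ) hηD hresD (congrArg Subtype.val heq)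
      exact hne ((H12.irrCongr (eFix θ)).injective h)
    · simp
  · -- degrees
    intro α β
    have d1 : ((H12.degree (a α : K → ℂ) : ℕ) : ℂ)
        = ((TT).index * (H12.degree (α.1 : TT ⧸ Q.subgroupOf TT → ℂ) * H12.degree η) : ℕ) := by
      rw [← H12.irr_apply_one, hav, H12.indFun_one, hψTv, QuotientGroup.mk_one, H12.irr_apply_one,
        H12.IsCharacter.apply_one_eq_degree hηc]
      push_cast; rfl
    have d2 : ((H12.degree (b β : C → ℂ) : ℕ) : ℂ)
        = ((DD).index * (H12.degree (β : fixQ (C := C) θ → ℂ) * H12.degree η) : ℕ) := by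
      rw [← H12.irr_apply_one, hbv, H12.indFun_one, hψDv, map_one, map_one, H12.irr_apply_one,
        H12.IsCharacter.apply_one_eq_degree hηc]
      push_cast; rfl
    rw [Nat.cast_injective d1, Nat.cast_injective d2]
    have hidx : ((TT).index : ZMod p) = ((DD).index : ZMod p) := by
      have h1 := relIndex_congr hD ⊤ le_top (fun _ _ _ => Subgroup.mem_top _)
      rw [top_inf_eq, Subgroup.relIndex_top_right] at h1
      have h2 := relIndex_congr hD TT (le_T θ) (T_stable θ hD hθ)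
      have h3 := Subgroup.relIndex_mul_index (le_T (Q := Q) θ)
      have h4 := Subgroup.relIndex_mul_relIndex Q (TT ⊓ C) C (le_inf (le_T θ) hD.le_C) inf_le_right
      rw [Subgroup.inf_relIndex_right] at h4
      rw [← h3, ← h4, Nat.cast_mul, Nat.cast_mul, ← h2] at h1
      refine mul_left_cancel₀ ?_ h1
      rw [Ne, ZMod.natCast_eq_zero_iff]
      exact not_dvd_relIndex hD _ (le_T θ)
    push_cast
    rw [hidx]
    ring

end Local

/-! ### Gluing -/

/-- Every invariant character of a subgroup above `Q` has an invariant constituent on `Q`. -/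
theorem exists_fixed_under {X : Subgroup K} [Q.Normal] (hD : Data φ p Q C) (hQX : Q ≤ X)
    (hXst : ∀ s, ∀ x ∈ X, φ s x ∈ X) (ξ : IrrCharacter X)
    (hinv : ∀ (s : S) (x x' : X), (x' : K) = φ s x → (ξ : X → ℂ) x' = (ξ : X → ℂ) x) :
    ∃ θ : IrrCharacter Q, Fixed θ φ ∧ ov (Subgroup.inclusion hQX) (ξ : X → ℂ) θ ≠ 0 := by
  let Ω := {θ : IrrCharacter Q // ov (Subgroup.inclusion hQX) (ξ : X → ℂ) θ ≠ 0}
  let φQ := H12.InvConst.resHom φ Q hD.stab
  have hst : ∀ (s : S) (θ : IrrCharacter Q), ov (Subgroup.inclusion hQX) (ξ : X → ℂ) θ ≠ 0 →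
      ov (Subgroup.inclusion hQX) (ξ : X → ℂ) (H12.irrCongr (φQ s) θ) ≠ 0 := by
    intro s θ h
    have e : (fun n : Q => (ξ : X → ℂ) (Subgroup.inclusion hQX n))
        = (fun n : Q => (ξ : X → ℂ) (Subgroup.inclusion hQX n)) ∘ (φQ s) := by
      funext n
      exact (hinv s (Subgroup.inclusion hQX n) (Subgroup.inclusion hQX (φQ s n)) rfl).symm
    rw [ov, e, show ((H12.irrCongr (φQ s) θ : IrrCharacter Q) : Q → ℂ)
      = (θ : Q → ℂ) ∘ (φQ s) from rfl, H12.classInner_comp_equiv]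
    exact h
  letI : MulAction S Ω :=
    { smul := fun s θ => ⟨H12.irrCongr (φQ s⁻¹) θ.1, hst s⁻¹ θ.1 θ.2⟩
      one_smul := fun θ => Subtype.ext (Subtype.ext (funext fun n => by
        show (θ.1 : Q → ℂ) (φQ 1⁻¹ n) = _
        rw [inv_one, map_one, MulAut.one_apply]))
      mul_smul := fun s t θ => Subtype.ext (Subtype.ext (funext fun n => by
        show (θ.1 : Q → ℂ) (φQ (s * t)⁻¹ n) = (θ.1 : Q → ℂ) (φQ t⁻¹ (φQ s⁻¹ n))
        rw [mul_inv_rev, map_mul, MulAut.mul_apply])) }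
  -- `X` is transitive on the constituents
  haveI : (Q.subgroupOf X).Normal := Subgroup.normal_subgroupOf
  obtain ⟨θ0, hθ0⟩ := H13.exists_constituent (Q.subgroupOf X) (H12.isCharacter_irr ξ)
    (H12.irr_ne_zero ξ)
  let e : Q ≃* Q.subgroupOf X := (Subgroup.subgroupOfEquivOfLe hQX).symm
  let θ1 : IrrCharacter Q := H12.irrCongr e θ0
  let tw : X → IrrCharacter Q := fun x => ⟨H13.twist Q (x : K) (θ1 : Q → ℂ),
    H13.isIrrCharacter_twist Q (x : K) θ1.2⟩
  have hov : ∀ x, ov (Subgroup.inclusion hQX) (ξ : X → ℂ) (tw x) ≠ 0 := by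
    intro x
    have h := H13.classInner_res_twist (Q.subgroupOf X) (H12.irr_isClassFunction ξ) θ0 x
    rw [← H12.classInner_comp_equiv e, ← H12.classInner_comp_equiv e] at h
    show classInner _ _ ≠ 0
    refine ne_of_eq_of_ne (?_ : _ = _) (?_ : classInner ((fun n : Q.subgroupOf X => (ξ : X → ℂ) n) ∘ e) ((θ0 : Q.subgroupOf X → ℂ) ∘ e) ≠ 0)
    · rw [← h]; rfl
    · rw [H12.classInner_comp_equiv]; exact hθ0
  have hsurj : ∀ θ : Ω, ∃ x, tw x = θ.1 := by
    intro θ
    by_contra hno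
    apply θ.2
    have h := H13.classInner_res_eq_zero_of_not_conj (Q.subgroupOf X) ξ.2 θ0.2
      (H12.irrCongr e.symm θ.1).2 hθ0 (fun x hx => hno ⟨x, Subtype.ext (funext fun n => by
        have h1 := congrFun hx (e n)
        rw [H12.irrCongr_apply, MulEquiv.symm_apply_apply] at h1
        exact h1)⟩)
    rw [← H12.classInner_comp_equiv e] at h
    refine Eq.trans ?_ h
    rw [ov]
    congr 1
    first
      | done
      | (funext n; exact (congrArg (θ.1 : Q → ℂ) (e.symm_apply_apply n)).symm)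
  letI : MulAction X Ω :=
    { smul := fun x θ => ⟨⟨H13.twist Q ((x⁻¹ : X) : K) (θ.1 : Q → ℂ),
          H13.isIrrCharacter_twist Q _ θ.1.2⟩, by
        obtain ⟨y, hy⟩ := hsurj θ
        have hh := hov (y * x⁻¹)
        rw [← hy]
        show ov _ _ (H13.twist Q ((x⁻¹ : X) : K) (H13.twist Q (y : K) (θ1 : Q → ℂ))) ≠ 0
        rw [H13.twist_twist]
        exact hh⟩
      one_smul := fun θ => Subtype.ext (Subtype.ext (by
        show H13.twist Q ((1⁻¹ : X) : K) (θ.1 : Q → ℂ) = _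
        rw [inv_one]; exact H13.twist_one Q _))
      mul_smul := fun a b θ => Subtype.ext (Subtype.ext (by
        show H13.twist Q (((a * b)⁻¹ : X) : K) (θ.1 : Q → ℂ)
          = H13.twist Q ((a⁻¹ : X) : K) (H13.twist Q ((b⁻¹ : X) : K) (θ.1 : Q → ℂ))
        rw [H13.twist_twist, mul_inv_rev]; rfl)) }
  let ω : Ω := ⟨tw 1, hov 1⟩
  have htr : ∀ θ : Ω, ∃ x : X, x • ω = θ := by
    intro θ
    obtain ⟨x, hx⟩ := hsurj θ
    refine ⟨x⁻¹, Subtype.ext (Subtype.ext ?_)⟩
    show H13.twist Q ((x⁻¹⁻¹ : X) : K) (H13.twist Q ((1 : X) : K) (θ1 : Q → ℂ)) = _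
    rw [inv_inv, show ((1 : X) : K) = 1 from rfl, H13.twist_one, ← hx]
  have hdvd : Nat.card Ω ∣ (Q.subgroupOf X).index := by
    have horb : MulAction.orbit X ω = Set.univ := Set.eq_univ_of_forall fun θ => htr θ
    have h1 : (MulAction.stabilizer X ω).index = Nat.card Ω := by
      rw [MulAction.index_stabilizer, horb, Set.ncard_univ]
    rw [← h1]
    refine Subgroup.index_dvd_of_le fun q hq => ?_
    rw [MulAction.mem_stabilizer_iff]
    exact Subtype.ext (Subtype.ext (show H13.twist Q ((q⁻¹ : X) : K) (tw 1 : Q → ℂ) = tw 1 from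
      H13.le_inertia Q (H12.irr_isClassFunction (tw 1))
        (show ((q⁻¹ : X) : K) ∈ Q from inv_mem hq)))
  obtain ⟨θ, hθ⟩ := exists_fixed_of_not_dvd hD.pS (X := Ω) fun h =>
    not_dvd_relIndex hD X hQX (h.trans hdvd)
  refine ⟨θ.1, fun s q q' hq => ?_, θ.2⟩
  have h := congrFun (congrArg Subtype.val (congrArg Subtype.val (hθ s⁻¹))) q
  show (θ.1 : Q → ℂ) q' = (θ.1 : Q → ℂ) q
  rw [← h]
  show _ = (θ.1 : Q → ℂ) (φQ s⁻¹⁻¹ q)
  rw [inv_inv]
  exact congrArg _ (Subtype.ext hq)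

theorem stable_C (hD : Data φ p Q C) : ∀ s, ∀ x ∈ C, φ s x ∈ C := fun s x hx =>
  (hD.mem_C _).2 fun t => by
    have h1 := (hD.mem_C x).1 hx (t * s)
    have h2 := (hD.mem_C x).1 hx s
    have e : φ t (φ s x) * (φ s x)⁻¹ = (φ (t * s) x * x⁻¹) * (φ s x * x⁻¹)⁻¹ := by
      rw [map_mul, MulAut.mul_apply]; group
    rw [e]
    exact mul_mem h1 (inv_mem h2)

/-- If an invariant character of `C` is a constituent of an invariant character of `K` lying
over the fixed character `θ`, then it lies over `θ`. -/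
theorem over_of_mult (hD : Data φ p Q C) (θ : IrrCharacter Q) (hθ : Fixed θ φ)
    (χ : IrrCharacter K) (hχθ : ov Q.subtype (χ : K → ℂ) θ ≠ 0)
    (ξ : IrrCharacter C) (hξ : InvC φ (ξ : C → ℂ)) (hm : H12.Glauberman.mult C χ ξ ≠ 0) :
    ov (Subgroup.inclusion hD.le_C) (ξ : C → ℂ) θ ≠ 0 := by
  obtain ⟨θ', hθ', hov'⟩ := exists_fixed_under hD hD.le_C (stable_C hD) ξ hξ
  have hne : classInner (fun c : C => (χ : K → ℂ) c) (ξ : C → ℂ) ≠ 0 := by
    rw [H12.Glauberman.classInner_eq_mult]; exact Nat.cast_ne_zero.2 hm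
  have hχ' : ov Q.subtype (χ : K → ℂ) θ' ≠ 0 :=
    ov_ne_zero_of_constituent (Subgroup.inclusion hD.le_C)
      (H12.IsCharacter.res (H12.isCharacter_irr χ) C) ξ θ' hne hov'
  obtain ⟨k, hk⟩ : ∃ k : K, H13.twist Q k (θ : Q → ℂ) = θ' := by
    by_contra hno
    exact hχ' (H13.classInner_res_eq_zero_of_not_conj Q χ.2 θ.2 θ'.2 hχθ
      (fun x hx => hno ⟨x, hx⟩))
  have hkT : ∀ s, φ s k * k⁻¹ ∈ H13.inertia Q (θ : Q → ℂ) := by
    intro s
    show H13.twist Q (φ s k * k⁻¹) (θ : Q → ℂ) = θ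
    have h2 : H13.twist Q (φ s k) (θ : Q → ℂ) = θ' := by
      funext q
      set q0 : Q := ⟨φ s⁻¹ q, hD.stab s⁻¹ q q.2⟩ with hq0
      have hq : (q : K) = φ s (q0 : K) := by
        show (q : K) = φ s (φ s⁻¹ q)
        rw [← MulAut.mul_apply, ← map_mul, mul_inv_cancel, map_one, MulAut.one_apply]
      rw [hθ' s q0 q hq, ← hk, H13.twist_apply, H13.twist_apply]
      exact hθ s _ _ (by
        show φ s k * (q : K) * (φ s k)⁻¹ = φ s (k * (q0 : K) * k⁻¹)
        rw [hq, map_mul, map_mul, map_inv])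
    rw [← H13.twist_twist, h2, ← hk, H13.twist_twist, mul_inv_cancel, H13.twist_one]
  obtain ⟨l, hl, hlk⟩ := exists_mem_C hD _ (le_T θ) (T_stable θ hD hθ) k hkT
  set c : C := ⟨l * k, hlk⟩ with hc
  have hck : H13.twist Q (c : K) (θ : Q → ℂ) = θ' := by
    show H13.twist Q (l * k) (θ : Q → ℂ) = θ'
    rw [← H13.twist_twist, show H13.twist Q l (θ : Q → ℂ) = θ from hl, hk]
  haveI : (Q.subgroupOf C).Normal := Subgroup.normal_subgroupOf
  have h := H13.classInner_res_twist (Q.subgroupOf C) (H12.irr_isClassFunction ξ)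
    (H12.onSubgroupOf (T := C) (θ : Q → ℂ)) c
  rw [show H13.twist (Q.subgroupOf C) c (H12.onSubgroupOf (T := C) (θ : Q → ℂ))
      = H12.onSubgroupOf (T := C) (θ' : Q → ℂ) from funext fun n => by
        rw [← hck]; rfl, ov_C_eq θ hD, ov_C_eq θ' hD] at h
  rw [← h]; exact hov'

/-- Existence and uniqueness of the correspondent. -/
theorem exists_correspondent (hD : Data φ p Q C) (χ : IrrCharacter K)
    (hχ : H12.Glauberman.Inv φ (χ : K → ℂ)) :
    ∃ ξ : IrrCharacter C, InvC φ (ξ : C → ℂ) ∧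
      ((H12.Glauberman.mult C χ ξ : ZMod p) = 1 ∨ (H12.Glauberman.mult C χ ξ : ZMod p) = -1) ∧
      (∀ ξ' : IrrCharacter C, InvC φ (ξ' : C → ℂ) → ξ' ≠ ξ → p ∣ H12.Glauberman.mult C χ ξ') ∧
      ((H12.degree (ξ : C → ℂ) : ZMod p) = H12.degree (χ : K → ℂ) ∨
        (H12.degree (ξ : C → ℂ) : ZMod p) = -(H12.degree (χ : K → ℂ) : ZMod p)) := by
  obtain ⟨θ, hθ, hov⟩ := exists_fixed_under hD (X := ⊤) le_top (fun _ _ _ => Subgroup.mem_top _)
    (H12.irrCongr Subgroup.topEquiv χ) (fun s x x' hx => by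
      rw [H12.irrCongr_apply, H12.irrCongr_apply]
      show (χ : K → ℂ) (x' : K) = (χ : K → ℂ) (x : K)
      rw [hx, hχ])
  have hov' : ov Q.subtype (χ : K → ℂ) θ ≠ 0 := hov
  obtain ⟨a, b, -, ha, hbinv, hb, -, hmult, hdeg⟩ := local_param θ hD hθ
  obtain ⟨α, rfl⟩ := ha χ hχ hov'
  have hG := not_dvd_quot θ hD
  obtain ⟨β, hβ, -⟩ := H12.Glauberman.existsUnique_mult hD.pS hG (mem_fixQ θ hD hθ) α.2
  have h1 := H12.Glauberman.mult_eq_one_or_neg_one hD.pS hG (mem_fixQ θ hD hθ) α.2 hβ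
  refine ⟨b β, hbinv β, by rw [hmult]; exact h1, ?_, ?_⟩
  · intro ξ' hξ' hne
    by_contra hnd
    obtain ⟨β', rfl⟩ := hb ξ' (over_of_mult hD θ hθ _ hov' ξ' hξ' (fun h0 => hnd (h0 ▸ dvd_zero p)))
    rw [hmult] at hnd
    exact hne (congrArg b ((H12.Glauberman.existsUnique_mult hD.pS hG (mem_fixQ θ hD hθ) α.2).unique
      hnd hβ))
  · have hres : (H12.degree (α.1 : _ ⧸ Q.subgroupOf (H13.inertia Q (θ : Q → ℂ)) → ℂ) : ZMod p)
        = (H12.Glauberman.mult (fixQ θ) α.1 β : ZMod p)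
          * (H12.degree (β : fixQ (C := C) θ → ℂ) : ZMod p) := by
      have h2 := H12.Glauberman.res_apply_eq_sum (fixQ (C := C) θ) α.1 1
      simp only [OneMemClass.coe_one, H12.irr_apply_one] at h2
      have h3 : H12.degree (α.1 : _ ⧸ Q.subgroupOf (H13.inertia Q (θ : Q → ℂ)) → ℂ)
          = ∑ γ, H12.Glauberman.mult (fixQ (C := C) θ) α.1 γ
            * H12.degree (γ : fixQ (C := C) θ → ℂ) := by exact_mod_cast h2
      rw [h3]
      push_cast
      exact H12.Glauberman.sum_mult_eq_single hD.pS hG (mem_fixQ θ hD hθ) α.2 hβ _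
    have hβ0 : (H12.degree (β : fixQ (C := C) θ → ℂ) : ZMod p) ≠ 0 :=
      H12.Glauberman.degree_ne_zero (fun h => hG (h.trans (Subgroup.card_subgroup_dvd_card _))) β
    have h4 := hdeg α β
    rw [hres, ← mul_assoc] at h4
    have h5 := mul_right_cancel₀ hβ0 h4
    rcases h1 with h | h
    · left; rwa [h, mul_one] at h5
    · right; rw [h, mul_neg_one] at h5; rw [← h5, neg_neg]

theorem correspondent_surjective (hD : Data φ p Q C) (ξ : IrrCharacter C)
    (hξ : InvC φ (ξ : C → ℂ)) :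
    ∃ χ : IrrCharacter K, H12.Glauberman.Inv φ (χ : K → ℂ) ∧
      ¬ p ∣ H12.Glauberman.mult C χ ξ := by
  obtain ⟨θ, hθ, hov⟩ := exists_fixed_under hD hD.le_C (stable_C hD) ξ hξ
  obtain ⟨a, b, hainv, -, -, hb, -, hmult, -⟩ := local_param θ hD hθ
  obtain ⟨β, rfl⟩ := hb ξ hov
  obtain ⟨α, hα, hnd⟩ := H12.Glauberman.mult_surjective hD.pS (not_dvd_quot θ hD)
    (mem_fixQ θ hD hθ) β
  exact ⟨a ⟨α, hα⟩, hainv _, by rw [hmult]; exact hnd⟩

theorem correspondent_injective (hD : Data φ p Q C) (χ χ' : IrrCharacter K)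
    (hχ : H12.Glauberman.Inv φ (χ : K → ℂ)) (hχ' : H12.Glauberman.Inv φ (χ' : K → ℂ))
    (ξ : IrrCharacter C) (hξ : InvC φ (ξ : C → ℂ))
    (h : ¬ p ∣ H12.Glauberman.mult C χ ξ) (h' : ¬ p ∣ H12.Glauberman.mult C χ' ξ) : χ = χ' := by
  obtain ⟨θ, hθ, hov⟩ := exists_fixed_under hD hD.le_C (stable_C hD) ξ hξ
  obtain ⟨a, b, -, ha, -, hb, -, hmult, -⟩ := local_param θ hD hθ
  have hover : ∀ η : IrrCharacter K, ¬ p ∣ H12.Glauberman.mult C η ξ →
      ov Q.subtype (η : K → ℂ) θ ≠ 0 := fun η hη =>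
    ov_ne_zero_of_constituent (Subgroup.inclusion hD.le_C)
      (H12.IsCharacter.res (H12.isCharacter_irr η) C) ξ θ (by
        rw [H12.Glauberman.classInner_eq_mult]
        exact Nat.cast_ne_zero.2 fun h0 => hη (h0 ▸ dvd_zero p)) hov
  obtain ⟨α, rfl⟩ := ha χ hχ (hover χ h)
  obtain ⟨α', rfl⟩ := ha χ' hχ' (hover _ h')
  obtain ⟨β, rfl⟩ := hb ξ hov
  rw [hmult] at h h'
  exact congrArg a (Subtype.ext (H12.Glauberman.mult_injective hD.pS (not_dvd_quot θ hD)
    (mem_fixQ θ hD hθ) α.2 α'.2 h h'))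

end H13.RelGl
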