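import Mathlib
import Cfsg.Agent.H22.SC.Split
import Cfsg.Agent.H36.M11Three

/-!
A (2, 4, 4) system with `r = 3`, `|A₁| = 5` and a centraliser of order 36 of the element of order
three: the differences of the columns at `x` and `x t`, divided by four, are integral, and this
leaves no room for the characters.
-/

set_option autoImplicit false
set_option linter.unusedSectionVars false
set_option linter.style.haveILetI false

open Cfsg
open scoped ComplexConjugate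

namespace H13

universe u

section Values

variable {G : Type u} [Group G] [Fintype G]

/-- A real character value at an element of exponent six is an integer. -/
theorem sc_value_six (χ : IrrCharacter G) {g : G} (hg : g ^ 6 = 1) (hc : IsConj g g⁻¹) :
    ∃ e : ℤ, (χ : G → ℂ) g = e := by
  classical
  obtain ⟨n, ρ, -, hχ⟩ := χ.2
  obtain ⟨μ, h1, h2, -⟩ := H12.exists_char_eigenvalues ρ g
  have hμ6 : ∀ i, μ i ^ 6 = 1 := fun i => by
    obtain ⟨c, hc⟩ := orderOf_dvd_of_pow_eq_one hg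
    rw [hc, pow_mul, h1 i, one_pow]
  have hz : ∀ i, ∃ z : ℤ, μ i + conj (μ i) = z := by
    intro i
    rw [H12.conj_eq_inv_of_pow_eq_one (by norm_num) (hμ6 i)]
    have h0 : μ i ≠ 0 := fun e => by simpa [e] using hμ6 i
    have hf : (μ i - 1) * (μ i + 1) * (μ i ^ 2 + μ i + 1) * (μ i ^ 2 - μ i + 1) = 0 := by
      linear_combination hμ6 i
    simp only [mul_eq_zero] at hf
    rcases hf with ((e | e) | e) | e
    · exact ⟨2, by rw [sub_eq_zero.1 e]; norm_num⟩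
    · exact ⟨-2, by rw [eq_neg_of_add_eq_zero_left e]; norm_num⟩
    · exact ⟨-1, by field_simp; push_cast; linear_combination e⟩
    · exact ⟨1, by field_simp; push_cast; linear_combination e⟩
  choose z hz using hz
  have hval : (χ : G → ℂ) g = ∑ i, μ i := by
    rw [← hχ]; simpa using h2 1
  have hre : (χ : G → ℂ) g = ∑ i, conj (μ i) := by
    rw [← map_sum, ← hval, ← H12.irr_inv]
    obtain ⟨c, hc'⟩ := isConj_iff.1 hc
    rw [← hc', H12.irr_isClassFunction χ g c]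
  have hq : (χ : G → ℂ) g = ((((∑ i, z i : ℤ) : ℚ) / 2 : ℚ) : ℂ) := by
    push_cast
    rw [eq_div_iff two_ne_zero, ← Finset.sum_congr rfl fun i _ => hz i, Finset.sum_add_distrib,
      ← hval, ← hre]
    ring
  obtain ⟨e, he⟩ := H12.exists_int_of_isIntegral_rat
    (hq ▸ H12.IsCharacter.isIntegral (H12.isCharacter_irr χ) g)
  exact ⟨e, by rw [hq, ← he, Rat.cast_intCast]⟩

/-- The sum of a character over `x V`, `x` of exponent three centralising `V`, is `|V|` times an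
algebraic integer. -/
theorem sc_coset_integral (χ : IrrCharacter G) {x : G} (hx : x ^ 3 = 1) (V : Subgroup G)
    [Fintype V] (hVx : ∀ v ∈ V, v * x = x * v) :
    ∃ w : ℂ, IsIntegral ℤ w ∧ ∑ v : V, (χ : G → ℂ) (x * v) = (Nat.card V : ℂ) * w := by
  classical
  obtain ⟨n, ρ, -, hχ⟩ := χ.2
  set c : ℂ := (Nat.card V : ℂ)⁻¹ with hc
  have hc0 : (Nat.card V : ℂ) ≠ 0 := Nat.cast_ne_zero.2 Nat.card_pos.ne'
  set S : Module.End ℂ (Fin n → ℂ) := ∑ v : V, ρ (v : G) with hS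
  set P : Module.End ℂ (Fin n → ℂ) := c • S with hP
  have hvS : ∀ v : V, ρ (v : G) * S = S := fun v => by
    rw [hS, Finset.mul_sum]
    exact Fintype.sum_equiv (Equiv.mulLeft v) _ _ fun w => by simp
  have hSS : S * S = (Nat.card V : ℂ) • S := by
    conv_lhs => rw [hS, Finset.sum_mul]
    rw [← hS, Finset.sum_congr rfl fun v _ => hvS v, Finset.sum_const, Finset.card_univ,
      ← Nat.card_eq_fintype_card, ← Nat.cast_smul_eq_nsmul ℂ]
  have hPP : P * P = P := by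
    rw [hP, smul_mul_assoc, mul_smul_comm, hSS, smul_smul, smul_smul, hc, mul_assoc,
      inv_mul_cancel₀ hc0, mul_one]
  have hxP : Commute (ρ x) P := by
    rw [hP, hS]
    refine Commute.smul_right (Commute.sum_right _ _ _ fun v _ => ?_) _
    exact (show Commute x (v : G) from (hVx v v.2).symm).map ρ
  have step : ∀ A B : Module.End ℂ (Fin n → ℂ), Commute B P →
      (1 + (A - 1) * P) * (1 + (B - 1) * P) = 1 + (A * B - 1) * P := by
    intro A B hB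
    have e : P * ((B - 1) * P) = (B - 1) * P := by
      rw [← mul_assoc, ← (hB.sub_left (Commute.one_left P)).eq, mul_assoc, hPP]
    have e' : (A - 1) * P * ((B - 1) * P) = (A - 1) * (B - 1) * P := by
      rw [mul_assoc, e, ← mul_assoc]
    rw [add_mul, mul_add, mul_add, one_mul, one_mul, mul_one, e']
    simp only [sub_mul, mul_sub, one_mul, mul_one]
    abel
  set T := 1 + (ρ x - 1) * P with hT
  have hT3 : T ^ 3 = 1 := by
    rw [pow_succ, pow_two, hT, step _ _ hxP, step _ _ hxP, ← map_mul, ← map_mul,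
      show x * x * x = 1 by rw [← pow_two, ← pow_succ]; exact hx, map_one, sub_self, zero_mul,
      add_zero]
  obtain ⟨μ, h1, h2, -⟩ := H12.exists_eigenvalues (by norm_num : (3 : ℕ) ≠ 0) hT3
  have hint : IsIntegral ℤ (LinearMap.trace ℂ _ T) := by
    have := h2 1
    simp only [pow_one] at this
    rw [this]
    exact IsIntegral.sum _ fun i _ =>
      IsIntegral.of_pow three_pos (by rw [h1 i]; exact isIntegral_one)
  obtain ⟨d, hd⟩ : ∃ d : ℕ, LinearMap.trace ℂ _ P = (d : ℂ) :=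
    ⟨_, (LinearMap.IsIdempotentElem.isProj_range _ hPP).trace⟩
  refine ⟨LinearMap.trace ℂ _ T - (n : ℂ) + (d : ℂ),
    (hint.sub (by simpa using (isIntegral_intCast (n : ℤ) : IsIntegral ℤ ((n : ℤ) : ℂ)))).add
      (by simpa using (isIntegral_intCast (d : ℤ) : IsIntegral ℤ ((d : ℤ) : ℂ))), ?_⟩
  have hxPv : LinearMap.trace ℂ _ (ρ x * P) = c * ∑ v : V, (χ : G → ℂ) (x * v) := by
    rw [hP, mul_smul_comm, map_smul, smul_eq_mul, hS, Finset.mul_sum, map_sum]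
    congr 1
    refine Finset.sum_congr rfl fun v _ => ?_
    rw [← hχ, ← map_mul]
    rfl
  rw [hT, map_add, sub_mul, one_mul, map_sub, hxPv, hd, LinearMap.trace_one,
    Module.finrank_fin_fun, hc]
  field_simp
  ring

end Values

/-- Two integer columns with cross product `-1`, the first of norm at most one, leave no room for
a column of norm three orthogonal to both. -/
theorem sc_rest_kill {ι : Type u} (R : Finset ι) (b b' β : ι → ℤ)
    (hb : ∑ χ ∈ R, b χ ^ 2 ≤ 1) (hq : ∑ χ ∈ R, b χ * b' χ = -1)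
    (hS : (R.filter fun χ => b χ ≠ 0 ∨ b' χ ≠ 0).card ≤ 2)
    (hW : (R.filter fun χ => ¬ (b χ ≠ 0 ∨ b' χ ≠ 0)).card ≤ 2)
    (h2 : ∑ χ ∈ R, β χ * b χ = 0) (h3 : ∑ χ ∈ R, β χ * b' χ = 0)
    (hn : ∑ χ ∈ R, β χ ^ 2 = 3) : False := by
  classical
  obtain ⟨s, hs, hsb⟩ : ∃ s ∈ R, b s * b' s ≠ 0 := by
    by_contra hc
    push Not at hc
    rw [Finset.sum_eq_zero hc] at hq
    norm_num at hq
  obtain ⟨hbs, hbs'⟩ := mul_ne_zero_iff.1 hsb
  have huniq : ∀ χ ∈ R, χ ≠ s → b χ = 0 := by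
    intro χ hχ hne
    by_contra h0
    have h1 := Finset.sum_le_sum_of_subset_of_nonneg (f := fun χ => b χ ^ 2) (s := {χ, s}) (t := R)
      (Finset.insert_subset hχ (Finset.singleton_subset_iff.2 hs)) fun i _ _ => sq_nonneg _
    rw [Finset.sum_pair hne] at h1
    have : 0 < b χ ^ 2 := by positivity
    have : 0 < b s ^ 2 := by positivity
    omega
  rw [Finset.sum_eq_single_of_mem s hs fun χ hχ hne => by rw [huniq χ hχ hne, mul_zero],
    mul_eq_zero] at h2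
  have hβs : β s = 0 := h2.resolve_right hbs
  have hβ0 : ∀ χ ∈ R.filter (fun χ => b χ ≠ 0 ∨ b' χ ≠ 0), β χ = 0 := by
    intro χ hχ
    by_cases hne : χ = s
    · rw [hne, hβs]
    have hsub : {χ, s} ⊆ R.filter (fun χ => b χ ≠ 0 ∨ b' χ ≠ 0) :=
      Finset.insert_subset hχ (Finset.singleton_subset_iff.2
        (Finset.mem_filter.2 ⟨hs, Or.inl hbs⟩))
    have heq := Finset.eq_of_subset_of_card_le hsub (by rw [Finset.card_pair hne]; exact hS)
    have h3' := h3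
    rw [← Finset.sum_filter_of_ne (p := fun χ => b χ ≠ 0 ∨ b' χ ≠ 0)
      (fun i _ hi => Or.inr (right_ne_zero_of_mul hi)), ← heq, Finset.sum_pair hne, hβs, zero_mul,
      add_zero, mul_eq_zero] at h3'
    refine h3'.resolve_right ?_
    obtain ⟨hχR, hor⟩ := Finset.mem_filter.1 hχ
    exact hor.resolve_left fun h => h (huniq χ hχR hne)
  have hsmall : ∀ χ ∈ R, β χ ^ 2 ≤ 1 := by
    intro χ hχ
    have h1 := Finset.single_le_sum (f := fun χ => β χ ^ 2) (fun i _ => sq_nonneg _) hχ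
    rw [hn] at h1
    have h4 : β χ ≤ 1 ∧ -1 ≤ β χ := ⟨by nlinarith, by nlinarith⟩
    nlinarith
  rw [← Finset.sum_filter_add_sum_filter_not R (fun χ => b χ ≠ 0 ∨ b' χ ≠ 0),
    Finset.sum_eq_zero (fun χ hχ => by rw [hβ0 χ hχ]; norm_num), zero_add] at hn
  have h1 := Finset.sum_le_card_nsmul (R.filter fun χ => ¬ (b χ ≠ 0 ∨ b' χ ≠ 0))
    (fun χ => β χ ^ 2) 1 fun χ hχ => hsmall χ (Finset.mem_filter.1 hχ).1
  rw [hn, nsmul_eq_mul, mul_one] at h1
  omega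

/-- The arithmetic of the equation `Q U kk = (U - u)²`. -/
theorem sc_square_arith {U u kk n : ℤ} {a : ℕ} (hn : 169 ≤ n) (hU1 : U + 1 = kk * n)
    (hU : U.natAbs ∣ 45 * 2 ^ a * n.natAbs) (hU' : (U + 1).natAbs ∣ 45 * 2 ^ a * n.natAbs)
    (hsq : (2 : ℤ) ^ a * (U * kk) = (U - u) ^ 2) (hu : u ^ 2 ≤ 3 * (2 : ℤ) ^ a)
    (hQn : 3 * (2 : ℤ) ^ a ≤ 5 * n) (h3 : 3 ≤ U.natAbs) :
    u = 0 ∧ U.natAbs = 2 ^ a ∧ kk.natAbs = 1 := by
  have hkk0 : kk ≠ 0 := by
    rintro rfl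
    rw [zero_mul] at hU1
    omega
  have hn0 : n.natAbs ≠ 0 := by omega
  have hmul : (U + 1).natAbs = kk.natAbs * n.natAbs := by rw [hU1, Int.natAbs_mul]
  have hcopn : U.natAbs.Coprime n.natAbs :=
    Int.isCoprime_iff_gcd_eq_one.1 (show IsCoprime U n from ⟨-1, kk, by linear_combination -hU1⟩)
  have hcopk : U.natAbs.Coprime kk.natAbs :=
    Int.isCoprime_iff_gcd_eq_one.1 (show IsCoprime U kk from ⟨-1, n, by linear_combination -hU1⟩)
  have hd : U.natAbs ∣ 45 * 2 ^ a := hcopn.dvd_of_dvd_mul_right hU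
  have hd' : kk.natAbs ∣ 45 * 2 ^ a := by
    rw [hmul] at hU'
    exact Nat.dvd_of_mul_dvd_mul_right (Nat.pos_of_ne_zero hn0) hU'
  have hk1 : 1 ≤ kk.natAbs := Int.natAbs_pos.2 hkk0
  have hbig : n.natAbs ≤ (U + 1).natAbs := by rw [hmul]; exact Nat.le_mul_of_pos_left _ hk1
  obtain ⟨i, o, ho, hUo⟩ := Nat.exists_eq_two_pow_mul_odd (n := U.natAbs) (by omega)
  obtain ⟨f, g, hg, hwg⟩ := Nat.exists_eq_two_pow_mul_odd (n := (U - u).natAbs) (by
    intro e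
    rw [Int.natAbs_eq_zero] at e
    rw [e, zero_pow two_ne_zero, mul_eq_zero, mul_eq_zero] at hsq
    rcases hsq with e' | e' | e'
    · exact absurd e' (by positivity)
    · omega
    · exact hkk0 e')
  have ho45 : o ∣ 45 := by
    refine Nat.Coprime.dvd_of_dvd_mul_right (Nat.Coprime.pow_right a (Nat.coprime_two_right.2 ho))
      (dvd_trans ?_ hd)
    rw [hUo]; exact dvd_mul_left _ _
  have hi : 1 ≤ i := by
    by_contra hi
    rw [show i = 0 by omega, pow_zero, one_mul] at hUo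
    have := Nat.le_of_dvd (by norm_num) ho45
    omega
  have hkodd : Odd kk.natAbs := by
    have h2U : 2 ∣ U.natAbs := hUo ▸ (dvd_pow_self 2 (by omega)).trans (dvd_mul_right _ _)
    rw [← Nat.coprime_two_right]
    exact (hcopk.coprime_dvd_left h2U).symm
  have hk45 : kk.natAbs ∣ 45 :=
    Nat.Coprime.dvd_of_dvd_mul_right (Nat.Coprime.pow_right a (Nat.coprime_two_right.2 hkodd)) hd'
  have hsqN : 2 ^ (a + i) * (o * kk.natAbs) = 2 ^ (2 * f) * g ^ 2 := by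
    have h1 := congrArg Int.natAbs hsq
    rw [Int.natAbs_mul, Int.natAbs_pow, Int.natAbs_mul, Int.natAbs_pow, hwg, hUo] at h1
    rw [show (2 : ℤ).natAbs = 2 from rfl] at h1
    rw [pow_add, pow_mul', ← mul_pow, ← h1]
    ring
  have hg2 : g ^ 2 = o * kk.natAbs := by
    apply Nat.dvd_antisymm
    · exact (Nat.Coprime.pow_right (a + i) (Nat.coprime_two_right.2 hg.pow)).dvd_of_dvd_mul_left
        (hsqN ▸ dvd_mul_left _ _)
    · exact (Nat.Coprime.pow_right (2 * f) (Nat.coprime_two_right.2 (ho.mul hkodd))).dvd_of_dvd_mul_left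
        (hsqN ▸ dvd_mul_left _ _)
  have hf : 2 * f = a + i := by
    rw [hg2] at hsqN
    exact Nat.pow_right_injective le_rfl
      (Nat.eq_of_mul_eq_mul_right (Nat.mul_pos ho.pos hk1) hsqN).symm
  have hco : o.Coprime kk.natAbs := hcopk.coprime_dvd_left (hUo ▸ dvd_mul_left _ _)
  have hg45 : g ^ 2 ∣ 45 := hg2 ▸ hco.mul_dvd_of_dvd_of_dvd ho45 hk45
  have hg6 : g ≤ 6 := by
    by_contra hc
    have := Nat.le_of_dvd (by norm_num) hg45
    have : 7 ^ 2 ≤ g ^ 2 := Nat.pow_le_pow_left (by omega) 2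
    omega
  have hsmall : 5 * u.natAbs < U.natAbs := by
    by_contra hc
    push Not at hc
    have h1 : ((U.natAbs : ℤ)) ^ 2 ≤ (5 * (u.natAbs : ℤ)) ^ 2 :=
      pow_le_pow_left₀ (Int.natCast_nonneg _) (by exact_mod_cast hc) 2
    have h2 : (n.natAbs : ℤ) ≤ (U.natAbs : ℤ) + 1 := by
      have : (U + 1).natAbs ≤ U.natAbs + 1 := Int.natAbs_add_le U 1
      omega
    have h4 : (n.natAbs : ℤ) = n := Int.natAbs_of_nonneg (by omega)
    have h5 : (u.natAbs : ℤ) ^ 2 = u ^ 2 := Int.natAbs_sq u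
    nlinarith
  have hlow : 4 * (2 ^ i * o) < 5 * (2 ^ f * g) ∧ 5 * (2 ^ f * g) < 6 * (2 ^ i * o) := by
    rw [← hUo, ← hwg]
    omega
  have hcases : (g = 1 ∧ o = 1) ∨ (g = 3 ∧ o = 1) ∨ (g = 3 ∧ o = 9) := by
    have ho9 : o ∣ g ^ 2 := hg2 ▸ dvd_mul_right _ _
    have hgodd : g % 2 = 1 := Nat.odd_iff.1 hg
    have hg0 : g = 1 ∨ g = 3 := by
      interval_cases g <;> omega
    rcases hg0 with rfl | rfl
    · exact Or.inl ⟨rfl, Nat.dvd_one.1 (by simpa using ho9)⟩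
    · have : o ≤ 9 := Nat.le_of_dvd (by norm_num) ho9
      interval_cases o
      all_goals first
        | exact Or.inr (Or.inl ⟨rfl, rfl⟩)
        | exact Or.inr (Or.inr ⟨rfl, rfl⟩)
        | omega
        | (have : kk.natAbs = 3 := by omega
           rw [this] at hco
           norm_num at hco)
  rcases hcases with ⟨rfl, rfl⟩ | ⟨rfl, rfl⟩ | ⟨rfl, rfl⟩
  · rw [mul_one, mul_one] at hlow
    rw [one_pow, one_mul] at hg2
    have hfi : f = i := by
      rcases lt_trichotomy f i with e | e | e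
      · exfalso
        have h1 : 2 ^ (f + 1) ≤ 2 ^ i := Nat.pow_le_pow_right (by norm_num) e
        rw [pow_succ] at h1
        omega
      · exact e
      · exfalso
        have h1 : 2 ^ (i + 1) ≤ 2 ^ f := Nat.pow_le_pow_right (by norm_num) e
        rw [pow_succ] at h1
        omega
    subst hfi
    rw [mul_one] at hUo hwg
    exact ⟨by omega, by rw [hUo, show f = a by omega], hg2.symm⟩
  · exfalso
    rw [mul_one] at hlow
    rcases Nat.lt_or_ge (f + 1) i with e | e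
    · have h1 : 2 ^ (f + 2) ≤ 2 ^ i := Nat.pow_le_pow_right (by norm_num) e
      rw [pow_add] at h1
      omega
    · have h1 : 2 ^ i ≤ 2 ^ (f + 1) := Nat.pow_le_pow_right (by norm_num) e
      rw [pow_add] at h1
      omega
  · exfalso
    rcases Nat.lt_or_ge (i + 1) f with e | e
    · have h1 : 2 ^ (i + 2) ≤ 2 ^ f := Nat.pow_le_pow_right (by norm_num) e
      rw [pow_add] at h1
      omega
    · have h1 : 2 ^ f ≤ 2 ^ (i + 1) := Nat.pow_le_pow_right (by norm_num) e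
      rw [pow_add] at h1
      omega

section Chars

variable {G : Type u} [Group G] [Fintype G] {A₁ A₂ A₃ : Subgroup G} {h : H22.SC.Sys A₁ A₂ A₃}

/-- At most two characters vanish on all three subgroups away from one. -/
theorem sc_card_vanishing (X : H22.SC.Chars h) :
    (X.namedᶜ.filter fun χ => ¬ (X.E₂.b χ ≠ 0 ∨ X.E₃.b χ ≠ 0)).card ≤ 2 := by
  classical
  set W := X.namedᶜ.filter fun χ => ¬ (X.E₂.b χ ≠ 0 ∨ X.E₃.b χ ≠ 0) with hW
  have hone : H12.oneIrr G ∉ W := fun hm => by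
    rw [hW, Finset.mem_filter, Finset.mem_compl] at hm
    exact hm.1 (by simp [H22.SC.Chars.named])
  have h3 : W.card * h.NN ^ 2 ≤
      ∑ χ ∈ Finset.univ.erase (H12.oneIrr G), H12.degree (χ : G → ℂ) ^ 2 := by
    refine le_trans ?_ (Finset.sum_le_sum_of_subset (s := W) fun χ hχ =>
      Finset.mem_erase.2 ⟨fun e => hone (e ▸ hχ), Finset.mem_univ _⟩)
    rw [← smul_eq_mul]
    refine Finset.card_nsmul_le_sum _ _ _ fun χ hχ => ?_
    rw [hW, Finset.mem_filter, Finset.mem_compl] at hχ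
    exact Nat.pow_le_pow_left (Nat.le_of_dvd (H12.irr_degree_pos χ) (X.vanish hχ.1 hχ.2)) 2
  have h1 := H12.sum_degree_sq_nat (G := G)
  rw [← Finset.add_sum_erase _ _ (Finset.mem_univ (H12.oneIrr G))] at h1
  have hd1 : H12.degree ((H12.oneIrr G : IrrCharacter G) : G → ℂ) = 1 := by
    have := H12.irr_apply_one (H12.oneIrr G)
    rw [H12.oneIrr_apply] at this
    exact_mod_cast this.symm
  rw [hd1, one_pow] at h1
  have hord : Nat.card G ≤ 3 * h.NN ^ 2 := by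
    refine h.hord.trans_eq ?_
    unfold H22.SC.Sys.NN; ring
  by_contra hc
  have : 3 * h.NN ^ 2 ≤ W.card * h.NN ^ 2 := Nat.mul_le_mul_right _ (by omega)
  omega

/-- The cross relation when `m₁ = 2` and `m₂, m₃ ≥ 3`. -/
theorem sc_cross (X : H22.SC.Chars h) (hm₁ : X.E₁.m = 2) (hm₂ : 3 ≤ X.E₂.m) (hm₃ : 3 ≤ X.E₃.m) :
    (∀ w, X.E₂.b (X.E₃.mu w) = 0) ∧ (∀ u, X.E₃.b (X.E₂.mu u) = 0) ∧
      ((X.s * X.E₂.b X.θ = -1 ∧ X.s * X.E₃.b X.θ = -1) ∨
        (∑ χ ∈ X.namedᶜ, X.E₂.b χ * X.E₃.b χ = -1 ∧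
          (∑ χ ∈ X.namedᶜ, X.E₂.b χ ^ 2 ≤ 1 ∨ ∑ χ ∈ X.namedᶜ, X.E₃.b χ ^ 2 ≤ 1))) := by
  classical
  set θ₂ := X.s * X.E₂.b X.θ with hθ₂
  set θ₃ := X.s * X.E₃.b X.θ with hθ₃
  let w₀ : Fin X.E₃.m := ⟨0, by omega⟩
  let u₀ : Fin X.E₂.m := ⟨0, by omega⟩
  set c := X.E₃.b (X.E₂.mu u₀) with hc
  set c' := X.E₂.b (X.E₃.mu w₀) with hc'
  have hconstc : ∀ u, X.E₃.b (X.E₂.mu u) = c := by
    intro u
    obtain ⟨x, hx, hx1⟩ := X.E₃.exists_ne_one
    have h1 := X.E₂.const x (h.d₃₂ x ⟨hx1, 1, by simpa using hx⟩) u u₀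
    rw [X.E₃.val _ (fun w => X.E₂.not_mem_range X.E₃ h.d₃₂ u w) x hx hx1,
      X.E₃.val _ (fun w => X.E₂.not_mem_range X.E₃ h.d₃₂ u₀ w) x hx hx1] at h1
    exact_mod_cast h1
  have hconstc' : ∀ w, X.E₂.b (X.E₃.mu w) = c' := by
    intro w
    obtain ⟨x, hx, hx1⟩ := X.E₂.exists_ne_one
    have h1 := X.E₃.const x (h.disj₂₃ x ⟨hx1, 1, by simpa using hx⟩) w w₀
    rw [X.E₂.val _ (fun u => X.E₃.not_mem_range X.E₂ h.disj₂₃ w u) x hx hx1,
      X.E₂.val _ (fun u => X.E₃.not_mem_range X.E₂ h.disj₂₃ w₀ u) x hx hx1] at h1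
    exact_mod_cast h1
  have hε₁ : X.E₁.eps * X.E₁.eps = 1 := by
    rcases X.E₁.eps_cases with e | e <;> rw [e] <;> rfl
  have hμ₂ : ∀ t, X.E₂.b (X.E₁.mu t) = X.E₁.eps * (1 + θ₂) := fun t => by
    have := X.b_μ₁ X.E₂ h.d₂₁ t
    rw [hθ₂, ← this, ← mul_assoc, hε₁, one_mul]
  have hμ₃ : ∀ t, X.E₃.b (X.E₁.mu t) = X.E₁.eps * (1 + θ₃) := fun t => by
    have := X.b_μ₁ X.E₃ h.d₃₁ t
    rw [hθ₃, ← this, ← mul_assoc, hε₁, one_mul]
  have hθsq : ∀ z : ℤ, z ^ 2 = (X.s * z) ^ 2 := fun z => by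
    rw [mul_pow, pow_two X.s, X.s_sq, one_mul]
  set p₂ := ∑ χ ∈ X.namedᶜ, X.E₂.b χ ^ 2 with hp₂
  set p₃ := ∑ χ ∈ X.namedᶜ, X.E₃.b χ ^ 2 with hp₃
  set q := ∑ χ ∈ X.namedᶜ, X.E₂.b χ * X.E₃.b χ with hq
  have n₂ := X.E₂.norm
  rw [X.sum_named] at n₂
  simp only [X.E₂.b_one, X.E₂.b_mu, hμ₂, hconstc', Finset.sum_const, Finset.card_univ,
    Fintype.card_fin, nsmul_eq_mul, ← hp₂, mul_pow] at n₂
  rw [pow_two X.E₁.eps, hε₁, hθsq (X.E₂.b X.θ), ← hθ₂] at n₂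
  have n₃ := X.E₃.norm
  rw [X.sum_named] at n₃
  simp only [X.E₃.b_one, X.E₃.b_mu, hμ₃, hconstc, Finset.sum_const, Finset.card_univ,
    Fintype.card_fin, nsmul_eq_mul, ← hp₃, mul_pow] at n₃
  rw [pow_two X.E₁.eps, hε₁, hθsq (X.E₃.b X.θ), ← hθ₃] at n₃
  rw [hm₁] at n₂ n₃
  push_cast at n₂ n₃
  have hP : ∀ {B : Subgroup G} (E : H22.SC.Exc B 4),
      0 ≤ (E.a - E.eps) ^ 2 + ((E.m : ℤ) - 1) * E.a ^ 2 - 1 := by
    intro B E
    rcases E.a_cases with e | ⟨e, hm, -⟩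
    · rw [e]; rcases E.eps_cases with e' | e' <;> rw [e'] <;> norm_num
    · have hmz : (3 : ℤ) ≤ E.m := by exact_mod_cast hm
      rw [e]; rcases E.eps_cases with e' | e' <;> rw [e'] <;> norm_num <;> omega
  have hz₂ : (2 : ℤ) ≤ X.E₂.m := by exact_mod_cast X.E₂.two_le
  have hz₃ : (2 : ℤ) ≤ X.E₃.m := by exact_mod_cast X.E₃.two_le
  have r₂ := H22.SC.rem_cases (m₁ := 2) (m := (X.E₃.m : ℤ)) (c := c') (θ := θ₂) (p := p₂)
    le_rfl hz₃ (Finset.sum_nonneg fun χ _ => sq_nonneg _) (hP X.E₂)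
    (X.theta_bound X.E₂ h.d₂₁) (by linear_combination n₂)
  have r₃ := H22.SC.rem_cases (m₁ := 2) (m := (X.E₂.m : ℤ)) (c := c) (θ := θ₃) (p := p₃)
    le_rfl hz₂ (Finset.sum_nonneg fun χ _ => sq_nonneg _) (hP X.E₃)
    (X.theta_bound X.E₃ h.d₃₁) (by linear_combination n₃)
  have r₂' : c' = 0 ∧ ((θ₂ = -1 ∧ p₂ ≤ 2) ∨ (θ₂ = 0 ∧ p₂ ≤ 1)) := by
    rcases r₂ with ⟨e1, e2⟩ | ⟨e1, e2⟩ | ⟨-, e, -⟩
    · exact ⟨e1, Or.inl e2⟩
    · exact ⟨e1, Or.inr e2⟩
    · exfalso; omega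
  have r₃' : c = 0 ∧ ((θ₃ = -1 ∧ p₃ ≤ 2) ∨ (θ₃ = 0 ∧ p₃ ≤ 1)) := by
    rcases r₃ with ⟨e1, e2⟩ | ⟨e1, e2⟩ | ⟨-, e, -⟩
    · exact ⟨e1, Or.inl e2⟩
    · exact ⟨e1, Or.inr e2⟩
    · exfalso; omega
  refine ⟨fun w => (hconstc' w).trans r₂'.1, fun v => (hconstc v).trans r₃'.1, ?_⟩
  obtain ⟨a, ha, ha1⟩ := X.E₂.exists_ne_one
  obtain ⟨b, hb, hb1⟩ := X.E₃.exists_ne_one
  have hcross := H12.column_orthogonality a b
  rw [if_neg (fun hc2 => h.disj₂₃ b (H22.SC.inA_of_isConj ⟨ha1, 1, by simpa using ha⟩ hc2)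
    ⟨hb1, 1, by simpa using hb⟩), X.sum_named] at hcross
  have e₂ : ∀ χ, (∀ u, χ ≠ X.E₂.mu u) → (χ : G → ℂ) a = X.E₂.b χ :=
    fun χ hχ => X.E₂.val χ hχ a ha ha1
  have e₃ : ∀ χ, (∀ w, χ ≠ X.E₃.mu w) → (χ : G → ℂ) b = X.E₃.b χ :=
    fun χ hχ => X.E₃.val χ hχ b hb hb1
  have hrest : ∀ χ ∈ X.namedᶜ, (χ : G → ℂ) a * conj ((χ : G → ℂ) b) =
      ((X.E₂.b χ * X.E₃.b χ : ℤ) : ℂ) := by
    intro χ hχ
    rw [Finset.mem_compl, H22.SC.Chars.named] at hχ
    simp only [Finset.mem_union, Finset.mem_image, Finset.mem_univ, true_and, not_or, not_exists]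
      at hχ
    rw [e₂ χ fun u e => hχ.1.2 u e.symm, e₃ χ fun w e => hχ.2 w e.symm, map_intCast, Int.cast_mul]
  have hμ1 : ∀ t, (X.E₁.mu t : G → ℂ) a * conj ((X.E₁.mu t : G → ℂ) b) =
      (((1 + θ₂) * (1 + θ₃) : ℤ) : ℂ) := by
    intro t
    rw [e₂ _ (fun u => X.E₁.not_mem_range X.E₂ h.d₂₁ t u),
      e₃ _ (fun w => X.E₁.not_mem_range X.E₃ h.d₃₁ t w), map_intCast, ← Int.cast_mul, hμ₂, hμ₃]
    congr 1
    linear_combination (1 + θ₂) * (1 + θ₃) * hε₁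
  have hS2 : ∀ v, (X.E₂.mu v : G → ℂ) a * conj ((X.E₂.mu v : G → ℂ) b) = 0 := by
    intro v
    rw [e₃ _ (fun w => X.E₂.not_mem_range X.E₃ h.d₃₂ v w), hconstc, r₃'.1]
    simp
  have hS3 : ∀ w, (X.E₃.mu w : G → ℂ) a * conj ((X.E₃.mu w : G → ℂ) b) = 0 := by
    intro w
    rw [e₂ _ (fun u => X.E₃.not_mem_range X.E₂ h.disj₂₃ w u), hconstc', r₂'.1]
    simp
  have hθab : (X.θ : G → ℂ) a * conj ((X.θ : G → ℂ) b) = ((θ₂ * θ₃ : ℤ) : ℂ) := by
    rw [e₂ _ (X.θ_not₂ X.E₂ h.d₂₁), e₃ _ (X.θ_not₂ X.E₃ h.d₃₁), map_intCast, ← Int.cast_mul,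
      hθ₂, hθ₃]
    congr 1
    linear_combination -(X.E₂.b X.θ * X.E₃.b X.θ) * X.s_sq
  rw [H12.oneIrr_apply, H12.oneIrr_apply, map_one, mul_one, hθab,
    Finset.sum_congr rfl (fun t _ => hμ1 t), Finset.sum_congr rfl (fun t _ => hS2 t),
    Finset.sum_congr rfl (fun t _ => hS3 t), Finset.sum_congr rfl hrest,
    show (∑ χ ∈ X.namedᶜ, ((X.E₂.b χ * X.E₃.b χ : ℤ) : ℂ)) = (q : ℂ) by rw [hq, Int.cast_sum],
    Finset.sum_const, Finset.card_univ, Fintype.card_fin, hm₁, Finset.sum_const_zero,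
    Finset.sum_const_zero, add_zero, add_zero] at hcross
  have hcross' : 1 + θ₂ * θ₃ + 2 * ((1 + θ₂) * (1 + θ₃)) + q = 0 := by
    apply Int.cast_injective (α := ℂ)
    push_cast at hcross ⊢
    linear_combination hcross
  rcases r₂'.2 with ⟨e2, hp⟩ | ⟨e2, hp⟩ <;> rcases r₃'.2 with ⟨e3, hp'⟩ | ⟨e3, hp'⟩ <;>
    rw [e2, e3] at hcross' <;> norm_num at hcross'
  · exact Or.inl ⟨e2, e3⟩
  · exact Or.inr ⟨by linarith, Or.inr hp'⟩
  · exact Or.inr ⟨by linarith, Or.inl hp⟩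
  · exfalso
    have h9 : q ^ 2 ≤ p₂ * p₃ := Finset.sum_mul_sq_le_sq_mul_sq _ _ _
    have hq3 : q = -3 := by linarith
    have h0 : (0 : ℤ) ≤ p₂ := Finset.sum_nonneg fun χ _ => sq_nonneg _
    have h0' : (0 : ℤ) ≤ p₃ := Finset.sum_nonneg fun χ _ => sq_nonneg _
    rw [hq3] at h9
    have : p₂ * p₃ ≤ 1 * 1 := mul_le_mul hp hp' h0' (by norm_num)
    linarith

/-- An integral column `β`, orthogonal to the trivial one, vanishes on the named characters. -/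
theorem sc_beta_column (X : H22.SC.Chars h) (hm₁ : X.E₁.m = 2) (hm₂ : 3 ≤ X.E₂.m)
    (hm₃ : 3 ≤ X.E₃.m) (β : IrrCharacter G → ℤ) (β₂ β₃ : ℤ) (h1 : β (H12.oneIrr G) = 0)
    (hμ : ∀ t, X.E₁.eps * β (X.E₁.mu t) = X.s * β X.θ)
    (h2 : ∀ v, β (X.E₂.mu v) = β₂) (h3 : ∀ w, β (X.E₃.mu w) = β₃)
    (hc₂ : ∀ w, X.E₂.b (X.E₃.mu w) = 0) (hc₃ : ∀ v, X.E₃.b (X.E₂.mu v) = 0)
    (hR₂ : ∑ χ, X.E₂.b χ * β χ + ((X.E₂.m : ℤ) * X.E₂.a - X.E₂.eps) * β₂ = 0)
    (hR₃ : ∑ χ, X.E₃.b χ * β χ + ((X.E₃.m : ℤ) * X.E₃.a - X.E₃.eps) * β₃ = 0)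
    (hn : ∑ χ, β χ ^ 2 = 3) :
    (∑ χ ∈ X.namedᶜ, β χ * X.E₂.b χ = 0) ∧ (∑ χ ∈ X.namedᶜ, β χ * X.E₃.b χ = 0) ∧
      ∑ χ ∈ X.namedᶜ, β χ ^ 2 = 3 := by
  classical
  have hε₁ : X.E₁.eps * X.E₁.eps = 1 := by
    rcases X.E₁.eps_cases with e | e <;> rw [e] <;> rfl
  set z := X.s * β X.θ with hz
  have hμ' : ∀ t, β (X.E₁.mu t) = X.E₁.eps * z := fun t => by
    rw [← hμ t, ← mul_assoc, hε₁, one_mul]
  have hR : ∀ {B : Subgroup G} (E : H22.SC.Exc B 4) (hd : ∀ g : G, H22.SC.InA B g → ¬ H22.SC.InA A₁ g)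
      (β₀ : ℤ), (∀ v, E.b (X.E₂.mu v) = 0) → (∀ w, E.b (X.E₃.mu w) = 0) →
      ∑ χ, E.b χ * β χ + ((E.m : ℤ) * E.a - E.eps) * β₀ = 0 →
      z * (3 * (X.s * E.b X.θ) + 2) + ∑ χ ∈ X.namedᶜ, β χ * E.b χ
        + ((E.m : ℤ) * E.a - E.eps) * β₀ = 0 := by
    intro B E hd β₀ e2 e3 he
    rw [X.sum_named] at he
    simp only [h1, e2, e3, mul_zero, zero_mul, Finset.sum_const_zero, add_zero, zero_add] at he
    rw [Finset.sum_congr rfl (g := fun _ => z * (1 + X.s * E.b X.θ)) (fun t _ => by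
      rw [hμ' t, ← X.b_μ₁ E hd t]; ring), Finset.sum_const, Finset.card_univ, Fintype.card_fin,
      hm₁] at he
    simp only [nsmul_eq_mul, Nat.cast_ofNat] at he
    rw [Finset.sum_congr rfl (g := fun χ => E.b χ * β χ) fun χ _ => mul_comm _ _]
    linear_combination he + (E.b X.θ * β X.θ) * X.s_sq + 2 * 0 * hε₁
  have eR₂ := hR X.E₂ h.d₂₁ β₂ X.E₂.b_mu hc₂ hR₂
  have eR₃ := hR X.E₃ h.d₃₁ β₃ hc₃ X.E₃.b_mu hR₃
  rw [X.sum_named] at hn
  simp only [h1, h2, h3, hμ', Finset.sum_const, Finset.card_univ, Fintype.card_fin, hm₁,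
    nsmul_eq_mul, mul_pow, pow_two X.E₁.eps, hε₁, one_mul, Nat.cast_ofNat] at hn
  rw [show β X.θ ^ 2 = z ^ 2 by rw [hz, mul_pow, pow_two X.s, X.s_sq, one_mul]] at hn
  set r := ∑ χ ∈ X.namedᶜ, β χ ^ 2 with hr
  have hr0 : 0 ≤ r := Finset.sum_nonneg fun χ _ => sq_nonneg _
  have hzero : r = 0 → (∑ χ ∈ X.namedᶜ, β χ * X.E₂.b χ = 0) ∧
      ∑ χ ∈ X.namedᶜ, β χ * X.E₃.b χ = 0 := by
    intro hr1
    have h0 : ∀ χ ∈ X.namedᶜ, β χ = 0 := fun χ hχ => (pow_eq_zero_iff two_ne_zero).1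
      ((Finset.sum_eq_zero_iff_of_nonneg fun i _ => sq_nonneg _).1 hr1 χ hχ)
    exact ⟨Finset.sum_eq_zero fun χ hχ => by rw [h0 χ hχ, zero_mul],
      Finset.sum_eq_zero fun χ hχ => by rw [h0 χ hχ, zero_mul]⟩
  have hcoef : ∀ {B : Subgroup G} (E : H22.SC.Exc B 4), (E.m : ℤ) * E.a - E.eps ≠ 0 := by
    intro B E
    rcases E.a_cases with e | ⟨e, hm, -⟩
    · rw [e]; rcases E.eps_cases with e' | e' <;> rw [e'] <;> simp
    · rw [e]; rcases E.eps_cases with e' | e' <;> rw [e'] <;> omega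
  have hm₂' : (3 : ℤ) ≤ X.E₂.m := by exact_mod_cast hm₂
  have hm₃' : (3 : ℤ) ≤ X.E₃.m := by exact_mod_cast hm₃
  have hb₂ : 0 ≤ (X.E₂.m : ℤ) * β₂ ^ 2 := by positivity
  have hb₃ : 0 ≤ (X.E₃.m : ℤ) * β₃ ^ 2 := by positivity
  have hsq : ∀ y : ℤ, y ≠ 0 → 1 ≤ y ^ 2 := fun y hy => by
    have : 0 < y ^ 2 := by positivity
    omega
  have hz0 : z = 0 := by
    by_contra h0
    have := hsq z h0
    have hr1 : r = 0 := by nlinarith
    have hb2 : β₂ = 0 := by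
      by_contra hc; have := hsq β₂ hc; nlinarith
    rw [(hzero hr1).1, hb2, mul_zero, add_zero, add_zero, mul_eq_zero] at eR₂
    omega
  rw [hz0] at hn eR₂ eR₃
  have hb2 : β₂ = 0 := by
    by_contra hc
    have := hsq β₂ hc
    have hr1 : r = 0 := by nlinarith
    rw [(hzero hr1).1, zero_mul, zero_add, zero_add, mul_eq_zero] at eR₂
    exact eR₂.elim (hcoef X.E₂) hc
  have hb3 : β₃ = 0 := by
    by_contra hc
    have := hsq β₃ hc
    have hr1 : r = 0 := by nlinarith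
    rw [(hzero hr1).2, zero_mul, zero_add, zero_add, mul_eq_zero] at eR₃
    exact eR₃.elim (hcoef X.E₃) hc
  rw [hb2, hb3] at hn
  rw [hb2] at eR₂
  rw [hb3] at eR₃
  refine ⟨by linarith, by linarith, ?_⟩
  simpa using hn

end Chars

variable {G : Type u} [Group G] [Fintype G] [IsSimpleGroup G] {A₁ A₂ A₃ : Subgroup G}
  {h : H22.SC.Sys A₁ A₂ A₃}

set_option maxHeartbeats 1000000 in
/-- The case `|A₁| = 5`, `|C(x)| = 36`, `|C(x t)| = 12` is impossible. -/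
theorem sc_beta (L : H22.SC.Loc h) (hr : L.r = 3) (hn₁ : Nat.card A₁ = 5) (ha : L.ar = 2)
    (hx : Nat.card (Subgroup.centralizer ({L.x} : Set G)) = 36)
    (hxt : Nat.card (Subgroup.centralizer ({L.x * L.t} : Set G)) = 12)
    (ht : Nat.card (Subgroup.centralizer ({L.t} : Set G)) = 3 * H22.SC.twoPart G)
    (V : Subgroup G) (hV : Nat.card V = 4) (hVx : ∀ v ∈ V, v * L.x = L.x * v)
    (hVc : ∀ v ∈ V, v ≠ 1 → IsConj (L.x * L.t) (L.x * v))
    (hreal : IsConj (L.x * L.t) (L.x⁻¹ * L.t)) : False := by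
  classical
  obtain ⟨M, m, hM, hm, -, hM3, hMcop, hm2, hmr⟩ := L.exists_m
  obtain ⟨u, hu, hu2, -, -⟩ := L.exists_u
  obtain ⟨k, hk, hk2, hk0⟩ := L.exists_kU
  obtain ⟨h13, h13', -, -⟩ := L.three_facts hr
  have hkey := L.X.key_tt L.hna L.ht hM hk hu
  rw [ht] at hkey hu2
  rw [hr, ha] at hm
  rw [hr] at hmr
  set Q : ℤ := ((H22.SC.twoPart G : ℕ) : ℤ) with hQ
  have hQa : Q = (2 : ℤ) ^ (Nat.card G).factorization 2 := by
    rw [hQ, H22.SC.twoPart]; push_cast; rfl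
  have hQ0 : 0 < Q := by rw [hQa]; positivity
  push_cast at hkey hu2
  rw [← hQ] at hkey hu2
  have hMz : (M : ℤ) = 9 * Q * m := by rw [hm, hQ]; push_cast; ring
  rw [hMz] at hkey
  have hkey' : Q * k = m * (L.X.U - u) ^ 2 :=
    mul_left_cancel₀ (show 9 * Q ≠ 0 by positivity) (by linear_combination hkey)
  set n : ℤ := (Nat.card A₂ : ℤ) * Nat.card A₃ with hn
  have hn169 : 169 ≤ n := by
    have a2 : (13 : ℤ) ≤ Nat.card A₂ := by exact_mod_cast h13
    have a3 : (13 : ℤ) ≤ Nat.card A₃ := by exact_mod_cast h13'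
    rw [hn]; nlinarith
  have hNN : (h.NN : ℤ) = 5 * n := by
    rw [hn]; unfold H22.SC.Sys.NN; rw [hn₁]; push_cast; ring
  have hM15 : 9 * Q * m ≤ 15 * n := by
    have h1 : (M : ℤ) ≤ 3 * h.NN := by exact_mod_cast hM3
    rw [hMz, hNN] at h1
    linarith
  -- there is no further prime
  have hm1 : m = 1 := by
    by_contra hm1
    have hmM : m ∣ M := hm ▸ dvd_mul_left _ _
    have hm7 : 7 ≤ m := by
      have h5 : ¬ 5 ∣ m := fun hd => by
        have h1 : (5 : ℕ).Coprime h.NN := Nat.Coprime.coprime_dvd_left (hd.trans hmM) hMcop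
        have := Nat.eq_one_of_dvd_coprimes h1 dvd_rfl
          (show 5 ∣ h.NN from hn₁ ▸ (dvd_mul_right _ _).trans (dvd_mul_right _ _))
        omega
      by_contra hc
      have hmlt : m < 7 := by omega
      revert hm1 hm2 hmr h5
      clear * - hmlt
      interval_cases m <;> decide
    have hmk : (m : ℤ) ∣ k := by
      refine Int.dvd_of_dvd_mul_right_of_gcd_one (show (m : ℤ) ∣ Q * k from ⟨_, hkey'⟩) ?_
      rw [hQ, Int.gcd_natCast_natCast]
      exact Nat.Coprime.pow_right _ (Nat.coprime_two_right.2 (Nat.odd_iff.2 (by omega)))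
    have h2m : 2 * (m : ℤ) ≤ k := by
      obtain ⟨j', hj'⟩ := hmk
      have hmodd : ¬ (2 : ℤ) ∣ m := by exact_mod_cast hm2
      have hj2 : (2 : ℤ) ∣ j' := (Int.Prime.dvd_mul' Nat.prime_two (hj' ▸ hk2)).resolve_left hmodd
      have hj0 : 0 < j' := pos_of_mul_pos_right (hj' ▸ (show (0 : ℤ) < k by omega))
        (Int.natCast_nonneg m)
      have h2j : (2 : ℤ) ≤ j' := Int.le_of_dvd hj0 hj2
      rw [hj', mul_comm (2 : ℤ)]
      exact mul_le_mul_of_nonneg_left h2j (Int.natCast_nonneg m)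
    have hQm : 0 ≤ Q * m := by positivity
    refine H22.SC.no_extra (U := L.X.U) (u := u) (n := n) (k := k) (c := Q) (m := (m : ℤ))
      (by exact_mod_cast hm7) (by linarith) h2m hk hkey'.symm (by linarith) ?_
    have : (m : ℤ) * u ^ 2 ≤ (m : ℤ) * (3 * Q) := mul_le_mul_of_nonneg_left hu2 (Int.natCast_nonneg m)
    linarith
  subst hm1
  rw [Nat.cast_one, one_mul] at hkey'
  rw [Nat.cast_one, mul_one] at hM15
  -- the columns at `x` and `x t`
  have hx3 : L.x ^ 3 = 1 := by rw [← hr, ← L.hx, pow_orderOf_eq_one]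
  have hxo : orderOf L.x = 3 := L.hx.trans hr
  have hto : orderOf (L.x * L.t) = 6 := by rw [L.xt_order, hr]
  have hxrat : IsConj L.x L.x⁻¹ := L.conj_x (s := L.t) (by rw [orderOf_inv, L.hx]) L.ht
    ((show Commute L.t L.x from L.comm).inv_right).eq
  have hxtreal : IsConj (L.x * L.t) (L.x * L.t)⁻¹ := by
    have hti : L.t⁻¹ = L.t :=
      inv_eq_of_mul_eq_one_right (by rw [← pow_two, ← L.ht, pow_orderOf_eq_one])
    rw [mul_inv_rev, hti, ((show Commute L.t L.x from L.comm).inv_right).eq]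
    exact hreal
  have hvx : ∀ χ : IrrCharacter G, ∃ e : ℤ, (χ : G → ℂ) L.x = e ∧
      (3 : ℤ) ∣ (H12.degree (χ : G → ℂ) : ℤ) - e :=
    fun χ => H36.M11.irr_rational_three χ hxo hxrat
  have hvy : ∀ χ : IrrCharacter G, ∃ e : ℤ, (χ : G → ℂ) (L.x * L.t) = e :=
    fun χ => sc_value_six χ (by rw [← hto, pow_orderOf_eq_one]) hxtreal
  choose vx hvx hvx3 using hvx
  choose vy hvy using hvy
  have hβex : ∀ χ : IrrCharacter G, ∃ b : ℤ, vx χ - vy χ = 4 * b := by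
    intro χ
    haveI := Fintype.ofFinite V
    obtain ⟨w, hwi, hw⟩ := sc_coset_integral χ hx3 V hVx
    rw [← Finset.add_sum_erase _ _ (Finset.mem_univ (1 : V)),
      Finset.sum_congr rfl (g := fun _ => (vy χ : ℂ)) (fun v hv => by
        rw [← hvy χ]
        obtain ⟨c, hc⟩ := isConj_iff.1 (hVc v v.2 fun e => (Finset.mem_erase.1 hv).1 (Subtype.ext e))
        rw [← hc, H12.irr_isClassFunction χ _ c]),
      Finset.sum_const, Finset.card_erase_of_mem (Finset.mem_univ _), Finset.card_univ,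
      ← Nat.card_eq_fintype_card, hV, Subgroup.coe_one, mul_one, hvx χ, nsmul_eq_mul] at hw
    have hq : w = ((((vx χ + 3 * vy χ : ℤ) : ℚ) / 4 : ℚ) : ℂ) := by
      push_cast at hw ⊢
      linear_combination (-1 / 4 : ℂ) * hw
    obtain ⟨e, he⟩ := H12.exists_int_of_isIntegral_rat (hq ▸ hwi)
    have h4 : vx χ + 3 * vy χ = 4 * e := by
      apply Int.cast_injective (α := ℚ)
      push_cast at he ⊢
      linear_combination (-4 : ℚ) * he
    exact ⟨e - vy χ, by linarith⟩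
  choose β hβ using hβex
  have hone : ∀ (v : IrrCharacter G → ℤ) (g : G), (∀ χ : IrrCharacter G, (χ : G → ℂ) g = v χ) →
      v (H12.oneIrr G) = 1 := fun v g hv => by
    have := hv (H12.oneIrr G)
    rw [H12.oneIrr_apply] at this
    exact_mod_cast this.symm
  have hoy : h.Out (L.x * L.t) := L.out_of_dvd (i := 1) (j := 1) (by simp [L.xt_order])
  -- norm three
  have hort : ∀ (g g' : G) (v v' : IrrCharacter G → ℤ) (N : ℕ), (∀ χ : IrrCharacter G, (χ : G → ℂ) g = v χ) →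
      (∀ χ : IrrCharacter G, (χ : G → ℂ) g' = v' χ) →
      (if IsConj g g' then (Nat.card (Subgroup.centralizer ({g} : Set G)) : ℂ) else 0) = N →
      ∑ χ, v χ * v' χ = N := by
    intro g g' v v' N hv hv' hN
    have h1 := H12.column_orthogonality g g'
    rw [hN] at h1
    simp only [hv, hv', map_intCast, ← Int.cast_mul] at h1
    rw [← Int.cast_sum] at h1
    exact_mod_cast h1
  have o1 := hort _ _ vx vx 36 hvx hvx (by rw [if_pos (IsConj.refl _), hx])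
  have o2 := hort _ _ vy vy 12 hvy hvy (by rw [if_pos (IsConj.refl _), hxt])
  have o3 := hort _ _ vx vy 0 hvx hvy (by
    rw [if_neg fun e => by have := H22.SC.Grp.orderOf_eq_of_isConj e; omega, Nat.cast_zero])
  have hnorm : ∑ χ, β χ ^ 2 = 3 := by
    have h1 : ∑ χ, 16 * β χ ^ 2 = ∑ χ, (vx χ * vx χ + vy χ * vy χ - 2 * (vx χ * vy χ)) :=
      Finset.sum_congr rfl fun χ _ => by
        linear_combination (-(4 * β χ + (vx χ - vy χ))) * hβ χ
    rw [← Finset.mul_sum, Finset.sum_sub_distrib, Finset.sum_add_distrib, ← Finset.mul_sum, o1, o2,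
      o3] at h1
    push_cast at h1
    linarith
  have hcard₁ := L.X.E₁.card_eq
  have hcard₂ := L.X.E₂.card_eq
  have hcard₃ := L.X.E₃.card_eq
  have hm₁ : L.X.E₁.m = 2 := by omega
  have hm₂ : 3 ≤ L.X.E₂.m := by omega
  have hm₃ : 3 ≤ L.X.E₃.m := by omega
  obtain ⟨hc₂, hc₃, hcl⟩ := sc_cross L.X hm₁ hm₂ hm₃
  have hμrel : ∀ (g : G) (v : IrrCharacter G → ℤ), h.Out g → (∀ χ : IrrCharacter G, (χ : G → ℂ) g = v χ) →
      ∀ t, L.X.E₁.eps * v (L.X.E₁.mu t) = 1 + L.X.s * v L.X.θ := by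
    intro g v hg hv t
    have h1 := L.X.rel₁ hg.1 t
    rw [hv, hv] at h1
    exact_mod_cast h1
  rcases hcl with ⟨hθ₂, hθ₃⟩ | ⟨hq, hp⟩
  swap
  · -- the mixed case
    let u₀ : Fin L.X.E₂.m := ⟨0, by omega⟩
    let w₀ : Fin L.X.E₃.m := ⟨0, by omega⟩
    have hβc : ∀ (B : Subgroup G) (E : H22.SC.Exc B 4), ¬ H22.SC.InA B L.x →
        ¬ H22.SC.InA B (L.x * L.t) → ∀ i j, β (E.mu i) = β (E.mu j) ∧
          ∑ χ, E.b χ * β χ + ((E.m : ℤ) * E.a - E.eps) * β (E.mu j) = 0 := by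
      intro B E h1 h2 i j
      have e1 := E.const _ h1 i j
      have e2 := E.const _ h2 i j
      rw [hvx, hvx] at e1
      rw [hvy, hvy] at e2
      have e1' : vx (E.mu i) = vx (E.mu j) := by exact_mod_cast e1
      have e2' : vy (E.mu i) = vy (E.mu j) := by exact_mod_cast e2
      refine ⟨by linarith [hβ (E.mu i), hβ (E.mu j)], ?_⟩
      have r1 := E.rel _ h1 j
      have r2 := E.rel _ h2 j
      simp only [hvx] at r1
      simp only [hvy] at r2
      have r1' : ∑ χ, E.b χ * vx χ + ((E.m : ℤ) * E.a - E.eps) * vx (E.mu j) = 0 := by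
        exact_mod_cast r1
      have r2' : ∑ χ, E.b χ * vy χ + ((E.m : ℤ) * E.a - E.eps) * vy (E.mu j) = 0 := by
        exact_mod_cast r2
      have h4 : ∑ χ, E.b χ * vx χ - ∑ χ, E.b χ * vy χ = 4 * ∑ χ, E.b χ * β χ := by
        rw [← Finset.sum_sub_distrib, Finset.mul_sum]
        exact Finset.sum_congr rfl fun χ _ => by linear_combination (E.b χ) * hβ χ
      linarith [show 4 * (((E.m : ℤ) * E.a - E.eps) * β (E.mu j)) =
        ((E.m : ℤ) * E.a - E.eps) * vx (E.mu j) - ((E.m : ℤ) * E.a - E.eps) * vy (E.mu j) by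
          linear_combination (-((E.m : ℤ) * E.a - E.eps)) * hβ (E.mu j)]
    obtain ⟨hR₂', hR₃', hrest⟩ := sc_beta_column L.X hm₁ hm₂ hm₃ β (β (L.X.E₂.mu u₀))
      (β (L.X.E₃.mu w₀))
      (by have := hβ (H12.oneIrr G); rw [hone vx _ hvx, hone vy _ hvy] at this; omega)
      (fun t => by
        have e1 := hμrel _ vx L.out_x hvx t
        have e2 := hμrel _ vy hoy hvy t
        have e3 : 4 * (L.X.E₁.eps * β (L.X.E₁.mu t)) = 4 * (L.X.s * β L.X.θ) := by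
          linear_combination e1 - e2 - L.X.E₁.eps * hβ (L.X.E₁.mu t) + L.X.s * hβ L.X.θ
        linarith)
      (fun v => (hβc A₂ L.X.E₂ L.out_x.2.1 hoy.2.1 v u₀).1)
      (fun w => (hβc A₃ L.X.E₃ L.out_x.2.2 hoy.2.2 w w₀).1)
      hc₂ hc₃ (hβc A₂ L.X.E₂ L.out_x.2.1 hoy.2.1 u₀ u₀).2
      (hβc A₃ L.X.E₃ L.out_x.2.2 hoy.2.2 w₀ w₀).2 hnorm
    have hS := L.X.extras_card
    have hW := sc_card_vanishing L.X
    rcases hp with hp | hp
    · exact sc_rest_kill L.X.namedᶜ L.X.E₂.b L.X.E₃.b β hp hq hS hW hR₂' hR₃' hrest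
    · exact sc_rest_kill L.X.namedᶜ L.X.E₃.b L.X.E₂.b β hp
        (by rw [← hq]; exact Finset.sum_congr rfl fun χ _ => mul_comm _ _)
        (by simpa only [or_comm] using hS) (by simpa only [or_comm] using hW) hR₃' hR₂' hrest
  -- the standard case
  obtain ⟨kk, hkk⟩ : n ∣ L.X.U + 1 := by
    have d2 := L.X.U_dvd L.X.E₂ h.d₂₁
    have d3 := L.X.U_dvd L.X.E₃ h.d₃₁
    rw [hθ₂, sub_neg_eq_add] at d2
    rw [hθ₃, sub_neg_eq_add] at d3
    exact IsCoprime.mul_dvd (Int.isCoprime_iff_gcd_eq_one.2 (by simpa using h.cop₂₃)) d2 d3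
  rw [mul_comm] at hkk
  have hkU : k = L.X.U * kk :=
    mul_right_cancel₀ (show n ≠ 0 by omega) (by rw [← hk, hkk]; ring)
  have hG : Nat.card G = 45 * 2 ^ (Nat.card G).factorization 2 * n.natAbs := by
    have h1 : (Nat.card G : ℤ) = 45 * Q * n := by
      rw [hM, Nat.cast_mul, hNN, hMz]; push_cast; ring
    rw [hQa] at h1
    have h2 := congrArg Int.natAbs h1
    simpa [Int.natAbs_mul, Int.natAbs_pow] using h2
  have h3U : 3 ≤ L.X.U.natAbs := by rw [L.X.U_natAbs]; exact L.X.deg_three L.hna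
  obtain ⟨hu0, hUQ, hkk1⟩ := sc_square_arith (U := L.X.U) (u := u) (kk := kk) (n := n) hn169 hkk
    (by rw [← hG, L.X.U_natAbs]; exact H12.irr_degree_dvd_card _)
    (by rw [← hG]; exact L.X.μ_deg_dvd)
    (by rw [← hQa, ← hkU]; exact hkey') (by rw [← hQa]; exact hu2)
    (by rw [← hQa]; linarith) h3U
  subst hu0
  -- the value at `x`
  set ux := L.X.s * vx L.X.θ with hux
  have hux3 : (3 : ℤ) ∣ L.X.U - ux := by
    rw [hux, H22.SC.Chars.U, ← mul_sub]; exact (hvx3 _).mul_left _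
  have hcol : 3 * ux ^ 2 + 4 * ux + 3 ≤ 36 := by
    have h1 := L.X.col_le L.x (({H12.oneIrr G, L.X.θ} : Finset (IrrCharacter G)) ∪
      Finset.univ.image L.X.E₁.mu) vx (fun χ _ => hvx χ)
    rw [Finset.sum_union, Finset.sum_pair L.X.θ_ne.symm, Finset.sum_image L.X.E₁.mu_inj.injOn,
      hone vx _ hvx, Finset.sum_congr rfl (g := fun _ => (1 + ux) ^ 2) (fun t _ => by
        rw [hux, ← hμrel _ vx L.out_x hvx t, mul_pow, show L.X.E₁.eps ^ 2 = 1 by
          rcases L.X.E₁.eps_cases with e | e <;> rw [e] <;> norm_num, one_mul]),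
      Finset.sum_const, Finset.card_univ, Fintype.card_fin, hm₁, hx] at h1
    · rw [show vx L.X.θ ^ 2 = ux ^ 2 by rw [hux, mul_pow, pow_two L.X.s, L.X.s_sq, one_mul]] at h1
      push_cast at h1
      simp only [nsmul_eq_mul, Nat.cast_ofNat] at h1
      linear_combination h1
    · simp only [Finset.disjoint_right, Finset.mem_image, Finset.mem_univ, true_and,
        forall_exists_index, forall_apply_eq_imp_iff, Finset.mem_insert, Finset.mem_singleton,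
        not_or]
      exact fun t => ⟨L.X.E₁.one_ne t, L.X.θ_not t⟩
  have hlo : -4 ≤ ux := by
    by_contra hc
    have hc' : ux ≤ -5 := by omega
    nlinarith only [hcol, hc']
  have hhi : ux ≤ 2 := by
    by_contra hc
    have hc' : 3 ≤ ux := by omega
    nlinarith only [hcol, hc']
  -- the counting equation at `t`, `x`
  obtain ⟨a, haA, ha1⟩ := L.X.E₁.exists_ne_one
  have h1 := L.X.classMult_formula L.out_t L.out_x haA ha1 (by omega)
  rw [ht, hx, hu, hM, hvx] at h1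
  set c : ℤ := ((H24.classMult L.t L.x a : ℕ) : ℤ) with hcdef
  have h2 : c * (3 * Q) * 36 * (L.X.U * (L.X.U + 1)) =
      5 * n * (9 * Q) * (L.X.U * (L.X.U - ux)) := by
    have hMz' : (M : ℂ) = (((9 * Q * ((1 : ℕ) : ℤ) : ℤ)) : ℂ) := by
      rw [← hMz, Int.cast_natCast]
    have hNN' : (h.NN : ℂ) = ((5 * n : ℤ) : ℂ) := by rw [← hNN, Int.cast_natCast]
    apply Int.cast_injective (α := ℂ)
    rw [Nat.cast_mul h.NN M, hMz', hNN'] at h1
    rw [hux, hcdef, hQ]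
    rw [hQ] at h1
    push_cast at h1 ⊢
    linear_combination h1
  rw [hk] at h2
  have hkey2 : 12 * c * k = 5 * (L.X.U * (L.X.U - ux)) :=
    mul_left_cancel₀ (show 9 * Q * n ≠ 0 by positivity) (by linear_combination h2)
  have hU4 : (4 : ℤ) ∣ L.X.U := by
    have h2a : 2 ≤ (Nat.card G).factorization 2 := by
      by_contra hc
      have h1 : L.X.U.natAbs ≤ 2 :=
        hUQ ▸ (Nat.pow_le_pow_right (by norm_num) (by omega : (Nat.card G).factorization 2 ≤ 1))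
      omega
    refine Int.natCast_dvd.2 ?_
    rw [hUQ]
    exact pow_dvd_pow 2 h2a
  have hfour : (4 : ℤ) ∣ ux := by
    rw [hkU] at hkey2
    have hU0 : L.X.U ≠ 0 := by omega
    have h4 : 12 * c * kk = 5 * (L.X.U - ux) := mul_left_cancel₀ hU0 (by linear_combination hkey2)
    have h5 : (4 : ℤ) ∣ 5 * (L.X.U - ux) := ⟨3 * c * kk, by rw [← h4]; ring⟩
    omega
  have hn3 : ¬ (3 : ℤ) ∣ n := by
    intro hd
    rcases Int.Prime.dvd_mul' Nat.prime_three hd with e | e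
    · exact L.r_not_dvd_n A₂ ((dvd_mul_left _ _).trans (dvd_mul_right _ _))
        (hr.symm ▸ Int.natCast_dvd_natCast.1 e)
    · exact L.r_not_dvd_n A₃ (dvd_mul_left _ _) (hr.symm ▸ Int.natCast_dvd_natCast.1 e)
  have hU3 : ¬ (3 : ℤ) ∣ L.X.U := by
    intro hd
    have h1 := Int.natCast_dvd.1 hd
    rw [hUQ] at h1
    exact absurd (Nat.prime_three.dvd_of_dvd_pow h1) (by norm_num)
  have hU1 : L.X.U % 3 = 1 := by
    rcases Int.natAbs_eq_iff.1 hkk1 with e | e <;> rw [e] at hkk <;> push_cast at hkk <;> omega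
  have hux01 : ux = -4 ∨ ux = 0 := by omega
  rcases hux01 with e | e <;> rw [e] at hux3 <;> omega

end H13
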