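import Cfsg.Agent.H22.SC.Sys
import Cfsg.Agent.H11.CIT.Class
import Cfsg.Agent.H64.SL2Spectrum
import Cfsg.Agent.H37.Card

/-!
A group with a system of three strongly self-centralising subgroups with normaliser indices 2, 4, 4
whose involution centralisers are 2-groups is a Suzuki group.
-/

set_option autoImplicit false
set_option linter.unusedSectionVars false
set_option linter.style.haveILetI false

namespace H13

open Subgroup

universe u

section

variable {G : Type u} [Group G] [Fintype G] {A₁ A₂ A₃ : Subgroup G}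

/-- A normaliser of index four of an odd strongly self-centralising subgroup has an element of
order four. -/
theorem sc_exists_order_four {A : Subgroup G} (hA : H22.SC.Ssc A)
    (hr : A.relIndex (normalizer (A : Set G)) = 4) (hodd : Nat.card A % 2 = 1)
    (hne : Nat.card A ≠ 1) : ∃ g : G, orderOf g = 4 := by
  classical
  haveI : Fact (Nat.Prime 2) := ⟨Nat.prime_two⟩
  set N := normalizer (A : Set G) with hN
  obtain ⟨⟨a, haA⟩, hne'⟩ :=
    @exists_ne A (Finite.one_lt_card_iff_nontrivial.1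
      (by have := Nat.card_pos (α := A); omega)) 1
  have ha1 : a ≠ 1 := fun e => hne' (Subtype.ext e)
  have hcard : Nat.card N = 4 * Nat.card A := by
    have h : (A.subgroupOf N).index = 4 := hr
    rw [← (A.subgroupOf N).card_mul_index,
      Nat.card_congr (subgroupOfEquivOfLe (le_normalizer : A ≤ N)).toEquiv, h, mul_comm]
  obtain ⟨T, hT⟩ := Sylow.exists_subgroup_card_pow_prime (G := N) 2 (n := 2)
    (by rw [hcard]; exact dvd_mul_right _ _)
  by_contra hno
  push Not at hno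
  have hTexp : ∀ x : T, x * x = 1 := by
    intro x
    have hd : orderOf x ∣ 2 ^ 2 := hT ▸ orderOf_dvd_natCard x
    obtain ⟨k, hk, e⟩ := (Nat.dvd_prime_pow Nat.prime_two).1 hd
    have h4 : orderOf x ≠ 4 := by
      have := hno ((x : N) : G)
      rwa [Subgroup.orderOf_coe, Subgroup.orderOf_coe] at this
    have : orderOf x ∣ 2 := by
      interval_cases k <;> simp_all
    rw [← pow_two]
    exact orderOf_dvd_iff_pow_eq_one.1 this
  have hT1 : ∀ x : T, x ≠ 1 → ((x : N) : G) ∉ A := by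
    intro x hx hmem
    have h2 : ((x : N) : G) * ((x : N) : G) = 1 :=
      congrArg (fun z : T => ((z : N) : G)) (hTexp x)
    have ho : orderOf (⟨_, hmem⟩ : A) ∣ 2 :=
      orderOf_dvd_of_pow_eq_one (Subtype.ext (by rw [pow_two]; exact h2))
    have h1 : orderOf (⟨_, hmem⟩ : A) = 1 := by
      rcases (Nat.dvd_prime Nat.prime_two).1 ho with h | h
      · exact h
      · exfalso
        have h5 : 2 ∣ Nat.card A := h ▸ orderOf_dvd_natCard (⟨_, hmem⟩ : A)
        omega
    have h3 : ((x : N) : G) = 1 := congrArg Subtype.val (orderOf_eq_one_iff.1 h1)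
    exact hx (Subtype.ext (Subtype.ext h3))
  have hinv : ∀ x : T, x ≠ 1 → ((x : N) : G) * a * ((x : N) : G) = a⁻¹ := by
    intro x hx
    set t : G := ((x : N) : G) with ht
    have htt : t * t = 1 := congrArg (fun z : T => ((z : N) : G)) (hTexp x)
    have hti : t⁻¹ = t := inv_eq_of_mul_eq_one_right htt
    have htA : t * a * t ∈ A := by
      have := (mem_normalizer_iff.1 (x : N).2 a).1 haA
      rwa [← ht, hti] at this
    have hb : t * (a * (t * a * t)) = a * (t * a * t) * t := by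
      calc t * (a * (t * a * t)) = (t * a * t) * a * t := by group
        _ = a * (t * a * t) * t := by rw [hA.comm htA haA]
    by_contra hc
    have hb1 : a * (t * a * t) ≠ 1 := fun e => hc (inv_eq_of_mul_eq_one_right e).symm
    apply hT1 x hx
    rw [← hA _ (mul_mem haA htA) hb1]
    exact mem_centralizer_singleton_iff.2 hb
  letI := Fintype.ofFinite T
  have hTc : 2 < Fintype.card T := by rw [← Nat.card_eq_fintype_card, hT]; norm_num
  obtain ⟨x, y, hx, hy, hxy⟩ : ∃ x y : T, x ≠ 1 ∧ y ≠ 1 ∧ x ≠ y := by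
    obtain ⟨p, q, r, hpq, hpr, hqr⟩ := Fintype.two_lt_card_iff.1 hTc
    by_cases hp : p = 1
    · exact ⟨q, r, fun e => hpq (hp.trans e.symm), fun e => hpr (hp.trans e.symm), hqr⟩
    · by_cases hq : q = 1
      · exact ⟨p, r, hp, fun e => hqr (hq.trans e.symm), hpr⟩
      · exact ⟨p, q, hp, hq, hpq⟩
  have hxy1 : x * y ≠ 1 := fun e => hxy (by
    calc x = x * (y * y) := by rw [hTexp y, mul_one]
      _ = y := by rw [← mul_assoc, e, one_mul])
  apply hT1 (x * y) hxy1
  rw [← hA a haA ha1, mem_centralizer_singleton_iff]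
  set t : G := ((x : N) : G)
  set s : G := ((y : N) : G)
  have htt : t * t = 1 := congrArg (fun z : T => ((z : N) : G)) (hTexp x)
  have hss : s * s = 1 := congrArg (fun z : T => ((z : N) : G)) (hTexp y)
  have e1 : s * a = a⁻¹ * s := by
    calc s * a = s * a * (s * s) := by rw [hss, mul_one]
      _ = a⁻¹ * s := by rw [← mul_assoc, hinv y hy]
  have e2 : t * a⁻¹ = a * t := by
    calc t * a⁻¹ = t * (t * a * t) := by rw [hinv x hx]
      _ = a * t := by rw [← mul_assoc, ← mul_assoc, htt, one_mul]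
  show ((x * y : T) : N).1 * a = a * ((x * y : T) : N).1
  show t * s * a = a * (t * s)
  rw [mul_assoc, e1, ← mul_assoc, e2, mul_assoc]

/-- Primes dividing two of the orders do not divide a common element order. -/
theorem sc_no_joint {A B : Subgroup G} (hA : H22.SC.Ssc A) (hB : H22.SC.Ssc B)
    (hd : ∀ g : G, H22.SC.InA A g → ¬ H22.SC.InA B g) {M : ℕ}
    (hM : ∀ m, m ∣ M → ∃ g : G, orderOf g = m) {a b : ℕ} (ha : a.Prime) (hb : b.Prime)
    (haA : a ∣ Nat.card A) (hbB : b ∣ Nat.card B) (haM : a ∣ M) (hbM : b ∣ M) : False := by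
  have hab : a ≠ b := by
    rintro rfl
    obtain ⟨g, hg⟩ := hM a haM
    exact hd g (H22.SC.inA_of_prime_dvd hA ha haA hg.symm.dvd)
      (H22.SC.inA_of_prime_dvd hB hb hbB hg.symm.dvd)
  obtain ⟨g, hg⟩ := hM (a * b)
    (((Nat.coprime_primes ha hb).2 hab).mul_dvd_of_dvd_of_dvd haM hbM)
  exact hd g (H22.SC.inA_of_prime_dvd hA ha haA (hg ▸ dvd_mul_right a b))
    (H22.SC.inA_of_prime_dvd hB hb hbB (hg ▸ dvd_mul_left b a))

theorem sc_NN_facts (h : H22.SC.Sys A₁ A₂ A₃) :
    405 ≤ h.NN ∧ h.NN % 2 = 1 ∧ h.NN ∣ Nat.card G ∧ Nat.card G ≤ 3 * h.NN ^ 2 := by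
  have h1 := h.n₁
  have h2 := h.nine₂
  have h3 := h.nine₃
  refine ⟨?_, ?_, h.coprime_index.1, ?_⟩
  · calc 405 = 5 * 9 * 9 := by norm_num
      _ ≤ _ := Nat.mul_le_mul (Nat.mul_le_mul h1 h2) h3
  · have e1 := h.odd₁
    have e2 := h.mod₂
    have e3 := h.mod₃
    have : Odd h.NN :=
      ((Nat.odd_iff.2 e1).mul (Nat.odd_iff.2 (by omega))).mul (Nat.odd_iff.2 (by omega))
    exact Nat.odd_iff.1 this
  · calc Nat.card G ≤ 3 * Nat.card A₁ ^ 2 * Nat.card A₂ ^ 2 * Nat.card A₃ ^ 2 := h.hord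
      _ = 3 * h.NN ^ 2 := by unfold H22.SC.Sys.NN; ring

/-- The order, odd part and element orders do not fit `PSL₂(q)`, `q` a Fermat or Mersenne
prime. -/
theorem sc_not_fermat (h : H22.SC.Sys A₁ A₂ A₃) {q o w k : ℕ} (hq : q.Prime) (hq2 : q ≠ 2)
    (hw : w = 2 ^ k) (ho : o ≤ q + 1) (hw' : o * w = (q - 1) * (q + 1))
    (hcard : 2 * Nat.card G = q * (o * w)) (heven : 2 ∣ o)
    (hsp : ∀ m, m ∣ o / 2 → ∃ g : G, orderOf g = m) : False := by
  obtain ⟨hNN, hodd, hdvd, hle⟩ := sc_NN_facts h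
  have hN2 : h.NN.Coprime 2 := Nat.coprime_two_right.2 (Nat.odd_iff.2 hodd)
  have hNw : h.NN.Coprime w := hw ▸ Nat.Coprime.pow_right _ hN2
  obtain ⟨c, rfl⟩ := heven
  rw [Nat.mul_div_cancel_left c two_pos] at hsp
  by_cases hqN : q ∣ h.NN
  · have key : ∀ (r : ℕ) (A : Subgroup G), Nat.card A ∣ h.NN → r.Prime → r ∣ Nat.card A →
        ¬ q ∣ Nat.card A → r ∣ c := by
      intro r A hA hr hrA hqA
      have hrG : r ∣ q * (2 * c * w) := hcard ▸ Dvd.dvd.mul_left
        (((hrA.trans hA).trans hdvd)) 2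
      have hrq : r ≠ q := by rintro rfl; exact hqA hrA
      have hr2 : r.Coprime 2 := hN2.coprime_dvd_left (hrA.trans hA)
      have hrw : r.Coprime w := hNw.coprime_dvd_left (hrA.trans hA)
      have h1 := ((Nat.coprime_primes hr hq).2 hrq).dvd_of_dvd_mul_left hrG
      exact hr2.dvd_of_dvd_mul_left (hrw.dvd_of_dvd_mul_right h1)
    have d1 : Nat.card A₁ ∣ h.NN := (dvd_mul_right _ _).trans (dvd_mul_right _ _)
    have d2 : Nat.card A₂ ∣ h.NN := (dvd_mul_left _ _).trans (dvd_mul_right _ _)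
    have d3 : Nat.card A₃ ∣ h.NN := dvd_mul_left _ _
    obtain ⟨r₁, hr₁, hr₁'⟩ := Nat.exists_prime_and_dvd
      (show Nat.card A₁ ≠ 1 by have := h.n₁; omega)
    obtain ⟨r₂, hr₂, hr₂'⟩ := Nat.exists_prime_and_dvd
      (show Nat.card A₂ ≠ 1 by have := h.n₂; omega)
    obtain ⟨r₃, hr₃, hr₃'⟩ := Nat.exists_prime_and_dvd
      (show Nat.card A₃ ≠ 1 by have := h.n₃; omega)
    by_cases e1 : q ∣ Nat.card A₁
    · have e2 : ¬ q ∣ Nat.card A₂ := fun e => hq.ne_one (Nat.eq_one_of_dvd_coprimes h.cop₁₂ e1 e)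
      have e3 : ¬ q ∣ Nat.card A₃ := fun e => hq.ne_one (Nat.eq_one_of_dvd_coprimes h.cop₁₃ e1 e)
      exact sc_no_joint h.s₂ h.s₃ h.disj₂₃ hsp hr₂ hr₃ hr₂' hr₃'
        (key _ A₂ d2 hr₂ hr₂' e2) (key _ A₃ d3 hr₃ hr₃' e3)
    · by_cases e2 : q ∣ Nat.card A₂
      · have e3 : ¬ q ∣ Nat.card A₃ := fun e => hq.ne_one (Nat.eq_one_of_dvd_coprimes h.cop₂₃ e2 e)
        exact sc_no_joint h.s₁ h.s₃ h.disj₁₃ hsp hr₁ hr₃ hr₁' hr₃'
          (key _ A₁ d1 hr₁ hr₁' e1) (key _ A₃ d3 hr₃ hr₃' e3)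
      · exact sc_no_joint h.s₁ h.s₂ h.disj₁₂ hsp hr₁ hr₂ hr₁' hr₂'
          (key _ A₁ d1 hr₁ hr₁' e1) (key _ A₂ d2 hr₂ hr₂' e2)
  · have h1 : h.NN ∣ q * (2 * c * w) := hcard ▸ Dvd.dvd.mul_left hdvd 2
    have h2 := ((hq.coprime_iff_not_dvd.2 hqN).symm).dvd_of_dvd_mul_left h1
    have h3 : h.NN ∣ c := hN2.dvd_of_dvd_mul_left (hNw.dvd_of_dvd_mul_right h2)
    have hc0 : c ≠ 0 := by
      rintro rfl
      have := Nat.card_pos (α := G)
      simp at hcard
    have h4 := Nat.le_of_dvd (Nat.pos_of_ne_zero hc0) h3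
    obtain ⟨j, rfl⟩ : ∃ j, q = j + 1 := ⟨q - 1, by have := hq.two_le; omega⟩
    rw [Nat.add_sub_cancel] at hw'
    rw [hw'] at hcard
    have h5 : (j + 2) * (2 * j * (j + 1)) ≤ (j + 2) * (3 * (j + 2)) := by
      calc (j + 2) * (2 * j * (j + 1)) = 4 * Nat.card G := by
            rw [show 4 * Nat.card G = 2 * (2 * Nat.card G) by ring, hcard]; ring
        _ ≤ 4 * (3 * h.NN ^ 2) := Nat.mul_le_mul_left _ hle
        _ ≤ 4 * (3 * c ^ 2) := Nat.mul_le_mul_left _
            (Nat.mul_le_mul_left _ (Nat.pow_le_pow_left h4 2))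
        _ = 3 * ((2 * c) * (2 * c)) := by ring
        _ ≤ 3 * ((j + 2) * (j + 2)) := Nat.mul_le_mul_left _ (Nat.mul_le_mul (by omega) (by omega))
        _ = (j + 2) * (3 * (j + 2)) := by ring
    have h6 := Nat.le_of_mul_le_mul_left h5 (by omega)
    have h7 : 2 * j * 800 ≤ 2 * j * (j + 1) := Nat.mul_le_mul_left _ (by omega)
    omega

theorem sc_final [IsSimpleGroup G] (h : H22.SC.Sys A₁ A₂ A₃) (hnc : ¬ IsMulCommutative G)
    (hcit : H11.CIT.IsCIT G) : Cfsg.Lie.IsoSuzuki G := by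
  classical
  obtain ⟨hNN, hodd, hdvd, hle⟩ := sc_NN_facts h
  have hN2 : h.NN.Coprime 2 := Nat.coprime_two_right.2 (Nat.odd_iff.2 hodd)
  rcases H11.CIT.citClass G hnc hcit with ⟨F, iF, iFt, hF, ⟨e⟩⟩ | ⟨F, iF, iFt, hF, ⟨e⟩⟩ | hs
  · have hG : Nat.card G = Nat.card (Matrix.ProjectiveSpecialLinearGroup (Fin 2) F) :=
      Nat.card_congr e.toEquiv
    have hpsl : Nat.gcd 2 (Fintype.card F - 1) * ((Fintype.card F - 1) * Nat.card G) =
        (Fintype.card F ^ 2 - 1) * (Fintype.card F ^ 2 - Fintype.card F) := by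
      have := H37.card_PSL_fin (F := F) 2 (by norm_num)
      rw [← hG, Fin.prod_univ_two, Nat.card_eq_fintype_card (α := F)] at this
      simpa using this
    have spec : ∀ (p : ℕ) [Fact p.Prime] [CharP F p] (m : ℕ), (∃ g : G, orderOf g = m) ↔
        (m ∣ p ∨ m ∣ (Fintype.card F - 1) / Nat.gcd 2 (Fintype.card F - 1) ∨
          m ∣ (Fintype.card F + 1) / Nat.gcd 2 (Fintype.card F - 1)) := by
      intro p _ _ m
      have hs := Set.ext_iff.1 (H64.psl2_spectrum (F := F) p) m
      simp only [Set.mem_range, Set.mem_ofPred_eq] at hs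
      rw [← hs]
      constructor
      · rintro ⟨g, rfl⟩
        exact ⟨e g, MulEquiv.orderOf_eq e g⟩
      · rintro ⟨g, rfl⟩
        exact ⟨e.symm g, MulEquiv.orderOf_eq e.symm g⟩
    rcases hF with h9 | ⟨n, hn⟩ | ⟨hp, k, hk⟩
    · exfalso
      rw [h9] at hpsl
      norm_num [-Nat.card_eq_fintype_card] at hpsl
      have : Nat.card G = 2 ^ 3 * 45 := by omega
      rw [this] at hdvd
      have := Nat.le_of_dvd (by norm_num) ((Nat.Coprime.pow_right 3 hN2).dvd_of_dvd_mul_left hdvd)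
      omega
    · exfalso
      haveI : Fact (Nat.Prime 2) := ⟨Nat.prime_two⟩
      have hn0 : n ≠ 0 := by
        rintro rfl
        have := Fintype.one_lt_card (α := F)
        omega
      haveI : CharP F 2 := charP_of_card_eq_prime_pow hn
      obtain ⟨g, hg⟩ := sc_exists_order_four h.s₂ h.r₂ (by have := h.mod₂; omega)
        (by have := h.n₂; omega)
      have hev : 2 ∣ Fintype.card F := hn ▸ dvd_pow_self 2 hn0
      have h1 : 1 < Fintype.card F := Fintype.one_lt_card
      have hd : Nat.gcd 2 (Fintype.card F - 1) = 1 :=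
        Nat.coprime_two_left.2 (by rw [Nat.odd_iff]; omega)
      rcases (spec 2 4).1 ⟨g, hg⟩ with h' | h' | h'
      · norm_num at h'
      · rw [hd, Nat.div_one] at h'
        have := (dvd_trans (by norm_num) h' : 2 ∣ Fintype.card F - 1)
        omega
      · rw [hd, Nat.div_one] at h'
        have := (dvd_trans (by norm_num) h' : 2 ∣ Fintype.card F + 1)
        omega
    · exfalso
      haveI : Fact (Fintype.card F).Prime := ⟨hp⟩
      haveI : CharP F (Fintype.card F) := charP_of_card_eq_prime rfl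
      set q := Fintype.card F with hq
      by_cases hq2 : q = 2
      · rw [hq2] at hpsl
        norm_num [-Nat.card_eq_fintype_card] at hpsl
        have := Nat.le_of_dvd Nat.card_pos hdvd
        omega
      have hqodd : Odd q := hp.odd_of_ne_two hq2
      have hd : Nat.gcd 2 (q - 1) = 2 :=
        Nat.gcd_eq_left (by have := Nat.odd_iff.1 hqodd; omega)
      have hcard : 2 * Nat.card G = q * ((q - 1) * (q + 1)) := by
        rw [hd] at hpsl
        obtain ⟨j, hj⟩ : ∃ j, q = j + 1 := ⟨q - 1, by have := hp.two_le; omega⟩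
        have hj0 : 0 < j := by have := hp.two_le; omega
        rw [hj, Nat.add_sub_cancel] at hpsl ⊢
        have e1 : (j + 1) ^ 2 - 1 = j * (j + 2) := by
          rw [show (j + 1) ^ 2 = j * (j + 2) + 1 by ring, Nat.add_sub_cancel]
        have e2 : (j + 1) ^ 2 - (j + 1) = (j + 1) * j := by
          rw [show (j + 1) ^ 2 = (j + 1) * j + (j + 1) by ring, Nat.add_sub_cancel]
        rw [e1, e2] at hpsl
        apply Nat.eq_of_mul_eq_mul_left hj0
        calc j * (2 * Nat.card G) = 2 * (j * Nat.card G) := by ring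
          _ = _ := by rw [hpsl]; ring
      rcases hk with hk | hk
      · have hw : q - 1 = 2 ^ k := by rw [hk, Nat.add_sub_cancel]
        refine sc_not_fermat h hp hq2 (o := q + 1) (w := q - 1) (k := k) hw le_rfl
          (mul_comm _ _) (by rw [hcard]; ring) (by have := Nat.odd_iff.1 hqodd; omega) fun m hm => ?_
        exact (spec q m).2 (Or.inr (Or.inr (by rw [hd]; exact hm)))
      · refine sc_not_fermat h hp hq2 (o := q - 1) (w := q + 1) (k := k) hk (by omega) rfl hcard
          (by have := Nat.odd_iff.1 hqodd; omega) fun m hm => ?_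
        exact (spec q m).2 (Or.inr (Or.inl (by rw [hd]; exact hm)))
  · exfalso
    have hG : Nat.card G = Nat.card (Matrix.ProjectiveSpecialLinearGroup (Fin 3) F) :=
      Nat.card_congr e.toEquiv
    have := H37.card_PSL_fin (F := F) 3 (by norm_num)
    rw [Nat.card_eq_fintype_card (α := F), hF, ← hG] at this
    norm_num [Fin.prod_univ_three, -Nat.card_eq_fintype_card] at this
    have h2 : Nat.card G = 2 ^ 6 * 315 := by omega
    rw [h2] at hdvd
    have := Nat.le_of_dvd (by norm_num) ((Nat.Coprime.pow_right 6 hN2).dvd_of_dvd_mul_left hdvd)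
    omega
  · exact hs

end

end H13
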