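import Mathlib.GroupTheory.Subgroup.Centralizer
import Mathlib.GroupTheory.Index
import Mathlib.GroupTheory.GroupAction.Quotient
import Mathlib.Tactic

namespace H13

variable {G : Type*} [Group G]

theorem ti_of_centralizer_eq (A : Subgroup G)
    (hA : ∀ x ∈ A, x ≠ 1 → Subgroup.centralizer ({x} : Set G) = A) (g : G)
    (hg : g ∉ Subgroup.normalizer (A : Set G)) (x : G) (hx : x ∈ A) (hgx : g * x * g⁻¹ ∈ A) :
    x = 1 := by
  by_contra h
  apply hg
  have h1 := hA x hx h
  have h2 := hA _ hgx (by simpa using h)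
  rw [Subgroup.mem_normalizer_iff]
  intro a
  conv_lhs => rw [← h1]
  conv_rhs => rw [← h2]
  rw [Subgroup.mem_centralizer_singleton_iff, Subgroup.mem_centralizer_singleton_iff]
  constructor
  · intro e
    calc g * a * g⁻¹ * (g * x * g⁻¹) = g * (a * x) * g⁻¹ := by group
      _ = g * (x * a) * g⁻¹ := by rw [e]
      _ = _ := by group
  · intro e
    calc a * x = g⁻¹ * (g * a * g⁻¹ * (g * x * g⁻¹)) * g := by group
      _ = g⁻¹ * (g * x * g⁻¹ * (g * a * g⁻¹)) * g := by rw [e]
      _ = x * a := by group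

/-- The normalizer of a self-centralizing TI subgroup has index dividing `|A| - 1`. -/
theorem normalizer_index_dvd_card_sub_one [Finite G] (A : Subgroup G)
    (hA : ∀ x ∈ A, x ≠ 1 → Subgroup.centralizer ({x} : Set G) = A) :
    (A.subgroupOf (Subgroup.normalizer (A : Set G))).index ∣ Nat.card A - 1 := by
  classical
  haveI := Fintype.ofFinite G
  let N := Subgroup.normalizer (A : Set G)
  let X := {a : G // a ∈ A ∧ a ≠ 1}
  letI act : MulAction N X :=
    { smul := fun n a => ⟨n.1 * a.1 * n.1⁻¹,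
        (Subgroup.mem_normalizer_iff.1 n.2 a.1).1 a.2.1, by simpa using a.2.2⟩
      one_smul := fun a => Subtype.ext (show (1 : G) * a.1 * 1⁻¹ = a.1 by simp)
      mul_smul := fun m n a => Subtype.ext
        (show (m.1 * n.1) * a.1 * (m.1 * n.1)⁻¹ = m.1 * (n.1 * a.1 * n.1⁻¹) * m.1⁻¹ by group) }
  have hst : ∀ a : X, MulAction.stabilizer N a = A.subgroupOf N := by
    intro a
    ext n
    rw [MulAction.mem_stabilizer_iff, Subgroup.mem_subgroupOf]
    conv_rhs => rw [← hA a.1 a.2.1 a.2.2]
    rw [Subgroup.mem_centralizer_singleton_iff]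
    constructor
    · intro h
      have h' : n.1 * a.1 * n.1⁻¹ = a.1 := congrArg Subtype.val h
      exact mul_inv_eq_iff_eq_mul.1 h'
    · intro h
      exact Subtype.ext (show n.1 * a.1 * n.1⁻¹ = a.1 by rw [h]; group)
  have hcard : Nat.card X = Nat.card A - 1 := by
    have e : X ≃ {a : A // a ≠ 1} :=
      { toFun := fun a => ⟨⟨a.1, a.2.1⟩, fun h => a.2.2 (congrArg Subtype.val h)⟩
        invFun := fun a => ⟨a.1.1, a.1.2, fun h => a.2 (Subtype.ext h)⟩
        left_inv := fun a => rfl
        right_inv := fun a => rfl }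
    rw [Nat.card_congr e, Nat.card_eq_fintype_card, Nat.card_eq_fintype_card,
      Fintype.card_subtype_compl]
    simp
  rw [← hcard, Nat.card_congr (MulAction.selfEquivSigmaOrbitsQuotientStabilizer N X), Nat.card_sigma]
  apply Finset.dvd_sum
  intro ω _
  rw [hst]
  exact dvd_rfl

end H13
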