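import Cfsg.Agent.H12.Orth
import Cfsg.Agent.H12.Transport
import Cfsg.Agent.H12.Linear
import Cfsg.Agent.H13.Linear
import Cfsg.Prelude.Def_Blocks
import Mathlib.GroupTheory.Transfer
import Mathlib.Analysis.InnerProductSpace.Basic

/-!
# Characters of small degree under uniform centralisers of a Sylow subgroup

Let `P` be a Sylow `p`-subgroup with `C(x) = C(P)` for all nontrivial `x` in `P`, `q = |P|`.
If the normal closure of `P` is `G`, then a nonprincipal irreducible character of degree `x`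
with `x² + 1 < q` is linear and `G` has a normal `p`-complement.

The proof uses only the norm of `e ψ + 1` on the trivial-intersection set `C \ V`.
-/

set_option autoImplicit false
set_option linter.unusedSectionVars false

open Cfsg
open scoped ComplexConjugate

namespace H13.UC

open scoped Classical

universe u

/-- Stabilisers all equal to `K` force the index of `K` to divide the size of the set. -/
theorem index_dvd_card_of_stabilizer {A : Type*} [Group A] {X : Type*} [Finite X]
    [MulAction A X] (K : Subgroup A) (h : ∀ x : X, MulAction.stabilizer A x = K) :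
    K.index ∣ Nat.card X := by
  classical
  haveI := Fintype.ofFinite (MulAction.orbitRel.Quotient A X)
  have e := MulAction.selfEquivSigmaOrbitsQuotientStabilizer A X
  haveI : ∀ ω : MulAction.orbitRel.Quotient A X,
      Finite (A ⧸ MulAction.stabilizer A ω.out) := fun ω =>
    Finite.of_injective (fun a => e.symm ⟨ω, a⟩) fun a b hab => by simpa using hab
  rw [Nat.card_congr e, Nat.card_sigma]
  refine Finset.dvd_sum fun ω _ => ?_
  rw [h]
  rfl

/-- A weighted Cauchy–Schwarz inequality. -/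
theorem normSq_sum_le {ι : Type*} (s : Finset ι) (a : ι → ℂ) (w : ι → ℝ)
    (hw : ∀ i ∈ s, 0 < w i) :
    Complex.normSq (∑ i ∈ s, a i) ≤ (∑ i ∈ s, w i) * ∑ i ∈ s, Complex.normSq (a i) / w i := by
  rcases s.eq_empty_or_nonempty with rfl | hs
  · simp
  have hW : 0 < ∑ i ∈ s, w i := Finset.sum_pos hw hs
  have h1 := Finset.sq_sum_div_le_sum_sq_div s (fun i => ‖a i‖) hw
  rw [div_le_iff₀ hW] at h1
  simp only [Complex.normSq_eq_norm_sq]
  calc ‖∑ i ∈ s, a i‖ ^ 2 ≤ (∑ i ∈ s, ‖a i‖) ^ 2 := by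
        gcongr
        exact norm_sum_le _ _
    _ ≤ _ := by rw [mul_comm]; exact h1

/-- The final numerical contradiction. -/
theorem numeric {e r q : ℝ} (he : 1 ≤ e) (hq : e ^ 2 + e + 1 ≤ q) (h1 : e ≤ r)
    (h2 : r ≤ q - 1 - 2 * e) :
    q * (e * (e ^ 2 + 1)) ≤ q * ((e + 1) ^ 2 + e ^ 2 * r) - (e + 1 + r * e) ^ 2 := by
  let L : ℝ → ℝ := fun t =>
    q * ((e + 1) ^ 2 + e ^ 2 * t) - (e + 1 + t * e) ^ 2 - q * (e * (e ^ 2 + 1))
      - e ^ 2 * (t - e) * (q - 1 - 2 * e - t)
  have hlo : 0 ≤ L e := by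
    have : L e = (q - (e ^ 2 + e + 1)) * (e ^ 2 + e + 1) := by simp only [L]; ring
    rw [this]
    exact mul_nonneg (by linarith) (by nlinarith)
  have hhi : 0 ≤ L (q - 1 - 2 * e) := by
    have : L (q - 1 - 2 * e) = (e ^ 3 - e + 1) * q - (2 * e ^ 2 - 1) ^ 2 := by
      simp only [L]; ring
    rw [this]
    have hc : 0 ≤ e ^ 3 - e + 1 := by nlinarith
    have h3 : 0 ≤ (e + 1) * (e - 2) ^ 2 := mul_nonneg (by linarith) (sq_nonneg _)
    have h4 : (2 * e ^ 2 - 1) ^ 2 ≤ (e ^ 3 - e + 1) * (e ^ 2 + e + 1) := by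
      have : (e ^ 3 - e + 1) * (e ^ 2 + e + 1) - (2 * e ^ 2 - 1) ^ 2
          = e ^ 2 * ((e + 1) * (e - 2) ^ 2) := by ring
      nlinarith [mul_nonneg (sq_nonneg e) h3]
    nlinarith [mul_le_mul_of_nonneg_left hq hc]
  have hL : 0 ≤ L r := by
    rcases eq_or_lt_of_le (h1.trans h2) with h | h
    · have : r = e := le_antisymm (h2.trans_eq h.symm) h1
      rw [this]; exact hlo
    · have : (q - 1 - 2 * e - e) * L r
          = (q - 1 - 2 * e - r) * L e + (r - e) * L (q - 1 - 2 * e) := by
        simp only [L]; ring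
      have hpos : 0 ≤ (q - 1 - 2 * e - e) * L r := by
        rw [this]
        exact add_nonneg (mul_nonneg (by linarith) hlo) (mul_nonneg (by linarith) hhi)
      exact (mul_nonneg_iff_of_pos_left (by linarith)).1 hpos
  have h5 : 0 ≤ e ^ 2 * (r - e) * (q - 1 - 2 * e - r) :=
    mul_nonneg (mul_nonneg (sq_nonneg e) (by linarith)) (by linarith)
  simp only [L] at hL
  linarith

/-- The numerical contradiction in the form used below. -/
theorem contra {e r q X A : ℝ} (he : 1 ≤ e) (hq : e ^ 2 + e + 1 ≤ q) (h1 : e ≤ r)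
    (h2 : r ≤ q - 1 - 2 * e) (hX : (e + 1) ^ 2 ≤ X) (hA : e ^ 2 * r ≤ A)
    (hlt : q * (X + A) - (e + 1 + r * e) / e * (X * e / (e + 1) + A) < q * e * (e ^ 2 + 1)) :
    False := by
  have he0 : 0 < e := by linarith
  have he2 : 0 < e + 1 := by linarith
  have hre : r * e ≤ (q - 1 - 2 * e) * e := mul_le_mul_of_nonneg_right h2 he0.le
  have c1 : (e + 1 + r * e) / (e + 1) ≤ q := by
    rw [div_le_iff₀ he2]; nlinarith
  have c2 : (e + 1 + r * e) / e ≤ q := by
    rw [div_le_iff₀ he0]; nlinarith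
  have m1 := mul_le_mul_of_nonneg_left hX (sub_nonneg.2 c1)
  have m2 := mul_le_mul_of_nonneg_left hA (sub_nonneg.2 c2)
  have hfin := numeric he hq h1 h2
  have e0 : (e + 1 + r * e) / e * (X * e / (e + 1) + A)
      = (e + 1 + r * e) / (e + 1) * X + (e + 1 + r * e) / e * A := by
    field_simp
  have e1 : (e + 1 + r * e) / (e + 1) * (e + 1) ^ 2 + (e + 1 + r * e) / e * (e ^ 2 * r)
      = (e + 1 + r * e) ^ 2 := by
    field_simp
  rw [e0] at hlt
  linarith

variable {G : Type u} [Group G] [Fintype G] {p : ℕ} [Fact p.Prime]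

/-- Every nontrivial element of the Sylow subgroup has the same centraliser as the subgroup. -/
def Uniform (P : Sylow p G) : Prop :=
  ∀ x ∈ (P : Subgroup G), x ≠ 1 →
    Subgroup.centralizer ({x} : Set G) = Subgroup.centralizer ((P : Subgroup G) : Set G)

variable (P : Sylow p G)

local notation "PP" => (P : Subgroup G)
local notation "CC" => Subgroup.centralizer ((P : Subgroup G) : Set G)
local notation "NN" => Subgroup.normalizer ((P : Subgroup G) : Set G)

/-- The index of the centraliser in the normaliser. -/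
noncomputable def eIdx : ℕ := (CC).relIndex NN

/-- The order of the `p'`-part of the centraliser. -/
noncomputable def mIdx : ℕ := (PP).relIndex CC

variable {P}

theorem le_cent (hU : Uniform P) : PP ≤ CC := by
  intro x hx
  by_cases h1 : x = 1
  · subst h1; exact one_mem _
  · rw [← hU x hx h1]
    exact Subgroup.mem_centralizer_singleton_iff.2 rfl

theorem comm_mem (hU : Uniform P) {x c : G} (hx : x ∈ PP) (hc : c ∈ CC) : x * c = c * x :=
  Subgroup.mem_centralizer_iff.1 hc x hx

theorem cent_le_normalizer : CC ≤ NN := by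
  intro c hc
  rw [Subgroup.mem_normalizer_iff]
  intro h
  constructor
  · intro hh
    have e1 : c * h * c⁻¹ = h := by
      rw [← Subgroup.mem_centralizer_iff.1 hc h hh]; group
    rw [e1]; exact hh
  · intro hh
    have e1 : c⁻¹ * (c * h * c⁻¹) * c = c * h * c⁻¹ := by
      have := Subgroup.mem_centralizer_iff.1 (inv_mem hc) _ hh
      rw [← this]; group
    have e2 : h = c * h * c⁻¹ := by
      conv_lhs => rw [show h = c⁻¹ * (c * h * c⁻¹) * c by group]
      exact e1
    rw [e2]; exact hh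

theorem mIdx_pos : 0 < mIdx P := Nat.pos_of_ne_zero Subgroup.index_ne_zero_of_finite

theorem card_cent (hU : Uniform P) : Nat.card CC = Nat.card PP * mIdx P := by
  rw [mIdx, Subgroup.relIndex, ← Subgroup.card_mul_index ((PP).subgroupOf CC),
    Nat.card_congr (Subgroup.subgroupOfEquivOfLe (le_cent hU)).toEquiv]

theorem card_norm : Nat.card NN = Nat.card CC * eIdx P := by
  rw [eIdx, Subgroup.relIndex, ← Subgroup.card_mul_index ((CC).subgroupOf NN),
    Nat.card_congr (Subgroup.subgroupOfEquivOfLe cent_le_normalizer).toEquiv]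

theorem eIdx_pos : 0 < eIdx P := Nat.pos_of_ne_zero Subgroup.index_ne_zero_of_finite

theorem coprime_mIdx (hU : Uniform P) : (Nat.card PP).Coprime (mIdx P) := by
  obtain ⟨k, hk⟩ := P.2.exists_card_eq
  rw [hk]
  refine Nat.Coprime.pow_left k ((Nat.Prime.coprime_iff_not_dvd Fact.out).2 fun h => ?_)
  exact P.not_dvd_index (h.trans (Subgroup.relIndex_dvd_index_of_le (le_cent hU)))

theorem pow_mem_sylow (hU : Uniform P) {c : G} (hc : c ∈ CC) : c ^ mIdx P ∈ PP := by
  haveI : ((PP).subgroupOf CC).Normal := ⟨fun x hx g => by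
    rw [Subgroup.mem_subgroupOf] at hx ⊢
    have : (g : G) * (x : G) * (g : G)⁻¹ = (x : G) := by
      rw [← comm_mem hU hx g.2]; group
    simpa [this] using hx⟩
  exact Subgroup.mem_subgroupOf.1 (Subgroup.pow_index_mem ((PP).subgroupOf CC) ⟨c, hc⟩)

theorem pow_injOn (hU : Uniform P) {a b : G} (ha : a ∈ PP) (hb : b ∈ PP)
    (h : a ^ mIdx P = b ^ mIdx P) : a = b := by
  have := (powCoprime (coprime_mIdx hU)).injective (a₁ := (⟨a, ha⟩ : PP)) (a₂ := ⟨b, hb⟩)
    (Subtype.ext (by simpa [powCoprime] using h))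
  exact congrArg Subtype.val this

theorem exists_root (hU : Uniform P) {w : G} (hw : w ∈ PP) :
    ∃ u ∈ PP, u ^ mIdx P = w := by
  obtain ⟨u, hu⟩ := (powCoprime (coprime_mIdx hU)).surjective (⟨w, hw⟩ : PP)
  exact ⟨u, u.2, by simpa [powCoprime] using congrArg Subtype.val hu⟩

theorem mem_normalizer_of_conj (hU : Uniform P) {g c : G} (hc : c ∈ CC)
    (hd : g * c * g⁻¹ ∈ CC) (hne : c ^ mIdx P ≠ 1) : g ∈ NN := by
  have h1 := hU _ (pow_mem_sylow hU hc) hne
  have hne' : (g * c * g⁻¹) ^ mIdx P ≠ 1 := by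
    rw [conj_pow]; simpa using hne
  have h2 := hU _ (pow_mem_sylow hU hd) hne'
  have key : ∀ x ∈ PP, g * x * g⁻¹ ∈ PP := by
    intro x hx
    obtain ⟨y, hy, rfl⟩ := exists_root hU hx
    rw [← conj_pow]
    refine pow_mem_sylow hU ?_
    have hy' : y ∈ Subgroup.centralizer ({c ^ mIdx P} : Set G) := h1 ▸ le_cent hU hy
    rw [← h2, Subgroup.mem_centralizer_singleton_iff, conj_pow]
    rw [Subgroup.mem_centralizer_singleton_iff] at hy'
    calc g * y * g⁻¹ * (g * c ^ mIdx P * g⁻¹) = g * (y * c ^ mIdx P) * g⁻¹ := by group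
      _ = g * (c ^ mIdx P * y) * g⁻¹ := by rw [hy']
      _ = g * c ^ mIdx P * g⁻¹ * (g * y * g⁻¹) := by group
  rw [Subgroup.mem_normalizer_iff]
  intro h
  refine ⟨key h, fun hh => ?_⟩
  have hsurj : Function.Surjective (fun x : PP => (⟨g * x * g⁻¹, key x x.2⟩ : PP)) :=
    Finite.injective_iff_surjective.1 fun a b hab => by
      have := congrArg Subtype.val hab
      simpa using this
  obtain ⟨x, hx⟩ := hsurj ⟨_, hh⟩
  have hx' : g * (x : G) * g⁻¹ = g * h * g⁻¹ := congrArg Subtype.val hx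
  have : (x : G) = h := by simpa using hx'
  exact this ▸ x.2

/-! ### Linear characters of `P` carried by the irreducible characters of `C` -/

/-- A unitary multiplicative function on `P`. -/
def IsLam (l : PP → ℂ) : Prop := (∀ a b, l (a * b) = l a * l b) ∧ ∀ a, Complex.normSq (l a) = 1

/-- An element of `P` inside the centraliser. -/
def inC (hU : Uniform P) (u : PP) : CC := ⟨u, le_cent hU u.2⟩

theorem inC_comm (hU : Uniform P) (u : PP) (c : CC) : inC hU u * c = c * inC hU u :=
  Subtype.ext (comm_mem hU u.2 c.2)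

theorem inC_mul (hU : Uniform P) (a b : PP) : inC hU (a * b) = inC hU a * inC hU b := rfl

theorem inC_one (hU : Uniform P) : inC hU (1 : PP) = 1 := rfl

/-- The central character on `P` of an irreducible character of `C`. -/
noncomputable def lam (hU : Uniform P) (φ : IrrCharacter CC) : PP → ℂ :=
  fun u => (φ : CC → ℂ) (inC hU u) / (φ : CC → ℂ) 1

theorem lam_mul_apply (hU : Uniform P) (φ : IrrCharacter CC) (u : PP) (c : CC) :
    (φ : CC → ℂ) (inC hU u * c) = lam hU φ u * (φ : CC → ℂ) c := by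
  obtain ⟨n, ρ, hρ, h⟩ := φ.2
  haveI := hρ
  obtain ⟨ω, hω⟩ := H12.exists_scalar_of_commute ρ (ρ (inC hU u)) (fun g => by
    rw [← map_mul, ← map_mul, inC_comm hU u g])
  have h1 : ∀ c : CC, (φ : CC → ℂ) (inC hU u * c) = ω * (φ : CC → ℂ) c := by
    intro c
    rw [← h]
    simp [Representation.character, map_mul, hω]
  have h2 : lam hU φ u = ω := by
    have e := h1 1
    rw [mul_one] at e
    rw [lam, e, mul_div_assoc, div_self (H12.irr_apply_one_ne_zero φ), mul_one]
  rw [h2]; exact h1 c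

theorem lam_one (hU : Uniform P) (φ : IrrCharacter CC) : lam hU φ 1 = 1 := by
  rw [lam, inC_one]; exact div_self (H12.irr_apply_one_ne_zero φ)

theorem lam_isLam (hU : Uniform P) (φ : IrrCharacter CC) : IsLam (lam hU φ) := by
  have hm : ∀ a b : PP, lam hU φ (a * b) = lam hU φ a * lam hU φ b := by
    intro a b
    rw [lam, inC_mul, lam_mul_apply, mul_div_assoc]
    rfl
  refine ⟨hm, fun a => ?_⟩
  let f : PP →* ℂ := ⟨⟨lam hU φ, lam_one hU φ⟩, hm⟩
  have hp : lam hU φ a ^ orderOf a = 1 := by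
    show f a ^ orderOf a = 1
    rw [← map_pow, pow_orderOf_eq_one, map_one]
  rw [Complex.normSq_eq_norm_sq, H12.norm_eq_one_of_pow_eq_one (orderOf_pos a).ne' hp, one_pow]

theorem lam_oneIrr (hU : Uniform P) : lam hU (H12.oneIrr CC) = fun _ => 1 := by
  funext u; simp [lam, H12.oneIrr_apply]

theorem isLam_one : IsLam (P := P) (fun _ => (1 : ℂ)) := by simp [IsLam]

open scoped Classical in
theorem lam_orth {l l' : PP → ℂ} (hl : IsLam l) (hl' : IsLam l') :
    ∑ u : PP, l u * conj (l' u) = if l = l' then (Nat.card PP : ℂ) else 0 := by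
  split_ifs with h
  · subst h
    simp [Complex.mul_conj, hl.2, Nat.card_eq_fintype_card]
  · obtain ⟨a, ha⟩ := Function.ne_iff.1 h
    have key : ∑ u : PP, l u * conj (l' u)
        = (l a * conj (l' a)) * ∑ u : PP, l u * conj (l' u) := by
      rw [Finset.mul_sum]
      refine Fintype.sum_equiv (Equiv.mulLeft a⁻¹) _ _ fun u => ?_
      show l u * conj (l' u) = l a * conj (l' a) * (l (a⁻¹ * u) * conj (l' (a⁻¹ * u)))
      have e1 : l a * l (a⁻¹ * u) = l u := by rw [← hl.1, mul_inv_cancel_left]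
      have e2 : l' a * l' (a⁻¹ * u) = l' u := by rw [← hl'.1, mul_inv_cancel_left]
      rw [← e1, ← e2, map_mul]; ring
    have hne : l a * conj (l' a) ≠ 1 := by
      intro h1
      apply ha
      have h2 : conj (l' a) * l' a = 1 := by
        rw [mul_comm, Complex.mul_conj, hl'.2]; simp
      calc l a = l a * (conj (l' a) * l' a) := by rw [h2, mul_one]
        _ = l' a := by rw [← mul_assoc, h1, one_mul]
    by_contra h0
    exact hne (mul_right_cancel₀ h0 (key.symm.trans (one_mul _).symm))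

/-- The restriction to `C`. -/
def resC (f : G → ℂ) : CC → ℂ := fun c => f c

/-- The multiplicity of `φ` in the restriction of a character. -/
noncomputable def mult (f : G → ℂ) (φ : IrrCharacter CC) : ℕ :=
  ⌊(classInner (resC (P := P) f) (φ : CC → ℂ)).re⌋₊

theorem classInner_resC {f : G → ℂ} (hf : IsCharacter G f) (φ : IrrCharacter CC) :
    classInner (resC (P := P) f) (φ : CC → ℂ) = (mult f φ : ℂ) := by
  obtain ⟨k, hk⟩ := H12.IsCharacter.classInner_nat
    (H12.IsCharacter.res hf CC) (H12.isCharacter_irr φ)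
  have hk' : classInner (resC (P := P) f) (φ : CC → ℂ) = (k : ℂ) := hk
  rw [mult, hk']; simp

theorem resC_eq_sum {f : G → ℂ} (hf : IsCharacter G f) (c : CC) :
    f c = ∑ φ : IrrCharacter CC, (mult f φ : ℂ) * (φ : CC → ℂ) c := by
  have := H12.classFunction_apply_eq_sum
    (H12.IsCharacter.isClassFunction (H12.IsCharacter.res hf CC)) c
  rw [this]
  refine Finset.sum_congr rfl fun φ _ => ?_
  rw [← classInner_resC hf φ]
  rfl

open scoped Classical in
/-- The nontrivial characters of `P` occurring in `f`. -/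
noncomputable def occ (hU : Uniform P) (f : G → ℂ) : Finset (PP → ℂ) :=
  ((Finset.univ.filter fun φ : IrrCharacter CC => mult f φ ≠ 0).image (lam hU)).erase fun _ => 1

theorem mem_occ {hU : Uniform P} {f : G → ℂ} {l : PP → ℂ} :
    l ∈ occ hU f ↔ l ≠ (fun _ => 1) ∧ ∃ φ, mult f φ ≠ 0 ∧ lam hU φ = l := by
  classical
  simp [occ]

open scoped Classical in
/-- The multiplicity of a character `l` of `P` in `f`. -/
noncomputable def aMult (hU : Uniform P) (f : G → ℂ) (l : PP → ℂ) : ℕ :=
  ∑ φ ∈ Finset.univ.filter (fun φ : IrrCharacter CC => lam hU φ = l),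
    mult f φ * H12.degree (φ : CC → ℂ)

theorem apply_eq_sum (hU : Uniform P) {f : G → ℂ} (hf : IsCharacter G f) (u : PP) :
    f u = ∑ φ : IrrCharacter CC,
      ((mult f φ * H12.degree (φ : CC → ℂ) : ℕ) : ℂ) * lam hU φ u := by
  have := resC_eq_sum hf (inC hU u)
  rw [show ((inC hU u : CC) : G) = (u : G) from rfl] at this
  rw [this]
  refine Finset.sum_congr rfl fun φ _ => ?_
  have h1 := lam_mul_apply hU φ u 1
  rw [mul_one] at h1
  rw [h1, H12.irr_apply_one φ]
  push_cast; ring

theorem sum_mul_conj_lam (hU : Uniform P) {f : G → ℂ} (hf : IsCharacter G f) {l : PP → ℂ}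
    (hl : IsLam l) :
    ∑ u : PP, f u * conj (l u) = (Nat.card PP : ℂ) * (aMult hU f l : ℂ) := by
  classical
  calc ∑ u : PP, f u * conj (l u)
      = ∑ φ : IrrCharacter CC, ((mult f φ * H12.degree (φ : CC → ℂ) : ℕ) : ℂ) *
          ∑ u : PP, lam hU φ u * conj (l u) := by
        simp only [apply_eq_sum hU hf, Finset.sum_mul, Finset.mul_sum]
        rw [Finset.sum_comm]
        simp only [mul_assoc]
    _ = _ := by
        simp only [lam_orth (lam_isLam hU _) hl, mul_ite, mul_zero, aMult, Nat.cast_sum,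
          Finset.mul_sum, Finset.sum_filter]
        exact Finset.sum_congr rfl fun φ _ => by split_ifs <;> ring

theorem aMult_pos_of_mem (hU : Uniform P) {f : G → ℂ} {l : PP → ℂ} (h : l ∈ occ hU f) :
    1 ≤ aMult hU f l := by
  classical
  obtain ⟨-, φ, hm, hl⟩ := mem_occ.1 h
  refine le_trans ?_ (Finset.single_le_sum (fun _ _ => Nat.zero_le _)
    (Finset.mem_filter.2 ⟨Finset.mem_univ φ, hl⟩))
  exact Nat.one_le_iff_ne_zero.2 (mul_ne_zero hm (H12.irr_degree_pos φ).ne')

theorem isLam_of_mem_occ (hU : Uniform P) {f : G → ℂ} {l : PP → ℂ} (h : l ∈ occ hU f) :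
    IsLam l := by
  obtain ⟨-, φ, -, rfl⟩ := mem_occ.1 h
  exact lam_isLam hU φ

theorem mem_occ_of_sum_ne_zero (hU : Uniform P) {f : G → ℂ} (hf : IsCharacter G f) {l : PP → ℂ}
    (hl : IsLam l) (h1 : l ≠ fun _ => 1) (h : ∑ u : PP, f u * conj (l u) ≠ 0) :
    l ∈ occ hU f := by
  classical
  rw [sum_mul_conj_lam hU hf hl] at h
  have h' : aMult hU f l ≠ 0 := fun h0 => h (by simp [h0])
  obtain ⟨φ, hφ, hne⟩ := Finset.exists_ne_zero_of_sum_ne_zero h'
  exact mem_occ.2 ⟨h1, φ, fun h0 => hne (by simp [h0]), (Finset.mem_filter.1 hφ).2⟩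

/-! ### The normaliser acts semiregularly -/

theorem conjP_mem (n : NN) (x : PP) : (n : G) * (x : G) * (n : G)⁻¹ ∈ PP :=
  (Subgroup.mem_normalizer_iff.1 n.2 x).1 x.2

/-- Conjugation on `P` by an element of the normaliser. -/
def cjP (n : NN) (x : PP) : PP := ⟨(n : G) * (x : G) * (n : G)⁻¹, conjP_mem n x⟩

theorem cjP_one (x : PP) : cjP (1 : NN) x = x := Subtype.ext (by simp [cjP])

theorem cjP_mul (a b : NN) (x : PP) : cjP (a * b) x = cjP a (cjP b x) :=
  Subtype.ext (by simp [cjP, mul_assoc])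

theorem cjP_map_mul (n : NN) (x y : PP) : cjP n (x * y) = cjP n x * cjP n y :=
  Subtype.ext (by simp [cjP, mul_assoc])

theorem cjP_map_one (n : NN) : cjP n (1 : PP) = 1 := Subtype.ext (by simp [cjP])

theorem cjP_of_mem (hU : Uniform P) {n : NN} (hn : (n : G) ∈ CC) (x : PP) : cjP n x = x := by
  refine Subtype.ext ?_
  show (n : G) * (x : G) * (n : G)⁻¹ = x
  rw [← comm_mem hU x.2 hn]; group

theorem cjP_fix (hU : Uniform P) {n : NN} {x : PP} (hx : x ≠ 1) (h : cjP n x = x) :
    (n : G) ∈ CC := by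
  have hx' : (x : G) ≠ 1 := fun h0 => hx (Subtype.ext h0)
  rw [← hU _ x.2 hx', Subgroup.mem_centralizer_singleton_iff]
  have h' : (n : G) * (x : G) * (n : G)⁻¹ = x := congrArg Subtype.val h
  calc (n : G) * x = (n : G) * x * (n : G)⁻¹ * n := by group
    _ = x * n := by rw [h']

theorem lam_fix (hU : Uniform P) {n : NN} {l : PP → ℂ} (hl : IsLam l) (h1 : l ≠ fun _ => 1)
    (h : ∀ x, l (cjP n x) = l x) : (n : G) ∈ CC := by
  by_contra hn
  apply h1
  let f : PP → PP := fun x => x⁻¹ * cjP n x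
  have hinj : Function.Injective f := by
    intro a b hab
    have hab' : a⁻¹ * cjP n a = b⁻¹ * cjP n b := hab
    by_contra hne
    refine hn (cjP_fix hU (x := a * b⁻¹) (fun h0 => hne (mul_inv_eq_one.1 h0)) ?_)
    have hbb : cjP n b⁻¹ = (cjP n b)⁻¹ := eq_inv_of_mul_eq_one_left
      (by rw [← cjP_map_mul, inv_mul_cancel, cjP_map_one])
    rw [cjP_map_mul, hbb]
    rw [inv_mul_eq_iff_eq_mul] at hab'
    rw [hab']; group
  funext k
  obtain ⟨a, rfl⟩ := (Finite.injective_iff_surjective.1 hinj) k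
  show l (a⁻¹ * cjP n a) = 1
  rw [hl.1, h a, ← hl.1, inv_mul_cancel]
  have h11 : l 1 * l 1 = l 1 * 1 := by rw [← hl.1, one_mul, mul_one]
  refine mul_left_cancel₀ (fun h0 => ?_) h11
  have := hl.2 1
  simp [h0] at this

theorem eIdx_dvd_card_sub_one (hU : Uniform P) : eIdx P ∣ Nat.card PP - 1 := by
  classical
  letI : MulAction NN {x : PP // x ≠ 1} :=
    { smul := fun n x => ⟨cjP n x.1, fun h => x.2 (by
        have := congrArg (cjP n⁻¹) h
        rwa [← cjP_mul, inv_mul_cancel, cjP_one, cjP_map_one] at this)⟩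
      one_smul := fun x => Subtype.ext (cjP_one x.1)
      mul_smul := fun a b x => Subtype.ext (cjP_mul a b x.1) }
  have := index_dvd_card_of_stabilizer (X := {x : PP // x ≠ 1}) ((CC).subgroupOf NN) (fun x => by
    ext n
    rw [MulAction.mem_stabilizer_iff, Subgroup.mem_subgroupOf]
    exact ⟨fun h => cjP_fix hU x.2 (congrArg Subtype.val h),
      fun h => Subtype.ext (cjP_of_mem hU h x.1)⟩)
  have hc : Nat.card {x : PP // x ≠ 1} = Nat.card PP - 1 := by
    simp [Nat.card_eq_fintype_card, Fintype.card_subtype_compl]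
  rw [hc] at this
  exact this

theorem eIdx_dvd_card_occ (hU : Uniform P) {f : G → ℂ} (hf : IsCharacter G f) :
    eIdx P ∣ (occ hU f).card := by
  classical
  have hcl := H12.IsCharacter.isClassFunction hf
  have stab : ∀ (n : NN) (l : PP → ℂ), l ∈ occ hU f →
      (fun x => l (cjP n x)) ∈ occ hU f := by
    intro n l hl
    have hL := isLam_of_mem_occ hU hl
    have hbij : Function.Bijective (cjP (P := P) n) :=
      Function.bijective_iff_has_inverse.2 ⟨cjP n⁻¹,
        fun x => by rw [← cjP_mul, inv_mul_cancel, cjP_one],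
        fun x => by rw [← cjP_mul, mul_inv_cancel, cjP_one]⟩
    refine mem_occ_of_sum_ne_zero hU hf
      ⟨fun a b => by simp only [cjP_map_mul, hL.1], fun a => hL.2 _⟩ ?_ ?_
    · intro h
      apply (mem_occ.1 hl).1
      funext y
      obtain ⟨x, rfl⟩ := hbij.2 y
      exact congrFun h x
    · have : ∑ u : PP, f u * conj (l (cjP n u)) = ∑ u : PP, f u * conj (l u) := by
        refine Fintype.sum_equiv (Equiv.ofBijective _ hbij) _ _ fun u => ?_
        show f u * conj (l (cjP n u)) = f (cjP n u : PP) * conj (l (cjP n u))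
        rw [show f ((cjP n u : PP) : G) = f u from hcl u n]
      rw [this, sum_mul_conj_lam hU hf hL]
      have := aMult_pos_of_mem hU hl
      exact mul_ne_zero (Nat.cast_ne_zero.2 Nat.card_pos.ne') (Nat.cast_ne_zero.2 (by omega))
  letI : MulAction NN {l // l ∈ occ hU f} :=
    { smul := fun n l => ⟨fun x => l.1 (cjP n⁻¹ x), stab n⁻¹ l.1 l.2⟩
      one_smul := fun l => Subtype.ext (funext fun x => by
        show l.1 (cjP (1 : NN)⁻¹ x) = l.1 x
        rw [inv_one, cjP_one])
      mul_smul := fun a b l => Subtype.ext (funext fun x => by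
        show l.1 (cjP (a * b)⁻¹ x) = l.1 (cjP b⁻¹ (cjP a⁻¹ x))
        rw [mul_inv_rev, cjP_mul]) }
  have := index_dvd_card_of_stabilizer (X := {l // l ∈ occ hU f}) ((CC).subgroupOf NN)
    (fun l => by
      ext n
      rw [MulAction.mem_stabilizer_iff, Subgroup.mem_subgroupOf]
      constructor
      · intro h
        have h' : ∀ x, l.1 (cjP n⁻¹ x) = l.1 x := fun x => congrFun (congrArg Subtype.val h) x
        simpa using lam_fix hU (isLam_of_mem_occ hU l.2) (mem_occ.1 l.2).1 h'
      · intro h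
        refine Subtype.ext (funext fun x => ?_)
        show l.1 (cjP n⁻¹ x) = l.1 x
        rw [cjP_of_mem hU (by simpa using inv_mem h)])
  rwa [Nat.card_eq_fintype_card, Fintype.card_coe] at this

/-! ### The nontrivial `P`-degree -/

/-- `q` times the degree of the nontrivial `P`-part. -/
noncomputable def tDeg (Q : Sylow p G) (f : G → ℂ) : ℝ :=
  ∑ u : (Q : Subgroup G), (f 1 - f u).re

theorem tDeg_eq (hU : Uniform P) {f : G → ℂ} (hf : IsCharacter G f) :
    tDeg P f = (Nat.card PP : ℝ) * ((H12.degree f : ℝ) - (aMult hU f (fun _ => 1) : ℝ)) := by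
  have h := sum_mul_conj_lam hU hf isLam_one
  simp only [map_one, mul_one] at h
  have : (tDeg P f : ℝ) = (∑ u : PP, (f 1 - f u)).re := by rw [tDeg, Complex.re_sum]
  rw [this, Finset.sum_sub_distrib, h, H12.IsCharacter.apply_one_eq_degree hf]
  simp [Nat.card_eq_fintype_card, mul_sub]

theorem degree_eq_sum (hU : Uniform P) {f : G → ℂ} (hf : IsCharacter G f) :
    H12.degree f = aMult hU f (fun _ => 1) + ∑ l ∈ occ hU f, aMult hU f l := by
  classical
  have h := apply_eq_sum hU hf 1
  rw [show (((1 : PP) : G)) = 1 from rfl, H12.IsCharacter.apply_one_eq_degree hf] at h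
  simp only [lam_one, mul_one] at h
  have hN : H12.degree f = ∑ φ : IrrCharacter CC, mult f φ * H12.degree (φ : CC → ℂ) := by
    exact_mod_cast h
  rw [hN, ← Finset.sum_filter_add_sum_filter_not Finset.univ
    (fun φ : IrrCharacter CC => lam hU φ = fun _ => 1)]
  congr 1
  rw [← Finset.sum_filter_of_ne (p := fun φ => mult f φ ≠ 0)
    (fun φ _ h => left_ne_zero_of_mul h)]
  have hmaps : ∀ φ ∈ ((Finset.univ : Finset (IrrCharacter CC)).filter
      (fun φ => ¬lam hU φ = fun _ => 1)).filter (fun φ => mult f φ ≠ 0),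
      lam hU φ ∈ occ hU f := fun φ hφ => by
    simp only [Finset.mem_filter, Finset.mem_univ, true_and] at hφ
    exact mem_occ.2 ⟨hφ.1, φ, hφ.2, rfl⟩
  rw [← Finset.sum_fiberwise_of_maps_to hmaps]
  refine Finset.sum_congr rfl fun l hl => ?_
  unfold aMult
  refine Finset.sum_subset (fun φ hφ => ?_) (fun φ hφ hn => ?_)
  · simp only [Finset.mem_filter, Finset.mem_univ, true_and] at hφ ⊢
    exact hφ.2
  · simp only [Finset.mem_filter, Finset.mem_univ, true_and] at hφ hn
    have : mult f φ = 0 := by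
      by_contra h0
      exact hn ⟨⟨hφ ▸ (mem_occ.1 hl).1, h0⟩, hφ⟩
    simp [this]

theorem card_occ_le_tDeg (hU : Uniform P) {f : G → ℂ} (hf : IsCharacter G f) :
    (Nat.card PP : ℝ) * ((occ hU f).card : ℝ) ≤ tDeg P f := by
  rw [tDeg_eq hU hf]
  refine mul_le_mul_of_nonneg_left ?_ (Nat.cast_nonneg _)
  have h1 : (occ hU f).card ≤ ∑ l ∈ occ hU f, aMult hU f l :=
    le_of_eq_of_le (Finset.card_eq_sum_ones _)
      (Finset.sum_le_sum fun l hl => aMult_pos_of_mem hU hl)
  rw [le_sub_iff_add_le]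
  exact_mod_cast (by rw [degree_eq_sum hU hf]; omega :
    (occ hU f).card + aMult hU f (fun _ => 1) ≤ H12.degree f)

theorem tDeg_nonneg (hU : Uniform P) {f : G → ℂ} (hf : IsCharacter G f) : 0 ≤ tDeg P f :=
  le_trans (mul_nonneg (Nat.cast_nonneg _) (Nat.cast_nonneg _)) (card_occ_le_tDeg hU hf)

theorem card_occ_le_degree (hU : Uniform P) {f : G → ℂ} (hf : IsCharacter G f) :
    (occ hU f).card ≤ H12.degree f := by
  rw [degree_eq_sum hU hf]
  have h1 : (occ hU f).card ≤ ∑ l ∈ occ hU f, aMult hU f l :=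
    le_of_eq_of_le (Finset.card_eq_sum_ones _)
      (Finset.sum_le_sum fun l hl => aMult_pos_of_mem hU hl)
  omega

theorem apply_eq_one_of_occ_empty (hU : Uniform P) {f : G → ℂ} (hf : IsCharacter G f)
    (h : occ hU f = ∅) (u : PP) : f u = f 1 := by
  have h1 := apply_eq_sum hU hf u
  have h2 := apply_eq_sum hU hf 1
  rw [show (((1 : PP) : G)) = 1 from rfl] at h2
  rw [h1, h2]
  refine Finset.sum_congr rfl fun φ _ => ?_
  by_cases hm : mult f φ = 0
  · simp [hm]
  · have : lam hU φ = fun _ => 1 := by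
      by_contra hne
      have hmem : lam hU φ ∈ occ hU f := mem_occ.2 ⟨hne, φ, hm, rfl⟩
      simp [h] at hmem
    rw [this]

theorem card_occ_le_normSq_sum (hU : Uniform P) {f : G → ℂ} (hf : IsCharacter G f) :
    (Nat.card PP : ℝ) * ((occ hU f).card : ℝ) ≤ ∑ u : PP, Complex.normSq (f u) := by
  classical
  have h : (∑ u : PP, (Complex.normSq (f u) : ℂ))
      = (Nat.card PP : ℂ) * ((∑ φ : IrrCharacter CC,
          mult f φ * H12.degree (φ : CC → ℂ) * aMult hU f (lam hU φ) : ℕ) : ℂ) := by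
    calc (∑ u : PP, (Complex.normSq (f u) : ℂ))
        = ∑ φ : IrrCharacter CC, ((mult f φ * H12.degree (φ : CC → ℂ) : ℕ) : ℂ) *
            ∑ u : PP, f u * conj (lam hU φ u) := by
          simp only [Finset.mul_sum]
          rw [Finset.sum_comm]
          refine Finset.sum_congr rfl fun u _ => ?_
          rw [← Complex.mul_conj]
          nth_rewrite 2 [apply_eq_sum hU hf u]
          rw [map_sum, Finset.mul_sum]
          refine Finset.sum_congr rfl fun φ _ => ?_
          rw [map_mul, Complex.conj_natCast]; ring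
      _ = _ := by
          simp only [sum_mul_conj_lam hU hf (lam_isLam hU _), Nat.cast_sum, Nat.cast_mul,
            Finset.mul_sum]
          exact Finset.sum_congr rfl fun φ _ => by ring
  have h' : (∑ u : PP, Complex.normSq (f u))
      = (Nat.card PP : ℝ) * ((∑ φ : IrrCharacter CC,
          mult f φ * H12.degree (φ : CC → ℂ) * aMult hU f (lam hU φ) : ℕ) : ℝ) := by
    exact_mod_cast h
  rw [h']
  refine mul_le_mul_of_nonneg_left ?_ (Nat.cast_nonneg _)
  have hs : ∀ l ∈ occ hU f, ∃ φ, mult f φ ≠ 0 ∧ lam hU φ = l := fun l hl => (mem_occ.1 hl).2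
  choose g hg using hs
  have hcard : (occ hU f).card ≤ ∑ φ : IrrCharacter CC,
      mult f φ * H12.degree (φ : CC → ℂ) * aMult hU f (lam hU φ) := by
    calc (occ hU f).card = ((occ hU f).attach.image fun l => g l.1 l.2).card := by
          rw [Finset.card_image_of_injective _ (fun a b hab => ?_), Finset.card_attach]
          refine Subtype.ext ?_
          rw [← (hg a.1 a.2).2, ← (hg b.1 b.2).2]
          exact congrArg _ hab
      _ = ∑ _φ ∈ (occ hU f).attach.image (fun l => g l.1 l.2), 1 := Finset.card_eq_sum_ones _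
      _ ≤ ∑ φ ∈ (occ hU f).attach.image (fun l => g l.1 l.2),
            mult f φ * H12.degree (φ : CC → ℂ) * aMult hU f (lam hU φ) := by
          refine Finset.sum_le_sum fun φ hφ => ?_
          obtain ⟨l, -, rfl⟩ := Finset.mem_image.1 hφ
          refine Nat.one_le_iff_ne_zero.2 (mul_ne_zero (mul_ne_zero (hg l.1 l.2).1
            (H12.irr_degree_pos _).ne') ?_)
          rw [(hg l.1 l.2).2]
          exact Nat.one_le_iff_ne_zero.1 (aMult_pos_of_mem hU l.2)
      _ ≤ _ := Finset.sum_le_sum_of_subset (Finset.subset_univ _)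
  exact_mod_cast hcard

/-! ### The norm inequality -/

open scoped Classical in
/-- The `p'`-elements of the centraliser. -/
noncomputable def regSet (Q : Sylow p G) :
    Finset (Subgroup.centralizer ((Q : Subgroup G) : Set G)) :=
  Finset.univ.filter fun c => (c : G) ^ mIdx Q = 1

theorem sum_cent_eq (hU : Uniform P) (F : CC → ℝ) :
    ∑ c : CC, F c = ∑ u : PP, ∑ v ∈ regSet P, F (inC hU u * v) := by
  classical
  rw [← Finset.sum_product']
  symm
  refine Finset.sum_bij (fun x _ => inC hU x.1 * x.2) (fun _ _ => Finset.mem_univ _) ?_ ?_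
    (fun _ _ => rfl)
  · intro a ha b hb hab
    simp only [Finset.mem_product, regSet, Finset.mem_filter, Finset.mem_univ, true_and] at ha hb
    have h1 : ((a.1 : G) * (a.2 : G)) = (b.1 : G) * (b.2 : G) := congrArg Subtype.val hab
    have h2 := congrArg (· ^ mIdx P) h1
    simp only [Commute.mul_pow (comm_mem hU a.1.2 a.2.2), Commute.mul_pow (comm_mem hU b.1.2 b.2.2),
      ha, hb, mul_one] at h2
    have h3 : a.1 = b.1 := Subtype.ext (pow_injOn hU a.1.2 b.1.2 h2)
    refine Prod.ext h3 (Subtype.ext ?_)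
    rw [h3] at h1
    exact mul_left_cancel h1
  · intro c _
    obtain ⟨u, hu, huc⟩ := exists_root hU (pow_mem_sylow hU c.2)
    refine ⟨(⟨u, hu⟩, (inC hU ⟨u, hu⟩)⁻¹ * c), ?_, mul_inv_cancel_left _ _⟩
    simp only [Finset.mem_product, regSet, Finset.mem_filter, Finset.mem_univ, true_and]
    show (u⁻¹ * (c : G)) ^ mIdx P = 1
    rw [Commute.mul_pow (comm_mem hU (inv_mem hu) c.2), inv_pow, huc, inv_mul_cancel]

theorem sum_singular_le (hU : Uniform P) (F : G → ℝ) (hF : ∀ g h : G, F (h * g * h⁻¹) = F g)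
    (h0 : ∀ g, 0 ≤ F g) :
    (Nat.card G : ℝ) * ((∑ c : CC, F c) - ∑ c ∈ regSet P, F c)
      ≤ (Nat.card NN : ℝ) * ((∑ g : G, F g) - F 1) := by
  classical
  set S := (Finset.univ : Finset CC).filter (fun c : CC => ¬ (c : G) ^ mIdx P = 1) with hS
  have hsplit : (∑ c : CC, F c) - ∑ c ∈ regSet P, F c = ∑ c ∈ S, F c := by
    rw [hS, regSet, ← Finset.sum_filter_add_sum_filter_not Finset.univ
      (fun c : CC => (c : G) ^ mIdx P = 1)]
    ring
  rw [hsplit]
  set f : G × CC → G := fun x => x.1 * (x.2 : G) * x.1⁻¹ with hf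
  have hne : ∀ x ∈ (Finset.univ : Finset G) ×ˢ S, f x ∈ (Finset.univ : Finset G).erase 1 := by
    intro x hx
    simp only [Finset.mem_product, hS, Finset.mem_filter] at hx
    refine Finset.mem_erase.2 ⟨fun h => hx.2.2 ?_, Finset.mem_univ _⟩
    have : (x.2 : G) = 1 := by
      have h' : x.1 * (x.2 : G) * x.1⁻¹ = 1 := h
      simpa using h'
    rw [this, one_pow]
  calc (Nat.card G : ℝ) * ∑ c ∈ S, F c
      = ∑ x ∈ (Finset.univ : Finset G) ×ˢ S, F (f x) := by
        rw [Finset.sum_product]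
        simp [hf, hF, Nat.card_eq_fintype_card]
    _ = ∑ z ∈ (Finset.univ : Finset G).erase 1,
          ∑ x ∈ ((Finset.univ : Finset G) ×ˢ S).filter (fun x => f x = z), F (f x) :=
        (Finset.sum_fiberwise_of_maps_to hne _).symm
    _ ≤ ∑ z ∈ (Finset.univ : Finset G).erase 1, (Nat.card NN : ℝ) * F z := by
        refine Finset.sum_le_sum fun z _ => ?_
        rw [Finset.sum_congr rfl (fun x hx => congrArg F (Finset.mem_filter.1 hx).2),
          Finset.sum_const, nsmul_eq_mul]
        refine mul_le_mul_of_nonneg_right (Nat.cast_le.2 ?_) (h0 z)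
        rcases (((Finset.univ : Finset G) ×ˢ S).filter (fun x => f x = z)).eq_empty_or_nonempty
          with he | ⟨x0, hx0⟩
        · rw [he]; simp
        · rw [← Finset.card_univ (α := NN) |>.trans Nat.card_eq_fintype_card.symm]
          simp only [Finset.mem_filter, Finset.mem_product, hS, Finset.mem_univ, true_and] at hx0
          have key : ∀ x ∈ ((Finset.univ : Finset G) ×ˢ S).filter (fun x => f x = z),
              x0.1⁻¹ * x.1 ∈ NN := by
            intro x hx
            simp only [Finset.mem_filter, Finset.mem_product, hS, Finset.mem_univ, true_and] at hx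
            refine mem_normalizer_of_conj hU (c := (x.2 : G)) x.2.2 ?_ hx.1
            have e : x.1 * (x.2 : G) * x.1⁻¹ = x0.1 * (x0.2 : G) * x0.1⁻¹ := hx.2.trans hx0.2.symm
            have e' : x0.1⁻¹ * x.1 * (x.2 : G) * (x0.1⁻¹ * x.1)⁻¹ = (x0.2 : G) := by
              calc _ = x0.1⁻¹ * (x.1 * (x.2 : G) * x.1⁻¹) * x0.1 := by group
                _ = _ := by rw [e]; group
            rw [e']; exact x0.2.2
          refine Finset.card_le_card_of_injOn
            (fun x => if h : x0.1⁻¹ * x.1 ∈ NN then (⟨_, h⟩ : NN) else 1)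
            (fun _ _ => Finset.mem_univ _) ?_
          intro a ha b hb hab
          rw [Finset.mem_coe] at ha hb
          simp only [dif_pos (key a ha), dif_pos (key b hb), Subtype.mk.injEq] at hab
          have h1 : a.1 = b.1 := mul_left_cancel hab
          refine Prod.ext h1 (Subtype.ext ?_)
          have e : a.1 * (a.2 : G) * a.1⁻¹ = b.1 * (b.2 : G) * b.1⁻¹ :=
            (Finset.mem_filter.1 ha).2.trans (Finset.mem_filter.1 hb).2.symm
          rw [h1] at e
          simpa using e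
    _ = _ := by
        rw [← Finset.mul_sum, Finset.sum_erase_eq_sub (Finset.mem_univ _)]

theorem sum_normSq_eq {H : Type u} [Group H] [Fintype H] (c : IrrCharacter H → ℝ) :
    ∑ h : H, Complex.normSq (∑ φ, (c φ : ℂ) * (φ : H → ℂ) h)
      = (Nat.card H : ℝ) * ∑ φ, c φ ^ 2 := by
  have h1 := H12.classInner_sum_smul_sum_smul (fun φ => (c φ : ℂ)) (fun φ => (c φ : ℂ))
  rw [H12.classInner_def, inv_mul_eq_iff_eq_mul₀ H12.card_ne_zero'] at h1
  simp only [Finset.sum_apply, Pi.smul_apply, smul_eq_mul, Complex.mul_conj,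
    Complex.conj_ofReal] at h1
  have h2 : ((∑ h : H, Complex.normSq (∑ φ, (c φ : ℂ) * (φ : H → ℂ) h) : ℝ) : ℂ)
      = (((Nat.card H : ℝ) * ∑ φ, c φ ^ 2 : ℝ) : ℂ) := by
    push_cast
    rw [h1]
    simp [pow_two]
  exact_mod_cast h2

/-- The key lemma: a constituent with a trivial `C`-component and few nontrivial `P`-characters
does not exist. -/
theorem key (hU : Uniform P) (ψ : IrrCharacter G) (hψ1 : ψ ≠ H12.oneIrr G)
    (hd : mult (P := P) (ψ : G → ℂ) (H12.oneIrr CC) ≠ 0)
    (hq : eIdx P ^ 2 + eIdx P + 1 ≤ Nat.card PP)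
    (hr0 : eIdx P ≤ (occ hU (ψ : G → ℂ)).card)
    (hr : (occ hU (ψ : G → ℂ)).card + 2 * eIdx P + 1 ≤ Nat.card PP) : False := by
  classical
  have hψc := H12.isCharacter_irr ψ
  set e : ℝ := (eIdx P : ℝ) with he
  set r : ℝ := ((occ hU (ψ : G → ℂ)).card : ℝ) with hrdef
  set q : ℝ := (Nat.card PP : ℝ) with hqdef
  set m : ℝ := (mIdx P : ℝ) with hm
  have he1 : (1 : ℝ) ≤ e := by rw [he]; exact_mod_cast (eIdx_pos : 0 < eIdx P)
  have hm0 : (0 : ℝ) < m := by rw [hm]; exact_mod_cast (mIdx_pos : 0 < mIdx P)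
  have hqR : e ^ 2 + e + 1 ≤ q := by rw [he, hqdef]; exact_mod_cast hq
  have hr0R : e ≤ r := by rw [he, hrdef]; exact_mod_cast hr0
  have hrR : r ≤ q - 1 - 2 * e := by
    have : r + 2 * e + 1 ≤ q := by rw [he, hrdef, hqdef]; exact_mod_cast hr
    linarith
  set F : G → ℝ := fun g => Complex.normSq ((e : ℂ) * (ψ : G → ℂ) g + 1) with hF
  set cf : IrrCharacter CC → ℝ :=
    fun φ => e * (mult (ψ : G → ℂ) φ : ℝ) + (if φ = H12.oneIrr CC then 1 else 0) with hcf
  set one : PP → ℂ := fun _ => 1 with hone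
  set L : Finset (PP → ℂ) := insert one (occ hU (ψ : G → ℂ)) with hL
  set X : (PP → ℂ) → ℝ := fun l =>
    ∑ φ : IrrCharacter CC, (if lam hU φ = l then cf φ else 0) ^ 2 with hX
  set g : (PP → ℂ) → CC → ℂ := fun l c =>
    ∑ φ : IrrCharacter CC, ((if lam hU φ = l then cf φ else 0 : ℝ) : ℂ) * (φ : CC → ℂ) c with hg
  have hsupp : ∀ φ, cf φ ≠ 0 → lam hU φ ∈ L := by
    intro φ h
    rw [hL, Finset.mem_insert]
    by_cases h1 : lam hU φ = one
    · exact Or.inl h1
    · refine Or.inr (mem_occ.2 ⟨h1, φ, fun h0 => h ?_, rfl⟩)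
      have hne : φ ≠ H12.oneIrr CC := fun hh => h1 (by rw [hh, lam_oneIrr])
      simp only [hcf]
      rw [h0, if_neg hne]
      simp
  have hfC : ∀ c : CC, (e : ℂ) * (ψ : G → ℂ) c + 1
      = ∑ φ : IrrCharacter CC, (cf φ : ℂ) * (φ : CC → ℂ) c := by
    intro c
    rw [resC_eq_sum hψc c, Finset.mul_sum]
    simp only [hcf, Complex.ofReal_add, Complex.ofReal_mul, add_mul, Finset.sum_add_distrib,
      apply_ite Complex.ofReal, Complex.ofReal_one, Complex.ofReal_zero, ite_mul, one_mul,
      zero_mul, Finset.sum_ite_eq', Finset.mem_univ, if_true, H12.oneIrr_apply,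
      Complex.ofReal_natCast, mul_assoc]
  have hfg : ∀ c : CC, (e : ℂ) * (ψ : G → ℂ) c + 1 = ∑ l ∈ L, g l c := by
    intro c
    rw [hfC c, hg]
    rw [Finset.sum_comm]
    refine Finset.sum_congr rfl fun φ _ => ?_
    by_cases h : cf φ = 0
    · simp [h]
    · rw [Finset.sum_eq_single (lam hU φ) (fun l _ hne => by simp [Ne.symm hne])
        (fun hn => absurd (hsupp φ h) hn), if_pos rfl]
  have hsumC : ∑ c : CC, F c = (Nat.card CC : ℝ) * ∑ l ∈ L, X l := by
    have h1 : ∑ c : CC, F c = (Nat.card CC : ℝ) * ∑ φ, cf φ ^ 2 := by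
      rw [← sum_normSq_eq cf]
      exact Finset.sum_congr rfl fun c _ => by rw [hF, ← hfC c]
    rw [h1, hX, Finset.sum_comm]
    congr 1
    refine Finset.sum_congr rfl fun φ _ => ?_
    by_cases h : cf φ = 0
    · simp [h]
    · rw [Finset.sum_eq_single (lam hU φ) (fun l _ hne => by simp [Ne.symm hne])
        (fun hn => absurd (hsupp φ h) hn), if_pos rfl]
  have hgV : ∀ l, IsLam l → ∑ v ∈ regSet P, Complex.normSq (g l v) = m * X l := by
    intro l hl
    have h1 : ∑ c : CC, Complex.normSq (g l c) = (Nat.card CC : ℝ) * X l :=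
      sum_normSq_eq (fun φ => if lam hU φ = l then cf φ else 0)
    have h2 : ∀ (u : PP) (v : CC), Complex.normSq (g l (inC hU u * v))
        = Complex.normSq (g l v) := by
      intro u v
      have : g l (inC hU u * v) = l u * g l v := by
        rw [hg, Finset.mul_sum]
        refine Finset.sum_congr rfl fun φ _ => ?_
        rw [lam_mul_apply]
        split_ifs with h
        · rw [h]; ring
        · simp
      rw [this, map_mul, hl.2, one_mul]
    rw [sum_cent_eq hU] at h1
    simp only [h2, Finset.sum_const, Finset.card_univ, nsmul_eq_mul,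
      ← Nat.card_eq_fintype_card] at h1
    rw [card_cent hU, Nat.cast_mul, mul_assoc] at h1
    exact mul_left_cancel₀ (Nat.cast_ne_zero.2 Nat.card_pos.ne') h1
  have hLlam : ∀ l ∈ L, IsLam l := by
    intro l hl
    rw [hL, Finset.mem_insert] at hl
    rcases hl with rfl | hl
    · exact isLam_one
    · exact isLam_of_mem_occ hU hl
  have hnot : one ∉ occ hU (ψ : G → ℂ) := fun h => (mem_occ.1 h).1 rfl
  set w : (PP → ℂ) → ℝ := fun l => if l = one then (e + 1) / e else 1 with hw
  have hwpos : ∀ l ∈ L, 0 < w l := fun l _ => by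
    simp only [hw]; split_ifs <;> positivity
  have hW : ∑ l ∈ L, w l = (e + 1 + r * e) / e := by
    rw [hL, Finset.sum_insert hnot]
    have : ∀ l ∈ occ hU (ψ : G → ℂ), w l = 1 := fun l hl => by
      simp only [hw]; rw [if_neg]; rintro rfl; exact hnot hl
    rw [Finset.sum_congr rfl this, Finset.sum_const, nsmul_eq_mul, mul_one, hw, ← hrdef]
    simp only [if_true]
    field_simp
  set A : ℝ := ∑ l ∈ occ hU (ψ : G → ℂ), X l with hA
  have hXw : ∑ l ∈ L, X l / w l = X one * e / (e + 1) + A := by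
    rw [hL, Finset.sum_insert hnot, hA]
    congr 1
    · simp only [hw, if_true]; field_simp
    · refine Finset.sum_congr rfl fun l hl => ?_
      simp only [hw]
      rw [if_neg (by rintro rfl; exact hnot hl), div_one]
  have hXsum : ∑ l ∈ L, X l = X one + A := by rw [hL, Finset.sum_insert hnot]
  have hV : ∑ c ∈ regSet P, F c ≤ m * ((e + 1 + r * e) / e * (X one * e / (e + 1) + A)) := by
    calc ∑ c ∈ regSet P, F c
        ≤ ∑ c ∈ regSet P, (∑ l ∈ L, w l) * ∑ l ∈ L, Complex.normSq (g l c) / w l := by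
          refine Finset.sum_le_sum fun c _ => ?_
          rw [hF]; simp only; rw [hfg c]
          exact normSq_sum_le L _ w hwpos
      _ = (∑ l ∈ L, w l) * ∑ l ∈ L, (m * X l) / w l := by
          rw [← Finset.mul_sum, Finset.sum_comm]
          congr 1
          refine Finset.sum_congr rfl fun l hl => ?_
          rw [← Finset.sum_div, hgV l (hLlam l hl)]
      _ = _ := by
          rw [hW, ← hXw, Finset.mul_sum, Finset.mul_sum, Finset.mul_sum]
          exact Finset.sum_congr rfl fun l _ => by ring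
  -- the norm on the whole group
  have hG : ∑ x : G, F x = (Nat.card G : ℝ) * (e ^ 2 + 1) := by
    have h1 := sum_normSq_eq (H := G)
      (fun φ => (if φ = ψ then e else 0) + (if φ = H12.oneIrr G then 1 else 0))
    have h2 : ∀ x : G, (∑ φ : IrrCharacter G,
        (((if φ = ψ then e else 0) + (if φ = H12.oneIrr G then 1 else 0) : ℝ) : ℂ)
          * (φ : G → ℂ) x) = (e : ℂ) * (ψ : G → ℂ) x + 1 := by
      intro x
      simp only [Complex.ofReal_add, add_mul, Finset.sum_add_distrib, apply_ite Complex.ofReal,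
        Complex.ofReal_one, Complex.ofReal_zero, ite_mul, one_mul, zero_mul, Finset.sum_ite_eq',
        Finset.mem_univ, if_true, H12.oneIrr_apply]
    simp only [h2] at h1
    rw [hF, h1]
    congr 1
    rw [Finset.sum_eq_add ψ (H12.oneIrr G) hψ1 (fun φ _ hφ => by simp [hφ.1, hφ.2]) (by simp)
      (by simp)]
    simp [hψ1, Ne.symm hψ1]
  have hF1 : 0 < F 1 := by
    rw [hF]; simp only
    rw [H12.irr_apply_one ψ]
    refine Complex.normSq_pos.2 ?_
    have : (0 : ℝ) < e * (H12.degree (ψ : G → ℂ) : ℝ) + 1 := by positivity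
    intro h0
    rw [show (e : ℂ) * (H12.degree (ψ : G → ℂ) : ℂ) + 1
      = ((e * (H12.degree (ψ : G → ℂ) : ℝ) + 1 : ℝ) : ℂ) by push_cast; ring] at h0
    exact this.ne' (Complex.ofReal_eq_zero.1 h0)
  have hcl : ∀ a b : G, F (b * a * b⁻¹) = F a := fun a b => by
    simp only [hF, H12.irr_isClassFunction ψ a b]
  have hmain := sum_singular_le hU F hcl (fun _ => Complex.normSq_nonneg _)
  rw [hG, card_norm, hsumC, hXsum, card_cent hU] at hmain
  push_cast at hmain
  rw [← he, ← hqdef, ← hm] at hmain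
  have hGpos : (0 : ℝ) < (Nat.card G : ℝ) := by exact_mod_cast Nat.card_pos
  have hqpos : (0 : ℝ) < q := lt_of_lt_of_le (by positivity) hqR
  have hlt : q * m * (X one + A) - ∑ c ∈ regSet P, F c < q * m * e * (e ^ 2 + 1) := by
    refine lt_of_mul_lt_mul_left (hmain.trans_lt ?_) hGpos.le
    have h3 : 0 < q * m * e * F 1 := by positivity
    linarith
  -- lower bounds
  have hX1 : (e + 1) ^ 2 ≤ X one := by
    have h1 := Finset.single_le_sum (f := fun φ => (if lam hU φ = one then cf φ else 0) ^ 2)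
      (fun _ _ => sq_nonneg _) (Finset.mem_univ (H12.oneIrr CC))
    rw [if_pos (show lam hU (H12.oneIrr CC) = one from lam_oneIrr hU)] at h1
    refine le_trans (pow_le_pow_left₀ (by linarith) ?_ 2) h1
    have h2 : (1 : ℝ) ≤ (mult (P := P) (ψ : G → ℂ) (H12.oneIrr CC) : ℝ) := by
      exact_mod_cast Nat.one_le_iff_ne_zero.2 hd
    simp only [hcf, if_true]
    nlinarith
  have hAlow : e ^ 2 * r ≤ A := by
    rw [hA, hrdef, mul_comm, ← nsmul_eq_mul]
    refine Finset.card_nsmul_le_sum _ _ _ fun l hl => ?_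
    obtain ⟨hl1, φ, hφ, hφl⟩ := mem_occ.1 hl
    have h1 := Finset.single_le_sum (f := fun φ => (if lam hU φ = l then cf φ else 0) ^ 2)
      (fun _ _ => sq_nonneg _) (Finset.mem_univ φ)
    simp only [if_pos hφl] at h1
    refine le_trans (pow_le_pow_left₀ (by linarith) ?_ 2) h1
    have hne : φ ≠ H12.oneIrr CC := fun hh => hl1 (by rw [← hφl, hh, lam_oneIrr])
    have h2 : (1 : ℝ) ≤ (mult (ψ : G → ℂ) φ : ℝ) := by
      exact_mod_cast Nat.one_le_iff_ne_zero.2 hφ
    simp only [hcf, if_neg hne, add_zero]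
    nlinarith
  refine contra he1 hqR hr0R hrR hX1 hAlow (lt_of_mul_lt_mul_left ?_ hm0.le)
  linarith [hV]

/-! ### The main theorem -/

/-- The elements acting with modulus one in a character. -/
def scalarSubgroup {H : Type u} [Group H] (χ : H → ℂ) : Subgroup H where
  carrier := {g | ∀ h, ‖χ (g * h)‖ = ‖χ h‖}
  one_mem' := fun h => by rw [one_mul]
  mul_mem' {a b} ha hb := fun h => by rw [mul_assoc, ha, hb]
  inv_mem' {a} ha := fun h => by
    have := ha (a⁻¹ * h)
    rw [mul_inv_cancel_left] at this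
    exact this.symm

theorem scalarSubgroup_normal {H : Type u} [Group H] {χ : H → ℂ} (hχ : IsClassFunction H χ) :
    (scalarSubgroup χ).Normal := ⟨fun a ha k h => by
  have e1 : χ (k * a * k⁻¹ * h) = χ (a * (k⁻¹ * h * k)) := by
    rw [← hχ (a * (k⁻¹ * h * k)) k]; congr 1; group
  have e2 : χ (k⁻¹ * h * k) = χ h := by
    conv_lhs => rw [show k = (k⁻¹)⁻¹ by rw [inv_inv]]
    rw [← hχ h k⁻¹]; congr 1; group
  rw [e1, ha, e2]⟩

theorem ne_one_ker (hnc : ∀ K : Subgroup G, K.Normal → PP ≤ K → K = ⊤) (ψ : IrrCharacter G)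
    (hψ : ψ ≠ H12.oneIrr G) : ¬ ∀ u : PP, (ψ : G → ℂ) u = (ψ : G → ℂ) 1 := by
  intro h
  have hc := H12.isCharacter_irr ψ
  have hK := hnc (H12.charKer (ψ : G → ℂ) hc) (H12.charKer_normal hc)
    (fun u hu => (H12.mem_charKer hc).2 (h ⟨u, hu⟩))
  have hconst : ∀ g : G, (ψ : G → ℂ) g = (ψ : G → ℂ) 1 := fun g =>
    (H12.mem_charKer hc).1 (hK ▸ Subgroup.mem_top g)
  have h0 := H12.classInner_irr_ne hψ
  rw [H12.classInner_def] at h0
  simp only [hconst, H12.oneIrr_apply, map_one, mul_one, Finset.sum_const, nsmul_eq_mul] at h0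
  exact H12.irr_apply_one_ne_zero ψ (by simpa using h0)

set_option maxHeartbeats 800000 in
/-- If the normal closure of `P` is `G`, a nonprincipal irreducible character of degree `x`
with `x² + 1 < |P|` is linear, and there is a normal `p`-complement. -/
theorem main (hU : Uniform P) (hnc : ∀ K : Subgroup G, K.Normal → PP ≤ K → K = ⊤)
    (χ : IrrCharacter G) (hχ1 : χ ≠ H12.oneIrr G)
    (hdeg : H12.degree (χ : G → ℂ) ^ 2 + 1 < Nat.card PP) :
    H12.degree (χ : G → ℂ) = 1 ∧ ∃ N : Subgroup G, N.Normal ∧ N.index = Nat.card PP := by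
  classical
  set x := H12.degree (χ : G → ℂ) with hx
  set e := eIdx P with he
  have hχc := H12.isCharacter_irr χ
  have hocc : ∀ ψ : IrrCharacter G, ψ ≠ H12.oneIrr G → e ≤ (occ hU (ψ : G → ℂ)).card := by
    intro ψ hψ
    refine Nat.le_of_dvd (Finset.card_pos.2 ?_) (eIdx_dvd_card_occ hU (H12.isCharacter_irr ψ))
    by_contra h
    exact ne_one_ker hnc ψ hψ (apply_eq_one_of_occ_empty hU (H12.isCharacter_irr ψ)
      (Finset.not_nonempty_iff_eq_empty.1 h))
  have hex : e ≤ x := (hocc χ hχ1).trans (card_occ_le_degree hU hχc)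
  have hepos : 0 < e := eIdx_pos
  have hq : e ^ 2 + e + 1 ≤ Nat.card PP := by
    obtain ⟨t, ht⟩ := eIdx_dvd_card_sub_one hU
    rw [← he] at ht
    have h1 : e ^ 2 ≤ x ^ 2 := Nat.pow_le_pow_left hex 2
    have h2 : e * e < e * t := by
      have : e * e = e ^ 2 := by ring
      omega
    have h3 : e + 1 ≤ t := Nat.lt_of_mul_lt_mul_left h2
    have h4 := Nat.mul_le_mul_left e h3
    have : e * (e + 1) = e ^ 2 + e := by ring
    omega
  suffices hlin : x = 1 by
    refine ⟨hlin, ?_⟩
    have he1 : e = 1 := by omega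
    have hNC : NN ≤ CC := Subgroup.relIndex_eq_one.1 (by simpa [he, eIdx] using he1)
    have hNC' : Subgroup.normalizer (P : Set G) ≤ Subgroup.centralizer (P : Set G) :=
      fun y hy => hNC hy
    have hcompl := MonoidHom.ker_transferSylow_isComplement' P hNC'
    refine ⟨(MonoidHom.transferSylow P hNC').ker, MonoidHom.normal_ker _, ?_⟩
    exact hcompl.symm.index_eq_card
  set fC : CC → ℂ := resC (χ : G → ℂ) with hfC
  have hfCc : IsCharacter CC fC := H12.IsCharacter.res hχc CC
  by_cases hirr : classInner fC fC = 1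
  · -- `P` acts by scalars
    let φ : IrrCharacter CC := ⟨fC, H12.isIrrCharacter_of_classInner_self_eq_one hfCc hirr⟩
    obtain ⟨n, ρ, hρ, hρχ⟩ := χ.2
    have hn : (x : ℕ) = n := by
      rw [hx, ← hρχ, H12.degree_character]; simp
    have hmem : PP ≤ scalarSubgroup (χ : G → ℂ) := by
      intro u hu h
      have h1 := lam_mul_apply hU φ ⟨u, hu⟩ 1
      rw [mul_one] at h1
      have h2 : ‖(χ : G → ℂ) u‖ = (x : ℝ) := by
        have : (χ : G → ℂ) u = lam hU φ ⟨u, hu⟩ * (χ : G → ℂ) 1 := h1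
        rw [this, norm_mul, H12.irr_apply_one χ, Complex.norm_natCast]
        have h3 := (lam_isLam hU φ).2 ⟨u, hu⟩
        rw [Complex.normSq_eq_norm_sq, pow_eq_one_iff_of_nonneg (norm_nonneg _) two_ne_zero] at h3
        rw [h3, one_mul]
      obtain ⟨ω, hω⟩ := H12.exists_scalar_of_norm_eq ρ u (by
        rw [hρχ, h2, hn]; simp)
      have h4 : ∀ g, (χ : G → ℂ) (u * g) = ω * (χ : G → ℂ) g := fun g => by
        rw [← hρχ]; simp [Representation.character, map_mul, hω, Module.End.mul_eq_comp]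
      have h5 : ‖ω‖ = 1 := by
        have h6 := h4 1
        rw [mul_one] at h6
        have h7 := congrArg norm h6
        rw [h2, norm_mul, H12.irr_apply_one χ, Complex.norm_natCast] at h7
        have hx0 : (x : ℝ) ≠ 0 := Nat.cast_ne_zero.2 (H12.irr_degree_pos χ).ne'
        exact mul_right_cancel₀ hx0 (by rw [one_mul]; exact h7.symm)
      rw [h4, norm_mul, h5, one_mul]
    have htop := hnc _ (scalarSubgroup_normal (H12.irr_isClassFunction χ)) hmem
    have hall : ∀ g : G, (Complex.normSq ((χ : G → ℂ) g) : ℂ) = (x : ℂ) ^ 2 := by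
      intro g
      have := (htop ▸ Subgroup.mem_top g : g ∈ scalarSubgroup (χ : G → ℂ)) 1
      rw [mul_one] at this
      rw [Complex.normSq_eq_norm_sq, this, H12.irr_apply_one χ, Complex.norm_natCast]
      push_cast; ring
    have h1 := H12.classInner_irr_self χ
    rw [H12.classInner_def] at h1
    simp only [Complex.mul_conj, hall, Finset.sum_const, Finset.card_univ, nsmul_eq_mul,
      ← Nat.card_eq_fintype_card] at h1
    rw [← mul_assoc, inv_mul_cancel₀ H12.card_ne_zero', one_mul] at h1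
    have : x ^ 2 = 1 := by exact_mod_cast h1
    exact (pow_eq_one_iff.1 this).resolve_right two_ne_zero
  · exfalso
    set f2 : G → ℂ := (χ : G → ℂ) * fun g => conj ((χ : G → ℂ) g) with hf2
    have hf2c : IsCharacter G f2 := H12.IsCharacter.mul hχc (H12.IsCharacter.star hχc)
    obtain ⟨mm, hmm⟩ := H12.IsCharacter.exists_mult hf2c
    have hmm' : ∀ g, f2 g = ∑ ψ : IrrCharacter G, (mm ψ : ℂ) * (ψ : G → ℂ) g := fun g => by
      rw [hmm]; simp
    have hone : mm (H12.oneIrr G) = 1 := by
      have h1 := H12.classInner_sum_smul_irr (fun ψ => (mm ψ : ℂ)) (H12.oneIrr G)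
      rw [← hmm] at h1
      have h2 : classInner f2 (H12.oneIrr G : G → ℂ) = classInner (χ : G → ℂ) χ := by
        simp [H12.classInner_def, hf2, H12.oneIrr_apply]
      rw [h2, H12.classInner_irr_self] at h1
      exact_mod_cast h1.symm
    have hself : classInner fC fC = ∑ ψ : IrrCharacter G,
        ((mm ψ * mult (P := P) (ψ : G → ℂ) (H12.oneIrr CC) : ℕ) : ℂ) := by
      have h1 : classInner fC fC = classInner (resC (P := P) f2) (H12.oneIrr CC : CC → ℂ) := by
        simp [H12.classInner_def, resC, hfC, hf2, H12.oneIrr_apply]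
      rw [h1]
      have h2 : resC (P := P) f2 = ∑ ψ : IrrCharacter G, (mm ψ : ℂ) • resC (P := P) (ψ : G → ℂ) := by
        funext c; simp [resC, hmm']
      rw [h2, H12.classInner_sum_left]
      refine Finset.sum_congr rfl fun ψ _ => ?_
      rw [H12.classInner_smul_left, classInner_resC (H12.isCharacter_irr ψ), Nat.cast_mul]
    have hexψ : ∃ ψ : IrrCharacter G, ψ ≠ H12.oneIrr G ∧ mm ψ ≠ 0 ∧
        mult (P := P) (ψ : G → ℂ) (H12.oneIrr CC) ≠ 0 := by
      by_contra hno
      apply hirr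
      rw [hself, Finset.sum_eq_single (H12.oneIrr G) (fun ψ _ hne => by
        by_cases h0 : mm ψ = 0
        · simp [h0]
        · by_cases h1 : mult (P := P) (ψ : G → ℂ) (H12.oneIrr CC) = 0
          · rw [h1, Nat.mul_zero, Nat.cast_zero]
          · exact absurd ⟨ψ, hne, h0, h1⟩ hno) (by simp), hone, one_mul]
      rw [← classInner_resC (H12.isCharacter_irr (H12.oneIrr G))]
      exact H12.classInner_irr_self (H12.oneIrr CC)
    obtain ⟨ψ, hψ1, hm0, hd⟩ := hexψ
    have hb1 : tDeg P (ψ : G → ℂ) ≤ tDeg P f2 := by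
      have : tDeg P f2 = ∑ φ : IrrCharacter G, (mm φ : ℝ) * tDeg P (φ : G → ℂ) := by
        simp only [tDeg, Finset.mul_sum]
        rw [Finset.sum_comm]
        refine Finset.sum_congr rfl fun u _ => ?_
        rw [hmm', hmm', ← Finset.sum_sub_distrib, Complex.re_sum]
        exact Finset.sum_congr rfl fun φ _ => by rw [← mul_sub]; simp
      rw [this]
      refine le_trans ?_ (Finset.single_le_sum (fun φ _ => mul_nonneg (Nat.cast_nonneg _)
        (tDeg_nonneg hU (H12.isCharacter_irr φ))) (Finset.mem_univ ψ))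
      exact le_mul_of_one_le_left (tDeg_nonneg hU (H12.isCharacter_irr ψ))
        (by exact_mod_cast Nat.one_le_iff_ne_zero.2 hm0)
    have hb2 : tDeg P f2 + ∑ u : PP, Complex.normSq ((χ : G → ℂ) u)
        = (Nat.card PP : ℝ) * (x : ℝ) ^ 2 := by
      rw [tDeg, ← Finset.sum_add_distrib]
      have : ∀ u : PP, (f2 1 - f2 u).re + Complex.normSq ((χ : G → ℂ) u) = (x : ℝ) ^ 2 := by
        intro u
        simp [hf2, Complex.mul_conj, H12.irr_apply_one χ, ← hx, pow_two]
      simp only [this, Finset.sum_const, Finset.card_univ, nsmul_eq_mul,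
        Nat.card_eq_fintype_card]
    have hb3 : (Nat.card PP : ℝ) * (((occ hU (ψ : G → ℂ)).card : ℝ) + (e : ℝ))
        ≤ (Nat.card PP : ℝ) * (x : ℝ) ^ 2 := by
      have h1 := card_occ_le_tDeg hU (H12.isCharacter_irr ψ)
      have h2 := card_occ_le_normSq_sum hU hχc
      have h3 : (e : ℝ) ≤ ((occ hU (χ : G → ℂ)).card : ℝ) := by exact_mod_cast hocc χ hχ1
      have h4 := mul_le_mul_of_nonneg_left h3 (Nat.cast_nonneg (α := ℝ) (Nat.card PP))
      linarith
    have hb4 : (occ hU (ψ : G → ℂ)).card + e ≤ x ^ 2 := by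
      exact_mod_cast le_of_mul_le_mul_left hb3 (by exact_mod_cast Nat.card_pos)
    refine key hU ψ hψ1 hd hq (hocc ψ hψ1) ?_
    obtain ⟨t, ht⟩ := eIdx_dvd_card_sub_one hU
    obtain ⟨k, hk⟩ := eIdx_dvd_card_occ hU (H12.isCharacter_irr ψ)
    rw [← he] at ht hk ⊢
    have h5 : e * (k + 1) < e * t := by
      have : e * (k + 1) = e * k + e := by ring
      omega
    have h6 : k + 2 ≤ t := Nat.lt_of_mul_lt_mul_left h5
    have h7 := Nat.mul_le_mul_left e h6
    have : e * (k + 2) = e * k + 2 * e := by ring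
    omega

end H13.UC
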