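import Cfsg.Agent.H13.UniformCentralizer

/-!
# Faithful characters of small degree and uniform centralisers
-/

set_option autoImplicit false

open Cfsg

namespace H13.UC

universe u

theorem normal_of_faithful_aux (k : ℕ) : ∀ {G : Type u} [Group G] [Finite G] {p : ℕ}
    [Fact p.Prime] (P : Sylow p G),
    Nat.card G ≤ k →
    (∀ x ∈ (P : Subgroup G), x ≠ 1 →
      Subgroup.centralizer ({x} : Set G) = Subgroup.centralizer ((P : Subgroup G) : Set G)) →
    ∀ (χ : G → ℂ), IsCharacter G χ → (∀ g : G, χ g = χ 1 → g = 1) →
    H12.degree χ ^ 2 + 1 < Nat.card (P : Subgroup G) → (P : Subgroup G).Normal := by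
  induction k with
  | zero =>
    intro G _ _ p _ P hk
    have := Nat.card_pos (α := G)
    omega
  | succ k ih =>
    intro G _ _ p _ P hk hstar χ hχ hfaith hdeg
    classical
    haveI := Fintype.ofFinite G
    by_cases hL : ∃ L : Subgroup G, L.Normal ∧ (P : Subgroup G) ≤ L ∧ L ≠ ⊤
    · obtain ⟨L, hLn, hPL, hLt⟩ := hL
      haveI := hLn
      have hcard : Nat.card L ≤ k := by
        have h1 : Nat.card L < Nat.card G :=
          lt_of_le_of_ne (Subgroup.card_le_card_group L) fun h => hLt (Subgroup.eq_top_of_card_eq L h)
        omega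
      have hc : ∀ (x : L), x ∈ (P.subtype hPL : Subgroup L) → x ≠ 1 →
          Subgroup.centralizer ({x} : Set L)
            = Subgroup.centralizer (((P.subtype hPL : Subgroup L)) : Set L) := by
        intro x hx hx1
        have hx' : (x : G) ∈ (P : Subgroup G) := hx
        have hne : (x : G) ≠ 1 := fun h => hx1 (Subtype.ext h)
        have hG := hstar _ hx' hne
        ext y
        rw [Subgroup.mem_centralizer_singleton_iff, Subgroup.mem_centralizer_iff]
        constructor
        · intro hy z hz
          have hy' : (y : G) ∈ Subgroup.centralizer ({(x : G)} : Set G) :=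
            Subgroup.mem_centralizer_singleton_iff.2 (congrArg Subtype.val hy)
          rw [hG] at hy'
          exact Subtype.ext (Subgroup.mem_centralizer_iff.1 hy' (z : G) hz)
        · intro hy
          exact (hy x hx).symm
      have hn := ih (P.subtype hPL) hcard hc (fun l : L => χ l) (H12.IsCharacter.res hχ L)
        (fun l hl => Subtype.ext (hfaith (l : G) hl))
        (by
          have e : Nat.card (P.subtype hPL : Subgroup L) = Nat.card (P : Subgroup G) :=
            Nat.card_congr (Subgroup.subgroupOfEquivOfLe hPL).toEquiv
          rw [e]; exact hdeg)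
      haveI := hn
      haveI := Sylow.characteristic_of_normal (P.subtype hPL) hn
      have h2 : ((P.subtype hPL : Subgroup L).map L.subtype).Normal := inferInstance
      have e : (P.subtype hPL : Subgroup L).map L.subtype = (P : Subgroup G) := by
        rw [Sylow.coe_subtype, Subgroup.subgroupOf_map_subtype, inf_eq_left]
        exact hPL
      rwa [e] at h2
    · have hnc : ∀ K : Subgroup G, K.Normal → (P : Subgroup G) ≤ K → K = ⊤ := fun K hK hPK => by
        by_contra h
        exact hL ⟨K, hK, hPK, h⟩
      obtain ⟨m, hm⟩ := H12.IsCharacter.exists_mult hχ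
      have hval : ∀ g, χ g = ∑ φ : IrrCharacter G, (m φ : ℂ) * (φ : G → ℂ) g := fun g => by
        rw [hm]; simp
      have hlin : ∀ φ : IrrCharacter G, m φ ≠ 0 → (φ : G → ℂ) 1 = 1 := by
        intro φ hφ
        by_cases hone : φ = H12.oneIrr G
        · rw [hone]; rfl
        · have hle : H12.degree (φ : G → ℂ) ≤ H12.degree χ := by
            have h1 := hval 1
            simp only [H12.irr_apply_one, H12.IsCharacter.apply_one_eq_degree hχ] at h1
            have h2 : H12.degree χ = ∑ φ : IrrCharacter G, m φ * H12.degree (φ : G → ℂ) := by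
              exact_mod_cast h1
            rw [h2]
            exact le_trans (Nat.le_mul_of_pos_left _ (Nat.pos_of_ne_zero hφ))
              (Finset.single_le_sum (f := fun φ : IrrCharacter G => m φ * H12.degree (φ : G → ℂ))
                (fun _ _ => Nat.zero_le _) (Finset.mem_univ φ))
          have h3 := Nat.pow_le_pow_left hle 2
          obtain ⟨h4, -⟩ := main (P := P) hstar hnc φ hone (by omega)
          rw [H12.irr_apply_one, h4, Nat.cast_one]
      have hcomm : ∀ a b : G, a * b = b * a := by
        intro a b
        have h : a * b * a⁻¹ * b⁻¹ = 1 := by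
          apply hfaith
          rw [hval, hval]
          refine Finset.sum_congr rfl fun φ _ => ?_
          by_cases hφ : m φ = 0
          · simp [hφ]
          · rw [H13.linear_commutator (H12.isCharacter_irr φ) (hlin φ hφ), hlin φ hφ]
        calc a * b = a * b * a⁻¹ * b⁻¹ * (b * a) := by group
          _ = b * a := by rw [h, one_mul]
      exact ⟨fun x hx g => by rw [hcomm g x, mul_inv_cancel_right]; exact hx⟩

/-- A faithful character of small degree forces a normal Sylow subgroup. -/
theorem normal_of_faithful {G : Type u} [Group G] [Finite G] {p : ℕ} [Fact p.Prime]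
    (P : Sylow p G)
    (hstar : ∀ x ∈ (P : Subgroup G), x ≠ 1 →
      Subgroup.centralizer ({x} : Set G) = Subgroup.centralizer ((P : Subgroup G) : Set G))
    (χ : G → ℂ) (hχ : IsCharacter G χ) (hfaith : ∀ g : G, χ g = χ 1 → g = 1)
    (hdeg : H12.degree χ ^ 2 + 1 < Nat.card (P : Subgroup G)) : (P : Subgroup G).Normal :=
  normal_of_faithful_aux (Nat.card G) P le_rfl hstar χ hχ hfaith hdeg

end H13.UC
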