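import Cfsg.Agent.H13.PermChar
import Mathlib.GroupTheory.GroupAction.Primitive

/-!
# Rank three groups of Wielandt type
-/

set_option autoImplicit false
set_option linter.unusedSectionVars false

open Cfsg Module
open scoped ComplexConjugate

namespace H13

universe u w

theorem wielandt_arith (m k : ℕ) (hk1 : 1 ≤ k) (hkm : k + 1 ≤ m) (t : ℤ)
    (h : (k : ℤ) ^ 2 + ((m : ℤ) - 1) * ((k : ℤ) + m * t) ^ 2 + m * (t - ((k : ℤ) + m * t)) ^ 2
      = 2 * m * k) :
    (t = 0 ∧ k = 1) ∨ ∃ a : ℕ, 0 < a ∧ m = 2 * a ^ 2 + 2 * a + 1 ∧ k = a * (2 * a + 1) := by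
  have hm : (1 : ℤ) ≤ (m : ℤ) - 1 := by omega
  set r : ℤ := (k : ℤ) + m * t with hr
  have hr2 : r ^ 2 ≤ 2 * m := by
    have h1 : ((m : ℤ) - 1) * r ^ 2 ≤ 2 * m * ((m : ℤ) - 1) := by
      nlinarith [mul_nonneg (show (0 : ℤ) ≤ m by positivity) (sq_nonneg (t - r)),
        sq_nonneg (k : ℤ), mul_le_mul_of_nonneg_left (show (k : ℤ) ≤ (m : ℤ) - 1 by omega)
          (show (0 : ℤ) ≤ 2 * m by positivity)]
    exact le_of_mul_le_mul_left (by linarith) (show (0 : ℤ) < (m : ℤ) - 1 by omega)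
  have hlt : 2 * (m : ℤ) < ((m : ℤ) + 1) ^ 2 := by nlinarith
  have hlo : -((m : ℤ) + 1) < r := by
    by_contra hh
    nlinarith
  have hhi : r < (m : ℤ) + 1 := by
    by_contra hh
    nlinarith
  have ht : t = 0 ∨ t = -1 := by
    rcases le_or_gt t (-2) with h1 | h1
    · exfalso
      nlinarith
    rcases le_or_gt 1 t with h2 | h2
    · exfalso
      nlinarith
    omega
  rcases ht with ht | ht
  · left
    refine ⟨ht, ?_⟩
    rw [hr, ht] at h
    have h1 : (2 * (m : ℤ) * k) * ((k : ℤ) - 1) = 0 := by linear_combination h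
    rcases mul_eq_zero.1 h1 with h2 | h2
    · exfalso
      have : (0 : ℤ) < 2 * m * k := by
        have hm0 : (0 : ℤ) < m := by omega
        have hk0 : (0 : ℤ) < k := by omega
        positivity
      omega
    · omega
  · right
    obtain ⟨a, ha⟩ : ∃ a : ℕ, (a : ℤ) = (m : ℤ) - k - 1 :=
      ⟨m - k - 1, by omega⟩
    have hk : (k : ℤ) = (m : ℤ) - a - 1 := by omega
    rw [hr, ht, hk] at h
    have h1 : (m : ℤ) * ((m : ℤ) - ((a + 1) ^ 2 + (a : ℤ) ^ 2)) = 0 := by linear_combination -h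
    have h2 : (m : ℤ) = ((a : ℤ) + 1) ^ 2 + (a : ℤ) ^ 2 := by
      rcases mul_eq_zero.1 h1 with h3 | h3
      · omega
      · linarith
    refine ⟨a, ?_, ?_, ?_⟩
    · rcases Nat.eq_zero_or_pos a with h0 | h0
      · exfalso; subst h0; norm_num at h2; omega
      · exact h0
    · have : (m : ℤ) = 2 * (a : ℤ) ^ 2 + 2 * a + 1 := by rw [h2]; ring
      exact_mod_cast this
    · have : (k : ℤ) = (a : ℤ) * (2 * a + 1) := by rw [hk, h2]; ring
      exact_mod_cast this

variable {G : Type u} [Group G] [Fintype G] {Ω : Type w} [Fintype Ω] [MulAction G Ω]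

theorem stabilizer_orbit_one_false [MulAction.IsPreprimitive G Ω] {a b : Ω} (hab : b ≠ a)
    (h : Nat.card (MulAction.orbit (MulAction.stabilizer G a) b) = 1) :
    ∀ x : Ω, Nat.card (MulAction.orbit (MulAction.stabilizer G a) x) = 1 := by
  haveI : Nontrivial Ω := ⟨⟨b, a, hab⟩⟩
  have hfix : ∀ g ∈ MulAction.stabilizer G a, g • b = b := by
    intro g hg
    obtain ⟨hsub, -⟩ := Nat.card_eq_one_iff_unique.1 h
    exact congrArg Subtype.val (hsub.elim
      ⟨g • b, ⟨⟨g, hg⟩, rfl⟩⟩ ⟨b, MulAction.mem_orbit_self b⟩)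
  obtain ⟨t, ht⟩ := MulAction.exists_smul_eq G a b
  have hconj : ∀ g ∈ MulAction.stabilizer G a, t⁻¹ * g * t ∈ MulAction.stabilizer G a := by
    intro g hg
    rw [MulAction.mem_stabilizer_iff, mul_smul, mul_smul, ht, hfix g hg, ← ht, inv_smul_smul]
  have hmax := MulAction.IsPreprimitive.isCoatom_stabilizer_of_isPreprimitive (G := G) a
  have htn : t⁻¹ ∈ Subgroup.normalizer (MulAction.stabilizer G a : Set G) := by
    rw [Subgroup.mem_normalizer_iff]
    intro g
    refine ⟨fun hg => by simpa using hconj g hg, fun hg => ?_⟩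
    have hinj : Function.Injective (fun g : MulAction.stabilizer G a =>
        (⟨t⁻¹ * g * t, hconj g g.2⟩ : MulAction.stabilizer G a)) := fun x y hxy =>
      Subtype.ext (mul_right_cancel (mul_left_cancel (by
        simpa [mul_assoc] using congrArg Subtype.val hxy : t⁻¹ * ((x : G) * t) = t⁻¹ * ((y : G) * t))))
    obtain ⟨y, hy⟩ := Finite.surjective_of_injective hinj ⟨t⁻¹ * g * t, by simpa using hg⟩
    have hy' : t⁻¹ * (y : G) * t = t⁻¹ * g * t := by simpa using congrArg Subtype.val hy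
    have : (y : G) = g := mul_left_cancel (mul_right_cancel hy')
    exact this ▸ y.2
  have htop : Subgroup.normalizer (MulAction.stabilizer G a : Set G) = ⊤ := by
    refine (hmax.le_iff.1 (Subgroup.le_normalizer)).resolve_right fun heq => ?_
    rw [heq, MulAction.mem_stabilizer_iff, inv_smul_eq_iff, ht] at htn
    exact hab htn.symm
  intro x
  rw [Nat.card_eq_one_iff_unique]
  refine ⟨⟨?_⟩, ⟨⟨x, MulAction.mem_orbit_self x⟩⟩⟩
  have hall : ∀ g : MulAction.stabilizer G a, (g : G) • x = x := by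
    intro g
    obtain ⟨s, rfl⟩ := MulAction.exists_smul_eq G a x
    have hs : s⁻¹ * (g : G) * s ∈ MulAction.stabilizer G a := by
      have hn : s⁻¹ ∈ Subgroup.normalizer (MulAction.stabilizer G a : Set G) :=
        htop ▸ Subgroup.mem_top _
      simpa using (Subgroup.mem_normalizer_iff.1 hn (g : G)).1 g.2
    rw [MulAction.mem_stabilizer_iff, mul_smul, mul_smul, inv_smul_eq_iff] at hs
    exact hs
  rintro ⟨_, g, rfl⟩ ⟨_, g', rfl⟩
  exact Subtype.ext ((hall g).trans (hall g').symm)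

open scoped Classical in
theorem wielandt_rank_three [MulAction.IsPreprimitive G Ω] {m : ℕ} (hm : Fintype.card Ω = 2 * m)
    (a₀ : Ω) (hrank : Nat.card (MulAction.orbitRel.Quotient (MulAction.stabilizer G a₀) Ω) = 3)
    (χ₁ χ₂ : IrrCharacter G)
    (hπ : (permRep ℂ G Ω).character = fun g => 1 + (χ₁ : G → ℂ) g + (χ₂ : G → ℂ) g)
    (hd₁ : (χ₁ : G → ℂ) 1 = (m : ℂ) - 1) (hd₂ : (χ₂ : G → ℂ) 1 = m) :
    ∃ a : ℕ, 0 < a ∧ m = 2 * a ^ 2 + 2 * a + 1 ∧ ∀ b : Ω, b ≠ a₀ →
      Nat.card (MulAction.orbit (MulAction.stabilizer G a₀) b) = a * (2 * a + 1) ∨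
      Nat.card (MulAction.orbit (MulAction.stabilizer G a₀) b) = (a + 1) * (2 * a + 1) := by
  classical
  set ρ := permRep ℂ G Ω with hρ
  set o := H12.oneIrr G with ho
  set H := MulAction.stabilizer G a₀ with hH
  haveI : Fintype (MulAction.orbitRel.Quotient H Ω) := Fintype.ofFinite _
  have h12 : χ₁ ≠ χ₂ := by
    intro h
    rw [h, hd₂] at hd₁
    exact one_ne_zero (sub_eq_self.1 hd₁.symm)
  have hπ' : ρ.character = (o : G → ℂ) + (χ₁ : G → ℂ) + (χ₂ : G → ℂ) := by
    rw [hπ]; rfl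
  have hinner : ∀ χ : IrrCharacter G, classInner ρ.character χ
      = (if o = χ then 1 else 0) + (if χ₁ = χ then 1 else 0) + (if χ₂ = χ then 1 else 0) := by
    intro χ
    rw [hπ', H12.classInner_add_left, H12.classInner_add_left, H12.classInner_irr,
      H12.classInner_irr, H12.classInner_irr]
  have hone := classInner_permRep_one (G := G) a₀
  rw [hinner] at hone
  have ho1 : χ₁ ≠ o := by
    intro h
    rw [if_pos (rfl : H12.oneIrr G = H12.oneIrr G), if_pos h,
      if_neg (fun e : χ₂ = H12.oneIrr G => h12 (h.trans e.symm))] at hone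
    norm_num at hone
  have ho2 : χ₂ ≠ o := by
    intro h
    rw [if_pos (rfl : H12.oneIrr G = H12.oneIrr G), if_pos h,
      if_neg (fun e : χ₁ = H12.oneIrr G => h12 (e.trans h.symm))] at hone
    norm_num at hone
  have hmult : ∀ χ : IrrCharacter G, classInner ρ.character χ
      = if χ = o ∨ χ = χ₁ ∨ χ = χ₂ then 1 else 0 := by
    intro χ
    rw [hinner]
    by_cases e0 : χ = o
    · subst e0; simp [ho1, ho2]
    by_cases e1 : χ = χ₁
    · subst e1; simp [Ne.symm ho1, Ne.symm h12]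
    by_cases e2 : χ = χ₂
    · subst e2; simp [Ne.symm ho2, h12]
    simp [Ne.symm e0, Ne.symm e1, Ne.symm e2, e0, e1, e2]
  have hmf : MultFree ρ := fun χ => by
    rw [hmult]
    split_ifs
    · exact Or.inr rfl
    · exact Or.inl rfl
  have hmpos : 2 ≤ m := by
    by_contra h
    have h3 : Nat.card (MulAction.orbitRel.Quotient H Ω) ≤ Nat.card Ω :=
      Nat.card_le_card_of_surjective (Quotient.mk _) Quotient.mk_surjective
    rw [hrank, Nat.card_eq_fintype_card, hm] at h3
    omega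
  have hreal : ∀ χ : IrrCharacter G, classInner ρ.character χ ≠ 0 → H12.conjIrr χ = χ := by
    intro χ hχ
    have hc : classInner ρ.character (H12.conjIrr χ) = classInner ρ.character χ := by
      have h1 : ∀ g, conj (ρ.character g) = ρ.character g := fun g => by
        rw [permRep_character, Complex.conj_natCast]
      obtain ⟨n, hn⟩ := H12.IsCharacter.classInner_nat (H12.isCharacter_character ρ)
        (H12.isCharacter_irr χ)
      rw [hn, ← Complex.conj_natCast n, ← hn]
      simp only [H12.classInner_def, map_mul, map_sum, map_inv₀, Complex.conj_natCast,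
        Complex.conj_conj, H12.conjIrr_apply, h1]
    have hdeg : (H12.conjIrr χ : G → ℂ) 1 = (χ : G → ℂ) 1 := by
      rw [H12.conjIrr_apply, H12.irr_apply_one, Complex.conj_natCast]
    rw [hmult, hmult] at hc
    rw [hmult] at hχ
    have hin : χ = o ∨ χ = χ₁ ∨ χ = χ₂ := by
      by_contra h
      rw [if_neg h] at hχ
      exact hχ rfl
    rw [if_pos hin] at hc
    have hin' : H12.conjIrr χ = o ∨ H12.conjIrr χ = χ₁ ∨ H12.conjIrr χ = χ₂ := by
      by_contra h
      rw [if_neg h] at hc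
      exact zero_ne_one hc
    have hoo : H12.conjIrr o = o := Subtype.ext (funext fun g => by
      rw [H12.conjIrr_apply, ho, H12.oneIrr_apply, map_one])
    rcases hin with e | e | e <;> subst e
    · exact hoo
    · rcases hin' with e' | e' | e'
      · have h2 := congrArg H12.conjIrr e'
        rw [H12.conjIrr_conjIrr, hoo] at h2
        exact absurd h2 ho1
      · exact e'
      · rw [e', hd₂, hd₁] at hdeg
        exact absurd (sub_eq_self.1 hdeg.symm) one_ne_zero
    · rcases hin' with e' | e' | e'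
      · have h2 := congrArg H12.conjIrr e'
        rw [H12.conjIrr_conjIrr, hoo] at h2
        exact absurd h2 ho2
      · rw [e', hd₂, hd₁] at hdeg
        exact absurd (sub_eq_self.1 hdeg) one_ne_zero
      · exact e'
  have hsp := selfPaired_iff.2 (fun χ hχ =>
    ⟨(hmf χ).resolve_left hχ, fun g => congrFun (congrArg Subtype.val (hreal χ hχ)) g⟩)
  -- the three suborbits
  have horb : ∀ x b : Ω, x ∈ MulAction.orbit H b →
      Nat.card (MulAction.orbit H x) = Nat.card (MulAction.orbit H b) := fun x b hx => by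
    rw [MulAction.orbit_eq_iff.2 hx]
  have hclass : ∀ x : Ω, (Quotient.mk'' x : MulAction.orbitRel.Quotient H Ω).out ∈
      MulAction.orbit H x := fun x =>
    MulAction.orbitRel_apply.mp (Quotient.exact' (Quotient.out_eq'
      (Quotient.mk'' x : MulAction.orbitRel.Quotient H Ω)))
  obtain ⟨q₁, q₂, hq12, hq1, hq2⟩ : ∃ q₁ q₂ : MulAction.orbitRel.Quotient H Ω, q₁ ≠ q₂ ∧
      q₁ ≠ Quotient.mk'' a₀ ∧ q₂ ≠ Quotient.mk'' a₀ := by
    have hcard : (Finset.univ.erase (Quotient.mk'' a₀ : MulAction.orbitRel.Quotient H Ω)).card = 2 := by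
      rw [Finset.card_erase_of_mem (Finset.mem_univ _), Finset.card_univ, ← Nat.card_eq_fintype_card,
        hrank]
    obtain ⟨x, y, hxy, he⟩ := Finset.card_eq_two.1 hcard
    refine ⟨x, y, hxy, ?_, ?_⟩
    · exact Finset.ne_of_mem_erase (s := Finset.univ) (by rw [he]; simp)
    · exact Finset.ne_of_mem_erase (s := Finset.univ) (by rw [he]; simp)
  have hall : ∀ q : MulAction.orbitRel.Quotient H Ω,
      q = Quotient.mk'' a₀ ∨ q = q₁ ∨ q = q₂ := by
    intro q
    by_contra h
    simp only [not_or] at h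
    have h4 := Finset.card_le_univ
      ({Quotient.mk'' a₀, q₁, q₂, q} : Finset (MulAction.orbitRel.Quotient H Ω))
    rw [Finset.card_insert_of_notMem (by simp [hq1.symm, hq2.symm, Ne.symm h.1]),
      Finset.card_insert_of_notMem (by simp [hq12, Ne.symm h.2.1]),
      Finset.card_insert_of_notMem (by simp [Ne.symm h.2.2]), Finset.card_singleton,
      ← Nat.card_eq_fintype_card, hrank] at h4
    omega
  have ha1 : Nat.card (MulAction.orbit H a₀) = 1 := by
    rw [Nat.card_eq_one_iff_unique]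
    refine ⟨⟨?_⟩, ⟨⟨a₀, MulAction.mem_orbit_self a₀⟩⟩⟩
    rintro ⟨_, g, rfl⟩ ⟨_, h, rfl⟩
    exact Subtype.ext (g.2.trans h.2.symm)
  have hsum : 1 + Nat.card (MulAction.orbit H q₁.out) + Nat.card (MulAction.orbit H q₂.out)
      = 2 * m := by
    have hN : ∑ q : MulAction.orbitRel.Quotient H Ω, Nat.card (MulAction.orbit H q.out) = 2 * m := by
      rw [← hm, ← Nat.card_sigma, ← Nat.card_eq_fintype_card]
      exact Nat.card_congr (MulAction.selfEquivSigmaOrbits _ Ω).symm
    have huniv : (Finset.univ : Finset (MulAction.orbitRel.Quotient H Ω))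
        = {Quotient.mk'' a₀, q₁, q₂} := by
      symm
      rw [Finset.eq_univ_iff_forall]
      intro q
      rcases hall q with h | h | h <;> simp [h]
    rw [huniv, Finset.sum_insert (by simp [hq1.symm, hq2.symm]),
      Finset.sum_insert (by simp [hq12]), Finset.sum_singleton,
      horb _ _ (hclass a₀), ha1] at hN
    omega
  -- pick the smaller one
  obtain ⟨b, c, hbc, hba, hca, hcases, hb⟩ : ∃ b c : Ω, b ∉ MulAction.orbit H c ∧ b ≠ a₀ ∧ c ≠ a₀ ∧
      (∀ x : Ω, x ≠ a₀ → x ∈ MulAction.orbit H b ∨ x ∈ MulAction.orbit H c) ∧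
      (1 + Nat.card (MulAction.orbit H b) + Nat.card (MulAction.orbit H c) = 2 * m ∧
        Nat.card (MulAction.orbit H b) + 1 ≤ m) := by
    have hout : ∀ q : MulAction.orbitRel.Quotient H Ω, q ≠ Quotient.mk'' a₀ → q.out ≠ a₀ := by
      intro q hq h
      exact hq (by rw [← Quotient.out_eq' q, h])
    have hne : ∀ q q' : MulAction.orbitRel.Quotient H Ω, q ≠ q' →
        q.out ∉ MulAction.orbit H q'.out := by
      intro q q' hq h
      apply hq
      rw [← Quotient.out_eq' q, ← Quotient.out_eq' q']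
      exact Quotient.sound' (MulAction.orbitRel_apply.mpr h)
    have hcov : ∀ x : Ω, x ≠ a₀ → x ∈ MulAction.orbit H q₁.out ∨ x ∈ MulAction.orbit H q₂.out := by
      intro x hx
      rcases hall (Quotient.mk'' x) with h | h | h
      · exfalso
        obtain ⟨g, hg⟩ : x ∈ MulAction.orbit H a₀ :=
          MulAction.orbitRel_apply.mp (Quotient.exact' h)
        exact hx (hg.symm.trans g.2)
      · left
        rw [← h]
        exact MulAction.mem_orbit_symm.1 (hclass x)
      · right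
        rw [← h]
        exact MulAction.mem_orbit_symm.1 (hclass x)
    rcases le_or_gt (Nat.card (MulAction.orbit H q₁.out) + 1) m with h | h
    · exact ⟨q₁.out, q₂.out, hne _ _ hq12, hout _ hq1, hout _ hq2, hcov, hsum, h⟩
    · exact ⟨q₂.out, q₁.out, hne _ _ hq12.symm, hout _ hq2, hout _ hq1,
        fun x hx => (hcov x hx).symm, by omega, by omega⟩
  obtain ⟨hbcsum, hkm⟩ := hb
  set k := Nat.card (MulAction.orbit H b) with hk
  have hk1 : 1 ≤ k := by
    haveI : Nonempty (MulAction.orbit H b) := ⟨⟨b, MulAction.mem_orbit_self b⟩⟩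
    exact Nat.card_pos
  have hk2 : k ≠ 1 := by
    intro h
    have h1 := stabilizer_orbit_one_false hba h
    have h2 : Nat.card (MulAction.orbit H c) = 1 := h1 c
    omega
  set A := orbOp G a₀ b with hA
  have hent : ∀ x y, entry A x y = if ∃ g : G, g • a₀ = x ∧ g • b = y then 1 else 0 :=
    fun x y => by
      rw [hA]
      convert entry_orbOp (G := G) a₀ b x y using 2
  have hAsymm : ∀ x y, entry A x y = entry A y x := by
    intro x y
    obtain ⟨g, h1, h2⟩ := hsp x y
    rw [← (comm_iff_entry A).1 (orbOp_comm a₀ b) g x y, h1, h2]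
  have hA2c : ∀ g, (A * A) * ρ g = ρ g * (A * A) := fun g => by
    rw [mul_assoc, hA, orbOp_comm, ← mul_assoc, orbOp_comm, mul_assoc]
  have hdiag : ∀ x, entry A x x = 0 := fun x => by
    rw [hent, if_neg]
    rintro ⟨g, h1, h2⟩
    exact hba (smul_left_cancel g (h2.trans h1.symm))
  have hA2diag : ∀ x, entry (A * A) x x = (k : ℂ) := by
    intro x
    rw [entry_mul, hA, ← entry_row_orbOp a₀ b x]
    refine Finset.sum_congr rfl fun z _ => ?_
    rw [← hA, hAsymm z x, hent]
    split_ifs <;> simp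
  have hnat : ∀ x y, ∃ n : ℕ, entry (A * A) x y = n := fun x y => by
    rw [entry_mul]
    refine ⟨(Finset.univ.filter fun z => (∃ g : G, g • a₀ = x ∧ g • b = z) ∧
      ∃ g : G, g • a₀ = z ∧ g • b = y).card, ?_⟩
    rw [← Finset.sum_boole]
    refine Finset.sum_congr rfl fun z _ => ?_
    rw [hent, hent]
    split_ifs <;> simp_all
  obtain ⟨lam, hlam⟩ := hnat a₀ b
  obtain ⟨mu, hmu⟩ := hnat a₀ c
  let J : Module.End ℂ (Ω → ℂ) :=
    { toFun := fun v _ => ∑ y, v y
      map_add' := fun v w => funext fun _ => Finset.sum_add_distrib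
      map_smul' := fun c v => funext fun _ => by simp [Finset.mul_sum] }
  have hJe : ∀ x y, entry J x y = 1 := fun x y => by
    show ∑ z, (Pi.single y (1 : ℂ) : Ω → ℂ) z = 1
    rw [Finset.sum_eq_single y] <;> simp +contextual
  have hIe : ∀ x y, entry (1 : Module.End ℂ (Ω → ℂ)) x y = if x = y then 1 else 0 := fun x y => by
    show (Pi.single y (1 : ℂ) : Ω → ℂ) x = _
    rw [Pi.single_apply]
  have hcomb : A * A = ((k : ℂ) - mu) • (1 : Module.End ℂ (Ω → ℂ)) + ((lam : ℂ) - mu) • A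
      + (mu : ℂ) • J := by
    refine entry_ext fun x y => ?_
    have hlin : entry (((k : ℂ) - mu) • (1 : Module.End ℂ (Ω → ℂ)) + ((lam : ℂ) - mu) • A
        + (mu : ℂ) • J) x y = ((k : ℂ) - mu) * entry (1 : Module.End ℂ (Ω → ℂ)) x y
        + ((lam : ℂ) - mu) * entry A x y + (mu : ℂ) * entry J x y := rfl
    rw [hlin, hJe, hIe]
    by_cases hxy : x = y
    · subst hxy
      rw [hA2diag, hdiag, if_pos rfl]
      ring
    rw [if_neg hxy]
    obtain ⟨g, hg⟩ := MulAction.exists_smul_eq G x a₀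
    have hgy : g • y ≠ a₀ := fun h => hxy (smul_left_cancel g (hg.trans h.symm))
    rcases hcases _ hgy with h | h
    · obtain ⟨⟨u, hu⟩, hub⟩ := h
      have hub : u • b = g • y := hub
      have hx : (g⁻¹ * u) • a₀ = x := by
        rw [mul_smul, MulAction.mem_stabilizer_iff.1 hu, ← hg, inv_smul_smul]
      have hy : (g⁻¹ * u) • b = y := by rw [mul_smul, hub, inv_smul_smul]
      rw [hent, if_pos ⟨_, hx, hy⟩, ← hx, ← hy, (comm_iff_entry _).1 hA2c, hlam]
      ring
    · obtain ⟨⟨u, hu⟩, huc⟩ := h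
      have huc : u • c = g • y := huc
      have hx : (g⁻¹ * u) • a₀ = x := by
        rw [mul_smul, MulAction.mem_stabilizer_iff.1 hu, ← hg, inv_smul_smul]
      have hy : (g⁻¹ * u) • c = y := by rw [mul_smul, huc, inv_smul_smul]
      have hA0 : entry A a₀ c = 0 := by
        rw [hent, if_neg]
        rintro ⟨v, h1, h2⟩
        exact hbc (MulAction.mem_orbit_symm.1 ⟨⟨v, h1⟩, h2⟩)
      rw [← hx, ← hy, (comm_iff_entry _).1 hA2c, (comm_iff_entry A).1 (orbOp_comm a₀ b), hA0, hmu]
      ring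
  -- spectral decomposition
  obtain ⟨cc, hcc⟩ := exists_eq_sum_isoProj ρ hmf A (orbOp_comm a₀ b)
  have htr : ∀ χ : IrrCharacter G, LinearMap.trace ℂ (Ω → ℂ) (isoProj ρ χ)
      = (χ : G → ℂ) 1 * (if χ = o ∨ χ = χ₁ ∨ χ = χ₂ then 1 else 0) := fun χ => by
    rw [trace_isoProj, hmult]
  have hA3 : A = cc o • isoProj ρ o + cc χ₁ • isoProj ρ χ₁ + cc χ₂ • isoProj ρ χ₂ := by
    conv_lhs => rw [hcc]
    rw [← Finset.sum_subset (Finset.subset_univ ({o, χ₁, χ₂} : Finset (IrrCharacter G)))]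
    · rw [Finset.sum_insert (by simp [ho1.symm, ho2.symm]), Finset.sum_insert (by simp [h12]),
        Finset.sum_singleton, add_assoc]
    · intro χ _ hχ
      rw [(isoProj_eq_zero_iff ρ χ).2 (by
        rw [hmult, if_neg (by simpa using hχ)]), smul_zero]
  have he0 : isoProj ρ o = ((2 * m : ℕ) : ℂ)⁻¹ • J := by
    refine entry_ext fun x y => ?_
    show isoProj ρ o (Pi.single y 1) x = ((2 * m : ℕ) : ℂ)⁻¹ * entry J x y
    rw [hJe, mul_one, isoProj, H12.avgOp_apply, Finset.sum_apply]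
    simp only [ho, H12.oneIrr_apply, map_one, one_mul, mul_one, Pi.smul_apply, smul_eq_mul, hρ,
      single_smul, Pi.single_apply]
    rw [← Finset.mul_sum, Finset.sum_boole]
    obtain ⟨g0, hg0⟩ := MulAction.exists_smul_eq G y x
    have hcnt : (Finset.univ.filter fun g : G => x = g • y).card
        = Nat.card (MulAction.stabilizer G y) := by
      rw [← Fintype.card_subtype, ← Nat.card_eq_fintype_card]
      exact Nat.card_congr
        { toFun := fun g => ⟨g0⁻¹ * g.1, by
            rw [MulAction.mem_stabilizer_iff, mul_smul, ← g.2, ← hg0, inv_smul_smul]⟩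
          invFun := fun g => ⟨g0 * g.1, by
            rw [mul_smul, MulAction.mem_stabilizer_iff.1 g.2, hg0]⟩
          left_inv := fun g => Subtype.ext (mul_inv_cancel_left _ _)
          right_inv := fun g => Subtype.ext (inv_mul_cancel_left _ _) }
    rw [hcnt, ← hm, ← (MulAction.stabilizer G y).card_mul_index,
      MulAction.index_stabilizer_of_transitive, Nat.card_eq_fintype_card (α := Ω), Nat.cast_mul,
      mul_inv, mul_comm _⁻¹, mul_assoc, inv_mul_cancel₀ (Nat.cast_ne_zero.2 Nat.card_pos.ne'),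
      mul_one]
  have hmC : ((2 * m : ℕ) : ℂ) ≠ 0 := Nat.cast_ne_zero.2 (by omega)
  have hJ : J = ((2 * m : ℕ) : ℂ) • isoProj ρ o := by rw [he0, smul_smul, mul_inv_cancel₀ hmC, one_smul]
  have hsum1 : (1 : Module.End ℂ (Ω → ℂ)) = isoProj ρ o + isoProj ρ χ₁ + isoProj ρ χ₂ := by
    rw [← sum_isoProj ρ,
      ← Finset.sum_subset (Finset.subset_univ ({o, χ₁, χ₂} : Finset (IrrCharacter G)))]
    · rw [Finset.sum_insert (by simp [ho1.symm, ho2.symm]), Finset.sum_insert (by simp [h12]),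
        Finset.sum_singleton, add_assoc]
    · intro χ _ hχ
      exact (isoProj_eq_zero_iff ρ χ).2 (by rw [hmult, if_neg (by simpa using hχ)])
  have hee : ∀ χ : IrrCharacter G, isoProj ρ χ * isoProj ρ χ = isoProj ρ χ := fun χ => by
    rw [isoProj_mul, if_pos rfl]
  have hef : ∀ χ ψ : IrrCharacter G, χ ≠ ψ → isoProj ρ χ * isoProj ρ ψ = 0 := fun χ ψ h => by
    rw [isoProj_mul, if_neg h]
  have hne1 : ∀ χ : IrrCharacter G, (χ = χ₁ ∨ χ = χ₂) → isoProj ρ χ ≠ 0 := fun χ hχ h => by
    rw [isoProj_eq_zero_iff, hmult, if_pos (Or.inr hχ)] at h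
    exact one_ne_zero h
  have hAe : ∀ χ : IrrCharacter G, (χ = o ∨ χ = χ₁ ∨ χ = χ₂) →
      A * isoProj ρ χ = cc χ • isoProj ρ χ := by
    intro χ _
    conv_lhs => rw [hcc]
    rw [Finset.sum_mul, Finset.sum_eq_single χ (fun ψ _ h => by
      rw [smul_mul_assoc, hef ψ χ h, smul_zero]) (by simp), smul_mul_assoc, hee]
  have hquad : ∀ χ : IrrCharacter G, (χ = χ₁ ∨ χ = χ₂) →
      cc χ * cc χ = ((k : ℂ) - mu) + ((lam : ℂ) - mu) * cc χ := by
    intro χ hχ
    have h1 := congrArg (fun T => T * isoProj ρ χ) hcomb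
    simp only [mul_assoc A A, hAe χ (Or.inr hχ), mul_smul_comm, smul_smul, add_mul, smul_mul_assoc,
      one_mul, hJ] at h1
    rw [hef o χ (by rcases hχ with rfl | rfl; exacts [ho1.symm, ho2.symm]), smul_zero,
      add_zero, ← add_smul] at h1
    exact smul_left_injective ℂ (hne1 χ hχ) h1
  have hk0 : cc o = (k : ℂ) := by
    have h1 := congrArg (fun T : Module.End ℂ (Ω → ℂ) => T (fun _ => (1 : ℂ)) a₀) (hAe o (Or.inl rfl))
    have he1 : isoProj ρ o (fun _ : Ω => (1 : ℂ)) = fun _ => 1 := by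
      rw [he0]
      funext x
      show ((2 * m : ℕ) : ℂ)⁻¹ * ∑ _y : Ω, (1 : ℂ) = 1
      rw [Finset.sum_const, Finset.card_univ, hm, nsmul_one, inv_mul_cancel₀ hmC]
    simp only [Module.End.mul_apply, LinearMap.smul_apply, he1, Pi.smul_apply, smul_eq_mul,
      mul_one] at h1
    rw [← h1, apply_eq_sum_entry]
    simp only [mul_one]
    rw [hA, entry_row_orbOp]
  have ho0 : (o : G → ℂ) 1 = 1 := rfl
  have h2m : (Fintype.card Ω : ℂ) = 2 * m := by rw [hm]; push_cast; ring
  have t0 : LinearMap.trace ℂ (Ω → ℂ) (isoProj ρ o) = 1 := by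
    rw [htr, if_pos (Or.inl rfl), mul_one, ho0]
  have t1 : LinearMap.trace ℂ (Ω → ℂ) (isoProj ρ χ₁) = (m : ℂ) - 1 := by
    rw [htr, if_pos (Or.inr (Or.inl rfl)), mul_one, hd₁]
  have t2 : LinearMap.trace ℂ (Ω → ℂ) (isoProj ρ χ₂) = (m : ℂ) := by
    rw [htr, if_pos (Or.inr (Or.inr rfl)), mul_one, hd₂]
  have heq1 : cc o + ((m : ℂ) - 1) * cc χ₁ + m * cc χ₂ = 0 := by
    have h1 : LinearMap.trace ℂ (Ω → ℂ) A = 0 := by
      rw [trace_eq_sum_entry]
      exact Finset.sum_eq_zero fun x _ => hdiag x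
    rw [hA3] at h1
    simp only [map_add, map_smul, smul_eq_mul, t0, t1, t2] at h1
    linear_combination h1
  have heq2 : cc o ^ 2 + ((m : ℂ) - 1) * cc χ₁ ^ 2 + m * cc χ₂ ^ 2 = 2 * m * k := by
    have h1 : LinearMap.trace ℂ (Ω → ℂ) (A * A) = 2 * m * k := by
      rw [trace_eq_sum_entry, Finset.sum_congr rfl fun x _ => hA2diag x, Finset.sum_const,
        Finset.card_univ, nsmul_eq_mul, h2m]
    have h2 : A * A = (cc o * cc o) • isoProj ρ o + (cc χ₁ * cc χ₁) • isoProj ρ χ₁
        + (cc χ₂ * cc χ₂) • isoProj ρ χ₂ := by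
      conv_lhs => arg 2; rw [hA3]
      rw [mul_add, mul_add, mul_smul_comm, mul_smul_comm, mul_smul_comm, hAe o (Or.inl rfl),
        hAe χ₁ (Or.inr (Or.inl rfl)), hAe χ₂ (Or.inr (Or.inr rfl)), smul_smul, smul_smul, smul_smul]
    rw [h2] at h1
    simp only [map_add, map_smul, smul_eq_mul, t0, t1, t2] at h1
    linear_combination h1
  rw [hk0] at heq1 heq2
  have hq1' := hquad χ₁ (Or.inl rfl)
  have hq2' := hquad χ₂ (Or.inr rfl)
  have hne12 : cc χ₁ ≠ cc χ₂ := by
    intro h
    rw [← h] at heq1 heq2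
    have h3 : (k : ℂ) * ((k : ℂ) * (2 * m) - 2 * m * (2 * (m : ℂ) - 1)) = 0 := by
      linear_combination (2 * (m : ℂ) - 1) * heq2
        - ((2 * (m : ℂ) - 1) * cc χ₁ - k) * heq1
    rcases mul_eq_zero.1 h3 with h4 | h4
    · have : k = 0 := by exact_mod_cast h4
      omega
    · have h5 : ((k * (2 * m) + 2 * m : ℕ) : ℂ) = ((2 * m * (2 * m) : ℕ) : ℂ) := by
        push_cast; linear_combination h4
      have h6 : k * (2 * m) + 2 * m = 2 * m * (2 * m) := by exact_mod_cast h5
      nlinarith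
  have hsumrs : cc χ₁ + cc χ₂ = (lam : ℂ) - mu := by
    have h1 : (cc χ₁ - cc χ₂) * (cc χ₁ + cc χ₂ - ((lam : ℂ) - mu)) = 0 := by
      linear_combination hq1' - hq2'
    exact sub_eq_zero.1 ((mul_eq_zero.1 h1).resolve_left (sub_ne_zero.2 hne12))
  have hr : cc χ₁ = (k : ℂ) + m * ((lam : ℂ) - mu) := by
    linear_combination -heq1 + (m : ℂ) * hsumrs
  have hs : cc χ₂ = ((lam : ℂ) - mu) - ((k : ℂ) + m * ((lam : ℂ) - mu)) := by
    linear_combination hsumrs - hr
  rw [hr, hs] at heq2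
  have hz : ((k : ℤ) ^ 2 + ((m : ℤ) - 1) * ((k : ℤ) + m * ((lam : ℤ) - mu)) ^ 2
      + m * (((lam : ℤ) - mu) - ((k : ℤ) + m * ((lam : ℤ) - mu))) ^ 2) = 2 * m * k := by
    exact_mod_cast heq2
  rcases wielandt_arith m k hk1 hkm _ hz with ⟨-, h⟩ | ⟨a, ha, hma, hka⟩
  · exact absurd h hk2
  refine ⟨a, ha, hma, fun x hx => ?_⟩
  rcases hcases x hx with h | h
  · left
    rw [horb x b h, ← hk, hka]
  · right
    rw [horb x c h]
    have he : 1 + a * (2 * a + 1) + Nat.card (MulAction.orbit H c) = 2 * m := by rw [← hka]; exact hbcsum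
    have he2 : 1 + a * (2 * a + 1) + (a + 1) * (2 * a + 1) = 2 * m := by rw [hma]; ring
    omega

end H13
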